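import Mathlib
import Cfsg.Agent.BpExc.NChev

/-!
# The number of fixed elements in a product of root groups (helper261)

`FC R X τ g q` : abstract properties of an automorphism `τ` permuting the root groups `X a`, `a ∈ R` (via `g`): Lang's
theorem, commutator relations, `≥ q ^ m` fixed elements of `τ ^ m` in `X a` for `g^[m] a = a`.
* `FC.le_card` : `Ψ ⊆ R` closed, `g`-invariant, in an open half space: `τ` has at least `q ^ #Ψ` fixed elements in
  `⟨X a : a ∈ Ψ⟩`.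
-/

set_option autoImplicit false
set_option linter.unusedSectionVars false

namespace Cfsg.Agent.H261

open Cfsg.Agent.Nodes.BNOf Cfsg.Agent.BpExc.NInst
open scoped commutatorElement

/-- commutators of a generated subgroup -/
theorem comm_mem_of_gen {Y : Type*} [Group Y] {s : Set Y} {N : Subgroup Y}
    (hn : ∀ x ∈ s, ∀ n, x * n * x⁻¹ ∈ N ↔ n ∈ N) (hc : ∀ x ∈ s, ∀ y ∈ s, ⁅x, y⁆ ∈ N) :
    ∀ u ∈ Subgroup.closure s, ∀ v ∈ Subgroup.closure s, ⁅u, v⁆ ∈ N := by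
  have hn' : ∀ x ∈ Subgroup.closure s, ∀ n, x * n * x⁻¹ ∈ N ↔ n ∈ N := by
    intro x hx
    have h1 : Subgroup.closure s ≤ Subgroup.normalizer (N : Set Y) := by
      rw [Subgroup.closure_le]
      intro y hy
      exact Subgroup.mem_normalizer_iff.2 fun n => (hn y hy n).symm
    exact fun n => (Subgroup.mem_normalizer_iff.1 (h1 hx) n).symm
  have h1 : ∀ x ∈ s, ∀ v ∈ Subgroup.closure s, ⁅x, v⁆ ∈ N := by
    intro x hx v hv
    induction hv using Subgroup.closure_induction with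
    | mem y hy => exact hc x hx y hy
    | one => rw [commutatorElement_one_right]; exact one_mem N
    | mul a b ha _ iha ihb =>
      have e : ⁅x, a * b⁆ = ⁅x, a⁆ * (a * ⁅x, b⁆ * a⁻¹) := by
        simp only [commutatorElement_def]; group
      rw [e]
      exact mul_mem iha ((hn' a ha _).2 ihb)
    | inv a ha iha =>
      have e : ⁅x, a⁻¹⁆ = a⁻¹ * ⁅x, a⁆⁻¹ * a⁻¹⁻¹ := by
        simp only [commutatorElement_def]; group
      rw [e]
      exact (hn' a⁻¹ (inv_mem ha) _).2 (inv_mem iha)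
  intro u hu v hv
  induction hu using Subgroup.closure_induction with
  | mem y hy => exact h1 y hy v hv
  | one => rw [commutatorElement_one_left]; exact one_mem N
  | mul a b ha _ iha ihb =>
    have e : ⁅a * b, v⁆ = (a * ⁅b, v⁆ * a⁻¹) * ⁅a, v⁆ := by
      simp only [commutatorElement_def]; group
    rw [e]
    exact mul_mem ((hn' a ha _).2 ihb) iha
  | inv a ha iha =>
    have e : ⁅a⁻¹, v⁆ = a⁻¹ * ⁅a, v⁆⁻¹ * a⁻¹⁻¹ := by
      simp only [commutatorElement_def]; group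
    rw [e]
    exact (hn' a⁻¹ (inv_mem ha) _).2 (inv_mem iha)

/-- An automorphism permuting root groups. -/
structure FC {I Y : Type*} [Fintype I] [DecidableEq I] [Group Y] (R : Set (I → ℤ)) (X : (I → ℤ) → Subgroup Y) (τ : MulAut Y)
    (g : (I → ℤ) ≃+ (I → ℤ)) (q : ℕ) : Prop where
  fin : R.Finite
  map : ∀ a ∈ R, ∀ y, τ y ∈ X (g a) ↔ y ∈ X a
  comm : ∀ a ∈ R, ∀ b ∈ R, a ≠ b → a ≠ -b → ∀ x ∈ X a, ∀ y ∈ X b,
    ⁅x, y⁆ ∈ RGD.Sup X {z | z ∈ R ∧ ∃ i j : ℕ, 0 < i ∧ 0 < j ∧ z = i • a + j • b}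
  ab : ∀ a ∈ R, ∀ x ∈ X a, ∀ y ∈ X a, x * y = y * x
  lang : ∀ S ⊆ R, (∀ a ∈ S, g a ∈ S) → ∀ m ∈ RGD.Sup X S, ∃ y ∈ RGD.Sup X S, m = y⁻¹ * τ y
  cnt : ∀ a ∈ R, ∀ m, 0 < m → g^[m] a = a → Finite {y // y ∈ X a ∧ (τ ^ m) y = y} ∧
    q ^ m ≤ Nat.card {y // y ∈ X a ∧ (τ ^ m) y = y}
  sep : ∀ (f : (I → ℤ) →+ ℤ) (u : Y), u ∈ RGD.Sup X {x | x ∈ R ∧ 0 < f x} → u ∈ RGD.Sup X {x | x ∈ R ∧ f x < 0} → u = 1
  gen : ∀ Ψ ⊆ R, Ψ.Nonempty → ∀ lam : (I → ℤ) →+ ℤ, (∀ x ∈ Ψ, 0 < lam x) →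
    ∃ a ∈ Ψ, ∃ f : (I → ℤ) →+ ℤ, f a < 0 ∧ ∀ b ∈ Ψ, b ≠ a → 0 < f b

namespace FC

variable {I Y : Type*} [Fintype I] [DecidableEq I] [Group Y] {R : Set (I → ℤ)} {X : (I → ℤ) → Subgroup Y} {τ : MulAut Y}
  {g : (I → ℤ) ≃+ (I → ℤ)} {q : ℕ} (D : FC R X τ g q)

/-- the fixed elements in `⟨X a : a ∈ Ψ⟩` -/
def fx (X : (I → ℤ) → Subgroup Y) (τ : MulAut Y) (Ψ : Set (I → ℤ)) : Subgroup Y where
  carrier := {u | u ∈ RGD.Sup X Ψ ∧ τ u = u}
  mul_mem' := by
    rintro a b ⟨h1, h2⟩ ⟨h3, h4⟩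
    exact ⟨mul_mem h1 h3, by rw [map_mul, h2, h4]⟩
  one_mem' := ⟨one_mem _, map_one τ⟩
  inv_mem' := by
    rintro a ⟨h1, h2⟩
    exact ⟨inv_mem h1, by rw [map_inv, h2]⟩

theorem mem_fx {Ψ : Set (I → ℤ)} {u : Y} : u ∈ fx X τ Ψ ↔ u ∈ RGD.Sup X Ψ ∧ τ u = u := Iff.rfl

theorem Sup_eq_closure (Ψ : Set (I → ℤ)) : RGD.Sup X Ψ = Subgroup.closure {y | ∃ a ∈ Ψ, y ∈ X a} := by
  apply le_antisymm
  · exact RGD.Sup_le fun a ha y hy => Subgroup.subset_closure ⟨a, ha, hy⟩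
  · rw [Subgroup.closure_le]
    rintro y ⟨a, ha, hy⟩
    exact RGD.le_Sup ha hy

theorem iter_map (n : ℕ) (f : (I → ℤ) →+ ℤ) : ∃ f' : (I → ℤ) →+ ℤ, ∀ x, f' (g^[n] x) = f x := by
  induction n with
  | zero => exact ⟨f, fun x => rfl⟩
  | succ n ih =>
    obtain ⟨f', h⟩ := ih
    refine ⟨f'.comp g.symm.toAddMonoidHom, fun x => ?_⟩
    rw [Function.iterate_succ_apply']
    show f' (g.symm (g (g^[n] x))) = f x
    rw [AddEquiv.symm_apply_apply, h]

include D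

/-- **The lower bound for the number of fixed elements.** -/
theorem le_card (n : ℕ) : ∀ Ψ ⊆ R, Ψ.ncard = n → (∀ a, g a ∈ Ψ ↔ a ∈ Ψ) →
    (∀ a ∈ Ψ, ∀ b ∈ Ψ, ∀ i j : ℕ, 0 < i → 0 < j → i • a + j • b ∈ R → i • a + j • b ∈ Ψ) →
    ∀ lam : (I → ℤ) →+ ℤ, (∀ x ∈ Ψ, 0 < lam x) → Finite ↥(fx X τ Ψ) → q ^ n ≤ Nat.card ↥(fx X τ Ψ) := by
  induction n using Nat.strong_induction_on with
  | _ n ih =>
  intro Ψ hΨ hn hg hcl lam hlam hfin
  rcases Ψ.eq_empty_or_nonempty with rfl | hne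
  · rw [Set.ncard_empty] at hn
    rw [← hn, pow_zero]
    exact Nat.card_pos
  have hΨf : Ψ.Finite := D.fin.subset hΨ
  obtain ⟨a, ha, f, hfa, hfb⟩ := D.gen Ψ hΨ hne lam hlam
  have hiter : ∀ i b, g^[i] b ∈ Ψ ↔ b ∈ Ψ := by
    intro i
    induction i with
    | zero => intro b; rfl
    | succ i ihi => intro b; rw [Function.iterate_succ_apply', hg, ihi]
  -- the period
  have hinj : Function.Injective g := g.injective
  obtain ⟨m, hm0, hma, hmin⟩ : ∃ m, 0 < m ∧ g^[m] a = a ∧ ∀ i, 0 < i → i < m → g^[i] a ≠ a := by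
    have h1 : ∃ i j, i < j ∧ g^[i] a = g^[j] a := by
      have : Finite Ψ := hΨf.to_subtype
      obtain ⟨i, j, hij, h⟩ := Finite.exists_ne_map_eq_of_infinite (fun i : ℕ => (⟨g^[i] a, (hiter i a).2 ha⟩ : Ψ))
      have h' : g^[i] a = g^[j] a := congrArg Subtype.val h
      rcases lt_or_gt_of_ne hij with h1 | h1
      · exact ⟨i, j, h1, h'⟩
      · exact ⟨j, i, h1, h'.symm⟩
    obtain ⟨i, j, hij, h⟩ := h1
    have h2 : ∃ m, 0 < m ∧ g^[m] a = a := by
      refine ⟨j - i, by omega, ?_⟩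
      apply hinj.iterate i
      rw [← Function.iterate_add_apply, show i + (j - i) = j by omega, h]
    classical
    refine ⟨Nat.find h2, (Nat.find_spec h2).1, (Nat.find_spec h2).2, fun i h0 hi hcon => ?_⟩
    exact Nat.find_min h2 hi ⟨h0, hcon⟩
  -- the orbit
  set O : Set (I → ℤ) := {b | ∃ i, b = g^[i] a} with hO
  have hOmod : ∀ i, g^[i] a = g^[i % m] a := by
    intro i
    have h1 : ∀ k, g^[m * k] a = a := by
      intro k
      induction k with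
      | zero => rfl
      | succ k ihk => rw [Nat.mul_succ, Function.iterate_add_apply, hma, ihk]
    conv_lhs => rw [← Nat.mod_add_div i m]
    rw [Function.iterate_add_apply, h1]
  have hOne : ∀ i j, i < j → j < m → g^[i] a ≠ g^[j] a := by
    intro i j hij hj hcon
    refine hmin (j - i) (by omega) (by omega) ?_
    apply hinj.iterate i
    rw [← Function.iterate_add_apply, show i + (j - i) = j by omega, hcon]
  have hOsub : O ⊆ Ψ := by
    rintro _ ⟨i, rfl⟩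
    exact (hiter i a).2 ha
  have hOcard : O.ncard = m := by
    have h1 : O = (fun i : ℕ => g^[i] a) '' (Finset.range m : Set ℕ) := by
      ext b
      constructor
      · rintro ⟨i, rfl⟩
        exact ⟨i % m, by simpa using Nat.mod_lt i hm0, (hOmod i).symm⟩
      · rintro ⟨i, -, rfl⟩
        exact ⟨i, rfl⟩
    rw [h1, Set.InjOn.ncard_image, Set.ncard_coe_finset, Finset.card_range]
    intro i hi j hj hij
    simp only [Finset.coe_range, Set.mem_Iio] at hi hj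
    by_contra hne
    rcases lt_or_gt_of_ne hne with h2 | h2
    · exact hOne i j h2 hj hij
    · exact hOne j i h2 hi hij.symm
  -- functionals separating the elements of the orbit
  have hsepO : ∀ c ∈ O, ∃ f : (I → ℤ) →+ ℤ, f c < 0 ∧ ∀ b ∈ Ψ, b ≠ c → 0 < f b := by
    rintro c ⟨i, rfl⟩
    obtain ⟨f', hf'⟩ := iter_map (g := g) i f
    refine ⟨f', by rw [hf']; exact hfa, fun b hb hbc => ?_⟩
    obtain ⟨b', rfl⟩ := (g.surjective.iterate i) b
    rw [hf']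
    exact hfb b' ((hiter i b').1 hb) (fun h => hbc (by rw [h]))
  -- `i b + j c` is not in the orbit
  have hnO : ∀ b ∈ Ψ, ∀ c ∈ Ψ, ∀ i j : ℕ, 0 < i → 0 < j → b ≠ c → i • b + j • c ∈ R → i • b + j • c ∈ Ψ \ O := by
    intro b hb c hc i j hi hj hbc hR
    refine ⟨hcl b hb c hc i j hi hj hR, fun hz => ?_⟩
    obtain ⟨f', h1, h2⟩ := hsepO _ hz
    have hi' : (1 : ℤ) ≤ i := by exact_mod_cast hi
    have hj' : (1 : ℤ) ≤ j := by exact_mod_cast hj
    have hval : ∀ φ : (I → ℤ) →+ ℤ, φ (i • b + j • c) = i * φ b + j * φ c := by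
      intro φ
      rw [map_add, map_nsmul, map_nsmul, nsmul_eq_mul, nsmul_eq_mul]
    have hlb := hlam b hb
    have hlc := hlam c hc
    have hb1 : b ≠ i • b + j • c := by
      intro h
      have h3 := congrArg lam h
      rw [hval] at h3
      nlinarith
    have hc1 : c ≠ i • b + j • c := by
      intro h
      have h3 := congrArg lam h
      rw [hval] at h3
      nlinarith
    have h3 := h2 b hb hb1
    have h4 := h2 c hc hc1
    rw [hval] at h1
    nlinarith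
  set Ψ' : Set (I → ℤ) := Ψ \ O with hΨ'
  have hsub : Ψ' ⊆ Ψ := Set.sdiff_subset
  have hcard' : Ψ'.ncard = n - m := by
    rw [hΨ', Set.ncard_sdiff hOsub (hΨf.subset hOsub), hn, hOcard]
  have hmn : m ≤ n := by rw [← hn, ← hOcard]; exact Set.ncard_le_ncard hOsub hΨf
  have hgO : ∀ b, g b ∈ O ↔ b ∈ O := by
    intro b
    constructor
    · rintro ⟨i, hi⟩
      rcases Nat.eq_zero_or_pos i with rfl | h0
      · refine ⟨m - 1, hinj ?_⟩
        rw [hi, ← Function.iterate_succ_apply' g, show (m - 1).succ = m by omega, hma]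
        rfl
      · refine ⟨i - 1, hinj ?_⟩
        rw [hi, ← Function.iterate_succ_apply' g, show (i - 1).succ = i by omega]
    · rintro ⟨i, rfl⟩
      exact ⟨i + 1, by rw [Function.iterate_succ_apply']⟩
  have hg' : ∀ b, g b ∈ Ψ' ↔ b ∈ Ψ' := fun b => by
    rw [hΨ', Set.mem_sdiff, Set.mem_sdiff, hg, hgO]
  set N : Subgroup Y := RGD.Sup X Ψ' with hN
  set U : Subgroup Y := RGD.Sup X Ψ with hU
  have hNU : N ≤ U := RGD.Sup_mono hsub
  have hnneg : ∀ b ∈ Ψ, ∀ c ∈ Ψ, b ≠ -c := by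
    intro b hb c hc h
    have h1 := hlam b hb
    rw [h, map_neg] at h1
    have h2 := hlam c hc
    omega
  -- commutators
  have hcomm : ∀ b ∈ Ψ, ∀ x ∈ X b, ∀ c ∈ Ψ, ∀ y ∈ X c, ⁅x, y⁆ ∈ N := by
    intro b hb x hx c hc y hy
    by_cases hbc : b = c
    · subst hbc
      rw [commutatorElement_eq_one_iff_mul_comm.2 (D.ab b (hΨ hb) x hx y hy)]
      exact one_mem N
    · refine RGD.Sup_mono ?_ (D.comm b (hΨ hb) c (hΨ hc) hbc (hnneg b hb c hc) x hx y hy)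
      rintro z ⟨hz, i, j, hi, hj, rfl⟩
      exact hnO b hb c hc i j hi hj hbc hz
  have hnorm1 : ∀ b ∈ Ψ, ∀ x ∈ X b, ∀ n ∈ N, x * n * x⁻¹ ∈ N := by
    intro b hb x hx n hn
    have h1 : N ≤ N.comap (MulAut.conj x).toMonoidHom := by
      refine RGD.Sup_le fun c hc y hy => ?_
      show x * y * x⁻¹ ∈ N
      have e : x * y * x⁻¹ = ⁅x, y⁆ * y := by simp only [commutatorElement_def]; group
      rw [e]
      exact mul_mem (hcomm b hb x hx c (hsub hc) y hy) (RGD.le_Sup hc hy)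
    exact h1 hn
  have hnorm : ∀ x ∈ {y | ∃ a ∈ Ψ, y ∈ X a}, ∀ n, x * n * x⁻¹ ∈ N ↔ n ∈ N := by
    rintro x ⟨b, hb, hx⟩ n
    refine ⟨fun h => ?_, hnorm1 b hb x hx n⟩
    have h1 := hnorm1 b hb x⁻¹ (inv_mem hx) _ h
    have e : x⁻¹ * (x * n * x⁻¹) * x⁻¹⁻¹ = n := by group
    rwa [e] at h1
  have hUcomm : ∀ u ∈ U, ∀ v ∈ U, ⁅u, v⁆ ∈ N := by
    intro u hu v hv
    rw [hU, Sup_eq_closure] at hu hv
    exact comm_mem_of_gen hnorm (fun x hx y hy => hcomm _ hx.choose_spec.1 x hx.choose_spec.2 _ hy.choose_spec.1 y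
      hy.choose_spec.2) u hu v hv
  -- the fixed elements of `τ ^ m` in `X a`
  set A := {y // y ∈ X a ∧ (τ ^ m) y = y} with hA
  obtain ⟨hAfin, hAcard⟩ := D.cnt a (hΨ ha) m hm0 hma
  have hyi : ∀ y ∈ X a, ∀ i : ℕ, (τ ^ i) y ∈ X (g^[i] a) := by
    intro y hy i
    induction i with
    | zero => exact hy
    | succ i ihi =>
      rw [pow_succ', MulAut.mul_apply, Function.iterate_succ_apply', D.map _ (hΨ ((hiter i a).2 ha))]
      exact ihi
  have hop : ∀ y ∈ X a, op τ y m ∈ U := fun y hy =>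
    op_mem fun j _ => RGD.le_Sup (z := g^[j] a) ((hiter j a).2 ha) (hyi y hy j)
  have hlift : ∀ y : A, ∃ v ∈ N, τ (op τ y.1 m * v) = op τ y.1 m * v := by
    rintro ⟨y, hy, hyf⟩
    have h1 : τ (op τ y m) = y⁻¹ * op τ y m * y := by
      have h2 := op_succ' τ y m
      rw [op_succ, hyf] at h2
      rw [mul_assoc, h2]
      group
    have h3 : (op τ y m)⁻¹ * τ (op τ y m) ∈ N := by
      rw [h1]
      have h4 := hUcomm _ (inv_mem (hop y hy)) _ (inv_mem (RGD.le_Sup ha hy : y ∈ U))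
      have e : (op τ y m)⁻¹ * (y⁻¹ * op τ y m * y) = ⁅(op τ y m)⁻¹, y⁻¹⁆ := by
        simp only [commutatorElement_def]; group
      rw [e]
      exact h4
    obtain ⟨w, hw, e⟩ := D.lang Ψ' (hsub.trans hΨ) (fun b hb => (hg' b).2 hb) _ h3
    refine ⟨w⁻¹, inv_mem hw, ?_⟩
    show τ (op τ y m * w⁻¹) = op τ y m * w⁻¹
    rw [map_mul, map_inv]
    have h5 : τ (op τ y m) = op τ y m * (w⁻¹ * τ w) := by rw [← e]; group
    rw [h5]
    group
  choose v hvN hv using hlift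
  -- the tail
  have htail : ∀ y : A, ∃ r ∈ RGD.Sup X (Ψ \ {a}), op τ y.1 m = y.1 * r := by
    rintro ⟨y, hy, hyf⟩
    obtain ⟨m', rfl⟩ : ∃ m', m = m' + 1 := ⟨m - 1, by omega⟩
    refine ⟨τ (op τ y m'), ?_, op_succ' τ y m'⟩
    have e : τ (op τ y m') = ((List.range m').map fun i => (τ ^ (i + 1)) y).prod := by
      unfold op
      rw [map_list_prod, List.map_map]
      congr 1
      refine List.map_congr_left fun i _ => ?_
      rw [Function.comp_apply, pow_succ', MulAut.mul_apply]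
    rw [e]
    refine Subgroup.list_prod_mem _ fun x hx => ?_
    obtain ⟨i, hi, rfl⟩ := List.mem_map.1 hx
    rw [List.mem_range] at hi
    exact RGD.le_Sup (S := Ψ \ {a}) (z := g^[i + 1] a) ⟨(hiter _ a).2 ha, hmin (i + 1) (by omega) (by omega)⟩
      (hyi y hy (i + 1))
  have hdisj : ∀ u ∈ X a, u ∈ RGD.Sup X (Ψ \ {a}) → u = 1 := by
    intro u hu hu'
    refine D.sep f u ?_ ?_
    · refine RGD.Sup_mono ?_ hu'
      rintro x ⟨hx, hxa⟩
      exact ⟨hΨ hx, hfb x hx hxa⟩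
    · exact RGD.le_Sup (S := {x | x ∈ R ∧ f x < 0}) (z := a) ⟨hΨ ha, hfa⟩ hu
  have hNtail : N ≤ RGD.Sup X (Ψ \ {a}) := RGD.Sup_mono (S := Ψ') (S' := Ψ \ {a}) fun x hx =>
    ⟨hx.1, fun h => hx.2 ⟨0, h⟩⟩
  -- the injection
  have hfin' : Finite ↥(fx X τ Ψ') := Finite.of_injective (Subgroup.inclusion
    (show fx X τ Ψ' ≤ fx X τ Ψ from fun u hu => ⟨hNU hu.1, hu.2⟩)) (Subgroup.inclusion_injective _)
  have hinjF : Function.Injective (fun x : A × ↥(fx X τ Ψ') =>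
      (⟨op τ x.1.1 m * v x.1 * x.2.1, mul_mem (mul_mem (hop _ x.1.2.1) (hNU (hvN x.1))) (hNU x.2.2.1), by
        rw [map_mul, hv, x.2.2.2]⟩ : ↥(fx X τ Ψ))) := by
    rintro ⟨y, n⟩ ⟨y', n'⟩ hxy
    have h1 : op τ y.1 m * v y * n.1 = op τ y'.1 m * v y' * n'.1 := congrArg Subtype.val hxy
    obtain ⟨r, hr, er⟩ := htail y
    obtain ⟨r', hr', er'⟩ := htail y'
    have h2 : y'.1⁻¹ * y.1 ∈ RGD.Sup X (Ψ \ {a}) := by
      have e : y'.1⁻¹ * y.1 = r' * (v y' * n'.1) * (r * (v y * n.1))⁻¹ := by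
        rw [er, er'] at h1
        have h3 : y.1 * (r * (v y * n.1)) = y'.1 * (r' * (v y' * n'.1)) := by
          simpa only [mul_assoc] using h1
        calc y'.1⁻¹ * y.1 = y'.1⁻¹ * (y.1 * (r * (v y * n.1))) * (r * (v y * n.1))⁻¹ := by group
          _ = _ := by rw [h3]; group
      rw [e]
      exact mul_mem (mul_mem hr' (hNtail (mul_mem (hvN y') n'.2.1)))
        (inv_mem (mul_mem hr (hNtail (mul_mem (hvN y) n.2.1))))
    have h3 := hdisj _ (mul_mem (inv_mem y'.2.1) y.2.1) h2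
    have h4 : y = y' := Subtype.ext (inv_mul_eq_one.1 h3).symm
    subst h4
    have h5 : n.1 = n'.1 := mul_left_cancel h1
    exact Prod.ext rfl (Subtype.ext h5)
  have h1 := Nat.card_le_card_of_injective _ hinjF
  rw [Nat.card_prod] at h1
  have h2 := ih (n - m) (by omega) Ψ' (hsub.trans hΨ) hcard' hg'
    (fun b hb c hc i j hi hj hR => by
      by_cases hbc : b = c
      · subst hbc
        refine ⟨hcl b hb.1 b hc.1 i j hi hj hR, fun hz => ?_⟩
        obtain ⟨f', h3, h4⟩ := hsepO _ hz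
        have h5 := h4 b hb.1 (fun h => hb.2 (by rw [h]; exact hz))
        have hi' : (1 : ℤ) ≤ i := by exact_mod_cast hi
        have hj' : (1 : ℤ) ≤ j := by exact_mod_cast hj
        rw [map_add, map_nsmul, map_nsmul, nsmul_eq_mul, nsmul_eq_mul] at h3
        nlinarith
      · exact hnO b hb.1 c hc.1 i j hi hj hbc hR) lam (fun x hx => hlam x (hsub hx)) hfin'
  calc q ^ n = q ^ m * q ^ (n - m) := by rw [← pow_add]; congr 1; omega
    _ ≤ _ := Nat.mul_le_mul hAcard h2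
    _ ≤ _ := h1

end FC

end Cfsg.Agent.H261
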