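import Cfsg.Agent.BpExc.RowsUntw
import Cfsg.Agent.BpExc.Asm
import Cfsg.Agent.BpExc.EmbSplit
import Cfsg.Agent.BpExc.NChev
import Cfsg.Agent.H261.FixChev
import Cfsg.Agent.H261.CountThree

/-!
# Centralizers of elements of order three in the exceptional groups, characteristic prime to three (helper261)

`BP r Q H` : `H` has an `r`-subgroup of order at least `Q`.
* `bp_fix` : `σ` a Frobenius frame automorphism of `D.group k` (`IsFrob r e σ`), `σ x = x`, `x ^ 3 = 1`: `BP` of the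
  centralizer of `x` in the fixed points, with `Q = (r ^ e) ^ N`;
* `dvd_of_bp` : the transfer to a subgroup of the fixed points of index prime to `r`;
* `pow_dvd` : `F` a finite field of characteristic `r ≠ 3`, `z ∈ D.group F` of order dividing three:
  `|F| ^ N` divides `|C(z)|`.
-/

set_option autoImplicit false
set_option linter.unusedSectionVars false

namespace Cfsg.Agent.H261

open CoxeterSystem Cfsg Cfsg.Lie Cfsg.Lie.ChevalleyDatum
open Cfsg.Agent.ChevalleyStructure Cfsg.Agent.ChevalleyStructure.Elts Cfsg.Agent.ChevalleyStructure.CoxeterGeom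
  Cfsg.Agent.ChevalleyStructure.CoxeterGeomTypes Cfsg.Agent.ChevalleyStructure.NPerm
open Cfsg.Agent.Tits.Roots Cfsg.Agent.Tits.Core Cfsg.Agent.Nodes.RGDChev Cfsg.Agent.KFacts.RgdChevCoord
  Cfsg.Agent.GpExc.Field Cfsg.Agent.KFacts.RgdField
open Cfsg.Agent.BpExc.FamUntw Cfsg.Agent.BpExc.FamInst Cfsg.Agent.BpExc.FamField Cfsg.Agent.BpExc.RowsUntw
open Cfsg.Agent.BpExc Cfsg.Agent.BpExc.TowChev Cfsg.Agent.BpExc.Fr Cfsg.Agent.BpExc.TorCent Cfsg.Agent.BpExc.Pair
  Cfsg.Agent.BpExc.LangFr Cfsg.Agent.H261.CountThree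

/-- `H` has an `r`-subgroup of order at least `Q`. -/
def BP (r Q : ℕ) (H : Type*) [Group H] : Prop := ∃ P : Subgroup H, IsPGroup r ↥P ∧ Q ≤ Nat.card ↥P

theorem BP.congr {r Q : ℕ} {H K : Type*} [Group H] [Group K] (h : BP r Q H) (e : H ≃* K) : BP r Q K := by
  obtain ⟨P, hP, hQ⟩ := h
  refine ⟨P.map e.toMonoidHom, hP.map _, ?_⟩
  rw [Nat.card_congr (P.equivMapOfInjective e.toMonoidHom e.injective).toEquiv] at hQ
  exact hQ

theorem BP.comap {r Q : ℕ} {H K : Type*} [Group H] [Group K] {f : K →* H} (hf : Function.Injective f)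
    (hr : ∀ P : Subgroup H, IsPGroup r ↥P → P ≤ f.range) (h : BP r Q H) : BP r Q K := by
  obtain ⟨P, hP, hQ⟩ := h
  refine ⟨P.comap f, hP.comap_of_injective f hf, ?_⟩
  have h1 : (P.comap f).map f = P := by
    rw [Subgroup.map_comap_eq, inf_eq_right]
    exact hr P hP
  rw [← h1, ← Nat.card_congr ((P.comap f).equivMapOfInjective f hf).toEquiv] at hQ
  exact hQ

theorem BP.dvd {r e N : ℕ} [hr : Fact r.Prime] {H : Type*} [Group H] [Finite H] (h : BP r ((r ^ e) ^ N) H) :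
    (r ^ e) ^ N ∣ Nat.card H := by
  obtain ⟨P, hP, hQ⟩ := h
  obtain ⟨n, hn⟩ := hP.exists_card_eq
  rw [hn, ← pow_mul] at hQ
  have h1 : e * N ≤ n := (Nat.pow_le_pow_iff_right hr.out.one_lt).1 hQ
  rw [← pow_mul]
  exact (pow_dvd_pow r h1).trans (hn ▸ Subgroup.card_subgroup_dvd_card P)

/-- `r`-subgroups are contained in a subgroup containing a power prime to `r` of every element. -/
theorem le_of_pow_mem {H : Type*} [Group H] {r : ℕ} [Fact r.Prime] {N Q : Subgroup H} (hQ : IsPGroup r ↥Q)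
    (h : ∀ y ∈ Q, ∃ m : ℕ, m.Coprime r ∧ y ^ m ∈ N) : Q ≤ N := by
  intro y hy
  obtain ⟨m, hm, hmN⟩ := h y hy
  obtain ⟨j, hj⟩ := hQ ⟨y, hy⟩
  have hj' : y ^ r ^ j = 1 := congrArg Subtype.val hj
  have h1 : m.Coprime (r ^ j) := Nat.Coprime.pow_right j hm
  have h2 : (m.gcd (r ^ j) : ℤ) = m * m.gcdA (r ^ j) + (r ^ j : ℕ) * m.gcdB (r ^ j) := Nat.gcd_eq_gcd_ab m (r ^ j)
  rw [h1.gcd_eq_one] at h2
  have h3 : y = (y ^ m) ^ (m.gcdA (r ^ j)) := by
    calc y = y ^ (((1 : ℕ) : ℤ)) := by rw [Nat.cast_one, zpow_one]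
      _ = y ^ ((m : ℤ) * m.gcdA (r ^ j)) * (y ^ (((r ^ j : ℕ) : ℤ) * m.gcdB (r ^ j))) := by rw [h2, zpow_add]
      _ = (y ^ m) ^ (m.gcdA (r ^ j)) := by
        rw [zpow_mul, zpow_mul, zpow_natCast, zpow_natCast, hj', one_zpow, mul_one]
  rw [h3]
  exact N.zpow_mem hmN _

/-- **The transfer to a group with root group datum inside the fixed points.** -/
theorem dvd_of_bp {Y K₀ : Type*} [Group Y] [Group K₀] [Finite K₀] {σ : MulAut Y} {r e N : ℕ} [Fact r.Prime]
    (ι : K₀ →* Y) (hι : Function.Injective ι) (hfix : ∀ a, σ (ι a) = ι a)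
    (hidx : ∀ y, σ y = y → ∃ m : ℕ, m.Coprime r ∧ y ^ m ∈ ι.range) (z : K₀)
    (h : BP r ((r ^ e) ^ N) ↥(fixC σ (ι z))) : (r ^ e) ^ N ∣ Nat.card ↥(Subgroup.centralizer {z}) := by
  let f : ↥(Subgroup.centralizer {z}) →* ↥(fixC σ (ι z)) :=
    { toFun := fun a => ⟨ι a, hfix a, by
        have h1 := Subgroup.mem_centralizer_singleton_iff.1 a.2
        rw [← map_mul, ← map_mul, h1]⟩
      map_one' := Subtype.ext (map_one ι)
      map_mul' := fun a b => Subtype.ext (map_mul ι _ _) }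
  have hf : Function.Injective f := fun a b hab => Subtype.ext (hι (congrArg Subtype.val hab))
  refine BP.dvd (h.comap hf fun P hP => le_of_pow_mem hP fun y _ => ?_)
  obtain ⟨m, hm, a, ha⟩ := hidx y.1 y.2.1
  refine ⟨m, hm, ⟨a, Subgroup.mem_centralizer_singleton_iff.2 ?_⟩, Subtype.ext ha⟩
  apply hι
  rw [map_mul, map_mul, ha]
  exact ((show Commute y.1 (ι z) from y.2.2).pow_left m).eq

section

variable {D : ChevalleyDatum} {l : ℕ} {M : CoxeterMatrix (Fin l)} (hp : IsType D l M) {k : Type} [Field k]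
  {W : Type*} [Group W] (cs : CoxeterSystem M W) {r : ℕ} [Fact r.Prime] [CharP k r]

include hp cs in
/-- **Centralizers in the fixed points of a Frobenius automorphism.** -/
theorem bp_fix [IsAlgClosed k] (hk : LocFin k) {ix : List ℕ} {C : List (ℕ × ℕ × ℕ)} {N : ℕ} (hT : Tab D l ix C N)
    {σ : MulAut ↥(D.group k)} {g : (Fin l → ℤ) ≃+ (Fin l → ℤ)} {e : ℕ} (he : 0 < e) (hσ : IsFrob r e σ)
    (Fσ : Fr cs hp.isCartan (TT D k) (XX D l k) σ g) [Finite ↥(Cfsg.fixedSubgroup σ)] {x : ↥(D.group k)}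
    (hσx : σ x = x) (hxp : x ^ 3 = 1) {z : ↥(D.group k)} (hz : z * x * z⁻¹ ∈ TT D k) :
    BP r ((r ^ e) ^ N) ↥(fixC σ x) := by
  have : Fact (Nat.Prime 3) := ⟨Nat.prime_three⟩
  obtain ⟨t, τ, g', h1, h2, h3, h4, h5, h6, h7, ⟨h8⟩⟩ := Asm.exists_pair hp cs (p := 3) hk he hσ Fσ hσx hxp hz
  refine BP.congr ?_ h8
  have hfin : Finite ↥(fixC τ t) := Finite.of_injective (Subgroup.inclusion (Asm.fixC_le τ t))
    (Subgroup.inclusion_injective _)
  obtain ⟨P, hP, hQ⟩ := endB hp cs hk h1 he h3 h4 h5 h6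
  refine ⟨P, hP, le_trans ?_ hQ⟩
  have hA := chAddL (k := k) hp cs hk r
  have C' := coordsL (k := k) hp cs hk r
  obtain ⟨φ, h0, hadd, hφ⟩ := hA t h1
  have hch0 : ∀ a, IsRoot cs hp.isCartan a → ch hp a (1 : ↥(D.group k)) = 1 := by
    intro a ha
    have h1 := (C'.coord a ha).chi_mul (one_mem (TT D k)) (one_mem _)
    rw [mul_one] at h1
    exact (mul_eq_left₀ ((C'.coord a ha).chi_ne_zero (one_mem _))).1 h1.symm
  have h3' : ∀ i, φ (sr i) ^ 3 = 1 := by
    intro i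
    have hi := isRoot_sr cs hp.isCartan i
    rw [← hφ _ hi]
    have h9 : ∀ m : ℕ, ch hp (sr i) (t ^ m) = ch hp (sr i) t ^ m := by
      intro m
      induction m with
      | zero => rw [pow_zero, pow_zero, hch0 _ hi]
      | succ m ih => rw [pow_succ, pow_succ, (C'.coord _ hi).chi_mul (pow_mem h1 m) h1, ih]
    rw [← h9, h2, hch0 _ hi]
  have hcount := three_count hp cs hT φ h0 hadd h3'
  have hset : {a | IsRoot cs hp.isCartan a ∧ φ a = 1 ∧ 0 ≤ a} = {a | a ∈ Sx cs hp.isCartan (ch hp) t ∧ 0 ≤ a} := by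
    ext a
    constructor
    · rintro ⟨ha, h10, h11⟩
      exact ⟨⟨ha, by rw [hφ a ha]; exact h10⟩, h11⟩
    · rintro ⟨⟨ha, h10⟩, h11⟩
      exact ⟨ha, by rw [← hφ a ha]; exact h10, h11⟩
  rw [hset] at hcount
  exact Nat.pow_le_pow_right (pow_pos (Fact.out : r.Prime).pos e) hcount

end

/-! ### the untwisted groups -/

theorem pow_mem_of_split {Y : Type*} [Group Y] {N : Subgroup Y} {a t : Y} (ha : a ∈ N)
    (hn : ∀ b ∈ N, t * b * t⁻¹ ∈ N) {m : ℕ} (hm : t ^ m = 1) : (a * t) ^ m ∈ N := by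
  have hn' : ∀ j : ℕ, ∀ b ∈ N, t ^ j * b * (t ^ j)⁻¹ ∈ N := by
    intro j
    induction j with
    | zero => intro b hb; simpa using hb
    | succ j ih =>
      intro b hb
      have h1 := hn _ (ih b hb)
      have e : t ^ (j + 1) * b * (t ^ (j + 1))⁻¹ = t * (t ^ j * b * (t ^ j)⁻¹) * t⁻¹ := by
        rw [pow_succ']; group
      rwa [e]
  have key : ∀ j : ℕ, ∃ b ∈ N, (a * t) ^ j = b * t ^ j := by
    intro j
    induction j with
    | zero => exact ⟨1, one_mem _, by simp⟩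
    | succ j ih =>
      obtain ⟨b, hb, e⟩ := ih
      refine ⟨b * (t ^ j * a * (t ^ j)⁻¹), mul_mem hb (hn' j a ha), ?_⟩
      rw [pow_succ, e, pow_succ]
      group
  obtain ⟨b, hb, e⟩ := key m
  rw [e, hm, mul_one]
  exact hb

theorem eq_one_of_pow {D : ChevalleyDatum} (hD : InList D) {k : Type*} [Field k] {r : ℕ} [Fact r.Prime] [CharP k r]
    {t : GL D.Idx k} (ht : t ∈ D.diagonalSubgroup k) {j : ℕ} (h : t ^ r ^ j = 1) : t = 1 := by
  obtain ⟨χ, hχ⟩ := HMatDiagAll.mem_torus.1 (HMatDiagAll.diagonalSubgroup_le_torus hD ht)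
  apply Units.ext
  have h1 := congrArg (fun g : GL D.Idx k => (g : Matrix D.Idx D.Idx k)) h
  simp only [Units.val_pow_eq_pow_val, hχ, Matrix.diagonal_pow, Units.val_one] at h1
  rw [hχ, Units.val_one, ← Matrix.diagonal_one]
  congr 1
  funext i
  rw [← Matrix.diagonal_one] at h1
  have h2 := congrFun (Matrix.diagonal_injective h1) i
  rw [Pi.pow_apply] at h2
  apply sub_eq_zero.1
  refine pow_eq_zero_iff (pow_pos (Fact.out : r.Prime).pos j).ne' |>.1 ?_
  rw [sub_pow_char_pow, h2, one_pow, sub_self]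

theorem exists_coprime {D : ChevalleyDatum} (hD : InList D) {k : Type*} [Field k] {r : ℕ} [Fact r.Prime] [CharP k r]
    {t : ↥(D.group k)} (ht : t ∈ TT D k) (hf : IsOfFinOrder t) : ∃ m : ℕ, m.Coprime r ∧ t ^ m = 1 := by
  have hr : r.Prime := Fact.out
  obtain ⟨j, m, hm, e⟩ := Nat.exists_eq_pow_mul_and_not_dvd (orderOf_pos_iff.2 hf).ne' r hr.ne_one
  refine ⟨m, ((Nat.Prime.coprime_iff_not_dvd hr).2 hm).symm, ?_⟩
  have h1 : (t ^ m) ^ r ^ j = 1 := by
    rw [← pow_mul, mul_comm, ← e]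
    exact pow_orderOf_eq_one t
  apply Subtype.ext
  refine eq_one_of_pow hD (t := ((t ^ m : ↥(D.group k)) : GL D.Idx k)) ?_ (j := j) (congrArg Subtype.val h1)
  exact Subgroup.mem_subgroupOf.1 (pow_mem ht m)

/-- **Centralizers of elements of order three in `D.group F`.** -/
theorem pow_dvd {D : ChevalleyDatum} {l : ℕ} {M : CoxeterMatrix (Fin l)} (hp : IsType D l M)
    {ix : List ℕ} {C : List (ℕ × ℕ × ℕ)} {N : ℕ} (hT : Tab D l ix C N) (F : Type) [Field F] [Finite F] {r : ℕ} [Fact r.Prime] [CharP F r]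
    (hr3 : r ≠ 3) (z : ↥(D.group F)) (hz : z ^ 3 = 1) :
    Nat.card F ^ N ∣ Nat.card ↥(Subgroup.centralizer {z}) := by
  have := Fintype.ofFinite F
  have : Fact (Nat.Prime 3) := ⟨Nat.prime_three⟩
  obtain ⟨f⟩ := exists_emb r F
  obtain ⟨n, hn0, hn⟩ := exists_card (F := F) r
  have hk : LocFin (AlgebraicClosure (ZMod r)) := locFin_of_isAlgebraic r _
  have hfin := finite_phi (D := D) (k := AlgebraicClosure (ZMod r)) (r := r) hn0
  obtain ⟨w, hw⟩ := TorAll.exists_toral' hp r Nat.prime_three (Ne.symm hr3)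
    (y := emb hp.inList f z) (by rw [← map_pow, hz, map_one])
  have hq : Fintype.card F = r ^ n := by rw [← hn, Nat.card_eq_fintype_card]
  let φ : AlgebraicClosure (ZMod r) →+* AlgebraicClosure (ZMod r) :=
    ((frb (AlgebraicClosure (ZMod r)) r n : AlgebraicClosure (ZMod r) ≃+* AlgebraicClosure (ZMod r)) :
      AlgebraicClosure (ZMod r) →+* AlgebraicClosure (ZMod r))
  have hφ : ∀ t, φ t = t ^ Fintype.card F := by
    intro t
    rw [hq]
    exact frb_apply _ r n t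
  have hσφ : ∀ y : ↥(D.group (AlgebraicClosure (ZMod r))),
      ((phi D (AlgebraicClosure (ZMod r)) r n y : ↥(D.group (AlgebraicClosure (ZMod r)))) :
        GL D.Idx (AlgebraicClosure (ZMod r))) = glMap D φ (y : GL D.Idx (AlgebraicClosure (ZMod r))) := by
    intro y
    apply Units.ext
    rfl
  have hfix : ∀ a, phi D (AlgebraicClosure (ZMod r)) r n (emb hp.inList f a) = emb hp.inList f a :=
    fun a => Emb.emb_fix hp.inList hφ hσφ a
  have hbp := bp_fix hp M.toCoxeterSystem hk hT hn0 (phi_isFrob r n)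
    (phi_fr hp M.toCoxeterSystem r hk n) (hfix z) (by rw [← map_pow, hz, map_one]) (z := w⁻¹) (by rwa [inv_inv])
  rw [hn]
  refine dvd_of_bp (emb hp.inList f) (emb_injective hp.inList f) hfix (fun y hy => ?_) z hbp
  have hy' : glMap D φ (y : GL D.Idx (AlgebraicClosure (ZMod r))) = y := by rw [← hσφ, hy]
  obtain ⟨a, ha, t, ht, e⟩ := EmbSplit.untw_split hp.inList (Emb.fix_iff_range hφ) y.2 hy'
  have hta : t ∈ D.group (AlgebraicClosure (ZMod r)) := by
    have h1 : t = ((emb hp.inList f ⟨a, ha⟩ : ↥(D.group (AlgebraicClosure (ZMod r)))) :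
        GL D.Idx (AlgebraicClosure (ZMod r)))⁻¹ * y := by
      rw [coe_emb]
      exact eq_inv_mul_of_mul_eq e.symm
    rw [h1]
    exact mul_mem (inv_mem (SetLike.coe_mem _)) y.2
  have e' : y = emb hp.inList f ⟨a, ha⟩ * ⟨t, hta⟩ := Subtype.ext e
  have hσt : phi D (AlgebraicClosure (ZMod r)) r n ⟨t, hta⟩ = ⟨t, hta⟩ := by
    have h1 := hy
    rw [e', map_mul, hfix] at h1
    exact mul_left_cancel h1
  have hft : IsOfFinOrder (⟨t, hta⟩ : ↥(D.group (AlgebraicClosure (ZMod r)))) := by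
    have h1 : IsOfFinOrder (⟨⟨t, hta⟩, hσt⟩ : ↥(Cfsg.fixedSubgroup (phi D (AlgebraicClosure (ZMod r)) r n))) :=
      isOfFinOrder_of_finite _
    exact (Cfsg.fixedSubgroup (phi D (AlgebraicClosure (ZMod r)) r n)).subtype.isOfFinOrder h1
  obtain ⟨m, hm, hm1⟩ := exists_coprime hp.inList (Subgroup.mem_subgroupOf.2 ht) hft
  refine ⟨m, hm, ?_⟩
  rw [e']
  exact pow_mem_of_split (N := (emb hp.inList f).range) ⟨_, rfl⟩
    (fun b hb => Emb.conj_mem_range hp.inList (f := f) hφ hσφ hσt hb) hm1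

/-! ### the tables -/

theorem tabG2 : Tab chevG2 2 ixG2 mkG2 1 :=
  ⟨by decide +kernel, by decide +kernel, by decide +kernel, by decide +kernel, by decide +kernel, by decide +kernel⟩

theorem tabF4 : Tab chevF4 4 ixF4 mkF4 6 :=
  ⟨by decide +kernel, by decide +kernel, by decide +kernel, by decide +kernel, by decide +kernel, by decide +kernel⟩

theorem tabD4 : Tab chevD4 4 ixD4 mkD4 3 :=
  ⟨by decide +kernel, by decide +kernel, by decide +kernel, by decide +kernel, by decide +kernel, by decide +kernel⟩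

theorem tabE6 : Tab chevE6 6 ixE6 mkE6 9 :=
  ⟨by decide +kernel, by decide +kernel, by decide +kernel, by decide +kernel, by decide +kernel, by decide +kernel⟩

variable (F : Type) [Field F] [Finite F] {r : ℕ} [Fact r.Prime] [CharP F r]

theorem pow_dvd_G2 (hr3 : r ≠ 3) (z : ↥(chevG2.group F)) (hz : z ^ 3 = 1) :
    Nat.card F ∣ Nat.card ↥(Subgroup.centralizer {z}) := by
  have h := pow_dvd g2T tabG2 F hr3 z hz
  rwa [pow_one] at h

theorem pow_dvd_F4 (hr3 : r ≠ 3) (z : ↥(chevF4.group F)) (hz : z ^ 3 = 1) :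
    Nat.card F ^ 6 ∣ Nat.card ↥(Subgroup.centralizer {z}) := pow_dvd f4T tabF4 F hr3 z hz

theorem pow_dvd_E6 (hr3 : r ≠ 3) (z : ↥(chevE6.group F)) (hz : z ^ 3 = 1) :
    Nat.card F ^ 9 ∣ Nat.card ↥(Subgroup.centralizer {z}) := pow_dvd e6T tabE6 F hr3 z hz

end Cfsg.Agent.H261
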