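import Mathlib
import Cfsg.Agent.H261.Pair

/-!
# Symplectic bases of `Q / Z` (helper261)

`SB Z Q z a1 b1 a2 b2` : `a1, b1, a2, b2` is a symplectic basis of `Q / Z`.
`E Q a b` : the elements of `Q` commuting with `a` and `b`.
-/

set_option autoImplicit false
set_option linter.unusedSectionVars false

namespace Cfsg.Agent.H261

open Subgroup Cfsg

/-- a symplectic basis of `Q / Z` -/
structure SB {G : Type*} [Group G] (Z Q : Subgroup G) (z a1 b1 a2 b2 : G) : Prop where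
  base : Base Z Q
  gen : Gen Z z
  ma1 : a1 ∈ Q
  mb1 : b1 ∈ Q
  ma2 : a2 ∈ Q
  mb2 : b2 ∈ Q
  f1 : F z a1 b1 = 1
  f2 : F z a2 b2 = 1
  faa : F z a1 a2 = 0
  fab : F z a1 b2 = 0
  fba : F z b1 a2 = 0
  fbb : F z b1 b2 = 0

variable {G : Type*} [Group G]

/-- the elements of `Q` commuting with `a` and `b` -/
def E (Q : Subgroup G) (a b : G) : Subgroup G := Q ⊓ centralizer ({a, b} : Set G)

theorem mem_E {Q : Subgroup G} {a b x : G} : x ∈ E Q a b ↔ x ∈ Q ∧ a * x = x * a ∧ b * x = x * b := by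
  rw [E, Subgroup.mem_inf, Subgroup.mem_centralizer_iff]
  simp

variable {Z Q : Subgroup G} {z a1 b1 a2 b2 : G}

/-- The values on a commutative group of an additive function on `Q`. -/
theorem pow_of_additive {M : Type*} [AddCommGroup M] {f : G → M}
    (hf : ∀ x ∈ Q, ∀ y ∈ Q, f (x * y) = f x + f y) {x : G} (hx : x ∈ Q) (n : ℕ) : f (x ^ n) = n • f x := by
  have h1 : f 1 = 0 := by
    have := hf 1 Q.one_mem 1 Q.one_mem
    rw [mul_one] at this
    simpa using this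
  induction n with
  | zero => rw [pow_zero, h1, zero_smul]
  | succ n ih => rw [pow_succ, hf _ (Q.pow_mem hx n) _ hx, ih, succ_nsmul]

namespace SB

variable (s : SB Z Q z a1 b1 a2 b2)
include s

theorem swap : SB Z Q z a2 b2 a1 b1 where
  base := s.base
  gen := s.gen
  ma1 := s.ma2
  mb1 := s.mb2
  ma2 := s.ma1
  mb2 := s.mb1
  f1 := s.f2
  f2 := s.f1
  faa := by rw [s.base.F_swap s.gen s.ma2 s.ma1, s.faa, neg_zero]
  fab := by rw [s.base.F_swap s.gen s.ma2 s.mb1, s.fba, neg_zero]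
  fba := by rw [s.base.F_swap s.gen s.mb2 s.ma1, s.fab, neg_zero]
  fbb := by rw [s.base.F_swap s.gen s.mb2 s.mb1, s.fbb, neg_zero]

theorem mem_E_iff {x : G} (hx : x ∈ Q) : x ∈ E Q a2 b2 ↔ F z x a2 = 0 ∧ F z x b2 = 0 := by
  rw [mem_E, s.base.F_eq_zero s.gen hx s.ma2, s.base.F_eq_zero s.gen hx s.mb2]
  constructor
  · rintro ⟨-, h1, h2⟩; exact ⟨h1.symm, h2.symm⟩
  · rintro ⟨h1, h2⟩; exact ⟨hx, h1.symm, h2.symm⟩

theorem E_le : E Q a2 b2 ≤ Q := inf_le_left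

theorem Z_le_E : Z ≤ E Q a2 b2 := by
  intro c hc
  rw [s.mem_E_iff (s.base.le hc)]
  exact ⟨s.base.F_z_left s.gen hc s.ma2, s.base.F_z_left s.gen hc s.mb2⟩

theorem a1_mem : a1 ∈ E Q a2 b2 := (s.mem_E_iff s.ma1).2 ⟨s.faa, s.fab⟩
theorem b1_mem : b1 ∈ E Q a2 b2 := (s.mem_E_iff s.mb1).2 ⟨s.fba, s.fbb⟩

/-- the coordinates -/
theorem mem_Z {x : G} (hx : x ∈ Q) (h1 : F z x a1 = 0) (h2 : F z x b1 = 0) (h3 : F z x a2 = 0) (h4 : F z x b2 = 0) :
    x ∈ Z := by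
  have hb := s.base
  have g := s.gen
  let φ : ↥Q →* Multiplicative ((ZMod 3 × ZMod 3) × (ZMod 3 × ZMod 3)) :=
    MonoidHom.mk' (fun q => Multiplicative.ofAdd ((F z q a1, F z q b1), (F z q a2, F z q b2))) (by
      intro a b
      apply Multiplicative.toAdd.injective
      simp only [toAdd_ofAdd, toAdd_mul, Subgroup.coe_mul]
      rw [hb.F_mul_left g a.2 b.2 s.ma1, hb.F_mul_left g a.2 b.2 s.mb1, hb.F_mul_left g a.2 b.2 s.ma2,
        hb.F_mul_left g a.2 b.2 s.mb2]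
      rfl)
  have hφ : ∀ q : ↥Q, φ q = Multiplicative.ofAdd ((F z q a1, F z q b1), (F z q a2, F z q b2)) := fun q => rfl
  have hsurj : Function.Surjective φ := by
    intro v
    obtain ⟨⟨⟨i, j⟩, ⟨k, l⟩⟩, rfl⟩ := Multiplicative.ofAdd.surjective v
    have e1 : F z b1 a1 = -1 := by rw [hb.F_swap g s.mb1 s.ma1, s.f1]
    have e2 : F z b2 a2 = -1 := by rw [hb.F_swap g s.mb2 s.ma2, s.f2]
    have t := s.swap
    let w1 : ↥Q := ⟨a1, s.ma1⟩ ^ j.val
    let w2 : ↥Q := ⟨b1, s.mb1⟩ ^ (-i).val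
    let w3 : ↥Q := ⟨a2, s.ma2⟩ ^ l.val
    let w4 : ↥Q := ⟨b2, s.mb2⟩ ^ (-k).val
    refine ⟨w1 * w2 * (w3 * w4), ?_⟩
    rw [map_mul, map_mul, map_mul]
    simp only [w1, w2, w3, w4]
    rw [map_pow, map_pow, map_pow, map_pow, hφ, hφ, hφ, hφ]
    simp only
    rw [Base.F_self g, s.f1, s.faa, s.fab, e1, Base.F_self g, s.fba, s.fbb, t.faa, t.fab, Base.F_self g, s.f2, t.fba, t.fbb, e2,
      Base.F_self g]
    apply Multiplicative.toAdd.injective
    simp only [toAdd_mul, toAdd_pow, toAdd_ofAdd]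
    have hv : ∀ m : ZMod 3, (m.val : ZMod 3) = m := fun m => ZMod.natCast_zmod_val m
    ext <;> simp [hv]
  have hc := Subgroup.card_mul_index φ.ker
  rw [Subgroup.index_ker, MonoidHom.range_eq_top.2 hsurj, Subgroup.card_top, s.base.cardQ] at hc
  have h81 : Nat.card (Multiplicative ((ZMod 3 × ZMod 3) × (ZMod 3 × ZMod 3))) = 81 := by
    rw [Nat.card_congr Multiplicative.toAdd, Nat.card_prod, Nat.card_prod, Nat.card_zmod]
  rw [h81] at hc
  have hk : Nat.card ↥φ.ker = 3 := by omega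
  have hle : Z.subgroupOf Q ≤ φ.ker := by
    intro c hc
    rw [Subgroup.mem_subgroupOf] at hc
    rw [MonoidHom.mem_ker, hφ, hb.F_z_left g hc s.ma1, hb.F_z_left g hc s.mb1, hb.F_z_left g hc s.ma2,
      hb.F_z_left g hc s.mb2]
    rfl
  have hZ : Nat.card ↥(Z.subgroupOf Q) = 3 := by
    rw [Nat.card_congr (subgroupOfEquivOfLe s.base.le).toEquiv, s.base.card]
  have : Finite ↥φ.ker := Nat.finite_of_card_ne_zero (by rw [hk]; norm_num)
  have heq : Z.subgroupOf Q = φ.ker := Subgroup.eq_of_le_of_card_ge hle (by rw [hZ, hk])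
  have hx' : (⟨x, hx⟩ : ↥Q) ∈ φ.ker := by
    rw [MonoidHom.mem_ker, hφ]
    simp only
    rw [h1, h2, h3, h4]; rfl
  rw [← heq] at hx'
  exact hx'

/-- every element of `E1` is `a1 ^ i * b1 ^ j * c` -/
theorem expand {x : G} (hx : x ∈ E Q a2 b2) :
    ∃ c ∈ Z, x = a1 ^ (F z x b1).val * b1 ^ (F z a1 x).val * c := by
  have hb := s.base
  have g := s.gen
  have hxQ := s.E_le hx
  have h1 := (s.mem_E_iff hxQ).1 hx
  have hw : a1 ^ (F z x b1).val * b1 ^ (F z a1 x).val ∈ Q := Q.mul_mem (Q.pow_mem s.ma1 _) (Q.pow_mem s.mb1 _)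
  have hpa := Q.pow_mem s.ma1 (F z x b1).val
  have hpb := Q.pow_mem s.mb1 (F z a1 x).val
  have hv : ∀ m : ZMod 3, (m.val : ZMod 3) = m := fun m => ZMod.natCast_zmod_val m
  refine ⟨(a1 ^ (F z x b1).val * b1 ^ (F z a1 x).val)⁻¹ * x, ?_, by group⟩
  have e : ∀ y ∈ Q, F z ((a1 ^ (F z x b1).val * b1 ^ (F z a1 x).val)⁻¹ * x) y =
      F z x y - (F z x b1 * F z a1 y + F z a1 x * F z b1 y) := by
    intro y hy
    rw [hb.F_mul_left g (Q.inv_mem hw) hxQ hy, hb.F_inv_left g hw hy, hb.F_mul_left g hpa hpb hy,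
      hb.F_pow_left g s.ma1 hy, hb.F_pow_left g s.mb1 hy, hv, hv]
    ring
  have e1 : F z b1 a1 = -1 := by rw [hb.F_swap g s.mb1 s.ma1, s.f1]
  refine s.mem_Z (Q.mul_mem (Q.inv_mem hw) hxQ) ?_ ?_ ?_ ?_
  · rw [e _ s.ma1, Base.F_self g, e1, hb.F_swap g hxQ s.ma1]; ring
  · rw [e _ s.mb1, Base.F_self g, s.f1]; ring
  · rw [e _ s.ma2, h1.1, s.faa, s.fba]; ring
  · rw [e _ s.mb2, h1.2, s.fab, s.fbb]; ring

/-- an additive function on `E1` vanishing on `Z` -/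
theorem additive {M : Type*} [AddCommGroup M] [Module (ZMod 3) M] {f : G → M}
    (hf : ∀ x ∈ E Q a2 b2, ∀ y ∈ E Q a2 b2, f (x * y) = f x + f y)
    (hZ : ∀ c ∈ Z, f c = 0) {x : G} (hx : x ∈ E Q a2 b2) : f x = F z x b1 • f a1 + F z a1 x • f b1 := by
  obtain ⟨c, hc, h⟩ := s.expand hx
  have hpa := (E Q a2 b2).pow_mem s.a1_mem (F z x b1).val
  have hpb := (E Q a2 b2).pow_mem s.b1_mem (F z a1 x).val
  have hv : ∀ (m : ZMod 3) (w : M), m.val • w = m • w := fun m w => by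
    rw [← Nat.cast_smul_eq_nsmul (ZMod 3), ZMod.natCast_zmod_val]
  conv_lhs => rw [h]
  rw [hf _ ((E Q a2 b2).mul_mem hpa hpb) _ (s.Z_le_E hc), hZ c hc, add_zero, hf _ hpa _ hpb,
    pow_of_additive hf s.a1_mem, pow_of_additive hf s.b1_mem, hv, hv]

theorem F_left {x y : G} (hx : x ∈ E Q a2 b2) (hy : y ∈ Q) :
    F z x y = F z x b1 * F z a1 y + F z a1 x * F z b1 y := by
  have := s.additive (f := fun x => F z x y) (fun x hx w hw => s.base.F_mul_left s.gen (s.E_le hx) (s.E_le hw) hy)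
    (fun c hc => s.base.F_z_left s.gen hc hy) hx
  simpa [smul_eq_mul] using this

/-- every element of `Q` is a product of an element of `E1` and an element of `E2` -/
theorem split {x : G} (hx : x ∈ Q) : ∃ e1 ∈ E Q a2 b2, ∃ e2 ∈ E Q a1 b1, x = e1 * e2 := by
  have hb := s.base
  have g := s.gen
  have hw : a1 ^ (F z x b1).val * b1 ^ (F z a1 x).val ∈ Q := Q.mul_mem (Q.pow_mem s.ma1 _) (Q.pow_mem s.mb1 _)
  have hpa := Q.pow_mem s.ma1 (F z x b1).val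
  have hpb := Q.pow_mem s.mb1 (F z a1 x).val
  have hv : ∀ m : ZMod 3, (m.val : ZMod 3) = m := fun m => ZMod.natCast_zmod_val m
  refine ⟨a1 ^ (F z x b1).val * b1 ^ (F z a1 x).val,
    (E Q a2 b2).mul_mem ((E Q a2 b2).pow_mem s.a1_mem _) ((E Q a2 b2).pow_mem s.b1_mem _),
    (a1 ^ (F z x b1).val * b1 ^ (F z a1 x).val)⁻¹ * x, ?_, by group⟩
  have e : ∀ y ∈ Q, F z ((a1 ^ (F z x b1).val * b1 ^ (F z a1 x).val)⁻¹ * x) y =
      F z x y - (F z x b1 * F z a1 y + F z a1 x * F z b1 y) := by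
    intro y hy
    rw [hb.F_mul_left g (Q.inv_mem hw) hx hy, hb.F_inv_left g hw hy, hb.F_mul_left g hpa hpb hy,
      hb.F_pow_left g s.ma1 hy, hb.F_pow_left g s.mb1 hy, hv, hv]
    ring
  have e1 : F z b1 a1 = -1 := by rw [hb.F_swap g s.mb1 s.ma1, s.f1]
  rw [s.swap.mem_E_iff (Q.mul_mem (Q.inv_mem hw) hx)]
  constructor
  · rw [e _ s.ma1, Base.F_self g, e1, hb.F_swap g hx s.ma1]; ring
  · rw [e _ s.mb1, Base.F_self g, s.f1]; ring

/-- `E1` and `E2` commute -/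
theorem comm12 {x y : G} (hx : x ∈ E Q a2 b2) (hy : y ∈ E Q a1 b1) : x * y = y * x := by
  have hyQ := s.swap.E_le hy
  have h1 := (s.swap.mem_E_iff hyQ).1 hy
  rw [← s.base.F_eq_zero s.gen (s.E_le hx) hyQ, s.F_left hx hyQ, s.base.F_swap s.gen s.ma1 hyQ,
    s.base.F_swap s.gen s.mb1 hyQ, h1.1, h1.2]
  simp

/-- `E1 ∩ E2 = Z` -/
theorem inf_eq {x : G} (hx : x ∈ E Q a2 b2) (hy : x ∈ E Q a1 b1) : x ∈ Z := by
  have h1 := (s.mem_E_iff (s.E_le hx)).1 hx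
  have h2 := (s.swap.mem_E_iff (s.E_le hx)).1 hy
  exact s.mem_Z (s.E_le hx) h2.1 h2.2 h1.1 h1.2

theorem F_zero {x y : G} (hx : x ∈ E Q a2 b2) (hy : y ∈ E Q a1 b1) : F z x y = 0 :=
  (s.base.F_eq_zero s.gen (s.E_le hx) (s.swap.E_le hy)).2 (s.comm12 hx hy)

/-- characterization of `E1` by orthogonality -/
theorem mem_E_of {x : G} (hx : x ∈ Q) (h : ∀ y ∈ E Q a1 b1, F z x y = 0) : x ∈ E Q a2 b2 :=
  (s.mem_E_iff hx).2 ⟨h _ s.swap.a1_mem, h _ s.swap.b1_mem⟩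

/-- the form is nondegenerate on `E1` -/
theorem exists_F_ne {x : G} (hx : x ∈ E Q a2 b2) (hxZ : x ∉ Z) : ∃ y ∈ E Q a2 b2, F z x y ≠ 0 := by
  by_contra hcon
  push Not at hcon
  apply hxZ
  exact s.mem_Z (s.E_le hx) (hcon _ s.a1_mem) (hcon _ s.b1_mem) ((s.mem_E_iff (s.E_le hx)).1 hx).1
    ((s.mem_E_iff (s.E_le hx)).1 hx).2

/-- in `E1`, an element orthogonal to `x ∉ Z` lies in `⟨x⟩ Z` -/
theorem mem_of_F_zero {x y : G} (hx : x ∈ E Q a2 b2) (hxZ : x ∉ Z) (hy : y ∈ E Q a2 b2) (h : F z x y = 0) :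
    ∃ n : ℕ, ∃ c ∈ Z, y = x ^ n * c := by
  have hb := s.base
  have g := s.gen
  obtain ⟨w, hw, hxw⟩ := s.exists_F_ne hx hxZ
  have hxQ := s.E_le hx
  have hyQ := s.E_le hy
  have hwQ := s.E_le hw
  -- `y = x ^ n c` with `n = F y w / F x w`
  have hv : ∀ m : ZMod 3, (m.val : ZMod 3) = m := fun m => ZMod.natCast_zmod_val m
  have : Fact (Nat.Prime 3) := ⟨Nat.prime_three⟩
  refine ⟨(F z y w / F z x w).val, (x ^ (F z y w / F z x w).val)⁻¹ * y, ?_, by group⟩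
  have hpx := Q.pow_mem hxQ (F z y w / F z x w).val
  have e : ∀ u ∈ Q, F z ((x ^ (F z y w / F z x w).val)⁻¹ * y) u = F z y u - (F z y w / F z x w) * F z x u := by
    intro u hu
    rw [hb.F_mul_left g (Q.inv_mem hpx) hyQ hu, hb.F_inv_left g hpx hu, hb.F_pow_left g hxQ hu, hv]
    ring
  have hm : (x ^ (F z y w / F z x w).val)⁻¹ * y ∈ E Q a2 b2 :=
    (E Q a2 b2).mul_mem ((E Q a2 b2).inv_mem ((E Q a2 b2).pow_mem hx _)) hy
  -- it is orthogonal to `x` and to `w`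
  have h1 : F z ((x ^ (F z y w / F z x w).val)⁻¹ * y) w = 0 := by
    rw [e w hwQ, div_mul_cancel₀ _ hxw, sub_self]
  have h2 : F z ((x ^ (F z y w / F z x w).val)⁻¹ * y) x = 0 := by
    rw [e x hxQ, Base.F_self g, hb.F_swap g hyQ hxQ, h]; ring
  -- coordinates of x and w
  obtain ⟨v, hv'⟩ : ∃ v, v = (x ^ (F z y w / F z x w).val)⁻¹ * y := ⟨_, rfl⟩
  rw [← hv'] at h1 h2 hm ⊢
  have hvQ := s.E_le hm
  have e1 := s.F_left hm hwQ
  have e2 := s.F_left hm hxQ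
  have e3 := s.F_left hx hwQ
  rw [h1] at e1
  rw [h2] at e2
  have sw : ∀ u ∈ Q, F z b1 u = -F z u b1 := fun u hu => hb.F_swap g s.mb1 hu
  have sa : ∀ u ∈ Q, F z u a1 = -F z a1 u := fun u hu => hb.F_swap g hu s.ma1
  rw [sw _ hwQ] at e1 e3
  rw [sw _ hxQ] at e2
  refine s.mem_Z hvQ ?_ ?_ ((s.mem_E_iff hvQ).1 hm).1 ((s.mem_E_iff hvQ).1 hm).2
  · rw [sa _ hvQ, neg_eq_zero]
    have h3 : F z a1 v * F z x w = 0 := by
      rw [e3]; linear_combination (-F z a1 x) * e1 + (F z a1 w) * e2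
    exact (mul_eq_zero.1 h3).resolve_right hxw
  · have h3 : F z v b1 * F z x w = 0 := by
      rw [e3]; linear_combination (-F z x b1) * e1 + (F z w b1) * e2
    exact (mul_eq_zero.1 h3).resolve_right hxw

/-- `|E1| = 27` -/
theorem card_E : Nat.card ↥(E Q a2 b2) = 27 := by
  have hb := s.base
  have g := s.gen
  let φ : ↥(E Q a2 b2) →* Multiplicative (ZMod 3 × ZMod 3) :=
    MonoidHom.mk' (fun q => Multiplicative.ofAdd (F z q a1, F z q b1)) (by
      intro a b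
      apply Multiplicative.toAdd.injective
      simp only [toAdd_ofAdd, toAdd_mul, Subgroup.coe_mul]
      rw [hb.F_mul_left g (s.E_le a.2) (s.E_le b.2) s.ma1, hb.F_mul_left g (s.E_le a.2) (s.E_le b.2) s.mb1]
      rfl)
  have hφ : ∀ q, φ q = Multiplicative.ofAdd (F z q a1, F z q b1) := fun q => rfl
  have hsurj : Function.Surjective φ := by
    intro v
    obtain ⟨⟨i, j⟩, rfl⟩ := Multiplicative.ofAdd.surjective v
    have e1 : F z b1 a1 = -1 := by rw [hb.F_swap g s.mb1 s.ma1, s.f1]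
    refine ⟨⟨a1, s.a1_mem⟩ ^ j.val * ⟨b1, s.b1_mem⟩ ^ (-i).val, ?_⟩
    rw [map_mul, map_pow, map_pow, hφ, hφ]
    simp only
    rw [Base.F_self g, s.f1, e1, Base.F_self g]
    apply Multiplicative.toAdd.injective
    simp only [toAdd_mul, toAdd_pow, toAdd_ofAdd]
    have hv : ∀ m : ZMod 3, (m.val : ZMod 3) = m := fun m => ZMod.natCast_zmod_val m
    ext <;> simp [hv]
  have hc := Subgroup.card_mul_index φ.ker
  rw [Subgroup.index_ker, MonoidHom.range_eq_top.2 hsurj, Subgroup.card_top] at hc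
  have h9 : Nat.card (Multiplicative (ZMod 3 × ZMod 3)) = 9 := by
    rw [Nat.card_congr Multiplicative.toAdd, Nat.card_prod, Nat.card_zmod]
  have hk : φ.ker = Z.subgroupOf (E Q a2 b2) := by
    ext x
    rw [MonoidHom.mem_ker, hφ, Subgroup.mem_subgroupOf]
    constructor
    · intro h1
      have h2 := congrArg Multiplicative.toAdd h1
      simp only [toAdd_ofAdd, toAdd_one, Prod.ext_iff] at h2
      have h3 := (s.mem_E_iff (s.E_le x.2)).1 x.2
      exact s.mem_Z (s.E_le x.2) h2.1 h2.2 h3.1 h3.2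
    · intro h1
      rw [hb.F_z_left g h1 s.ma1, hb.F_z_left g h1 s.mb1]; rfl
  rw [hk, Nat.card_congr (subgroupOfEquivOfLe s.Z_le_E).toEquiv, s.base.card, h9] at hc
  omega

end SB

end Cfsg.Agent.H261
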