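import Cfsg.Agent.S2122
import Cfsg.Agent.ChevStructure.FieldMap

/-!
# Groups `G` with `F*(G) = F_4(2)` (helper261)
-/

set_option autoImplicit false

namespace Cfsg.Agent.H261

open Subgroup Cfsg

/-- two possibilities if `|Out(L)| = 2` -/
theorem top_or_surj {G : Type*} [Group G] {L : Subgroup G} (hL : L.Normal)
    (hC : Subgroup.centralizer (L : Set G) = ⊥) (h2 : Nat.card (Out ↥L) = 2) :
    L = ⊤ ∨ Function.Bijective (MulAut.conjNormal (H := L) : G →* MulAut ↥L) := by
  have hinj : Function.Injective (MulAut.conjNormal (H := L) : G →* MulAut ↥L) := by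
    rw [injective_iff_map_eq_one]
    intro g hg
    have h1 : g ∈ Subgroup.centralizer (L : Set G) := by
      rw [Subgroup.mem_centralizer_iff]
      intro x hx
      have h3 : ((MulAut.conjNormal (H := L) g ⟨x, hx⟩ : ↥L) : G) = g * x * g⁻¹ := MulAut.conjNormal_apply g ⟨x, hx⟩
      rw [hg] at h3
      have h4 : x = g * x * g⁻¹ := h3
      calc x * g = g * x * g⁻¹ * g := by rw [← h4]
        _ = g * x := by group
    rw [hC, Subgroup.mem_bot] at h1
    exact h1
  have hinn : ∀ l : ↥L, MulAut.conjNormal (H := L) (l : G) = MulAut.conj l := by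
    intro l
    ext x
    rw [MulAut.conjNormal_apply]
    rfl
  obtain ⟨R, hR⟩ : ∃ R, R = (MulAut.conjNormal (H := L) : G →* MulAut ↥L).range := ⟨_, rfl⟩
  have hle : Inn ↥L ≤ R := by
    rw [hR]
    rintro _ ⟨l, rfl⟩
    exact ⟨l, hinn l⟩
  have h3 := Subgroup.relIndex_mul_index hle
  have h4 : (Inn ↥L).index = 2 := h2
  rw [h4] at h3
  have h5 : R.index ∣ 2 := Dvd.intro_left _ h3
  rcases (Nat.dvd_prime Nat.prime_two).1 h5 with h6 | h6
  · right
    refine ⟨hinj, ?_⟩
    rw [Subgroup.index_eq_one, hR] at h6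
    exact MonoidHom.range_eq_top.1 h6
  · left
    rw [h6] at h3
    have h7 : (Inn ↥L).relIndex R = 1 := by omega
    rw [Subgroup.relIndex_eq_one] at h7
    rw [eq_top_iff]
    intro g _
    have h8 : MulAut.conjNormal (H := L) g ∈ Inn ↥L := h7 (by rw [hR]; exact ⟨g, rfl⟩)
    obtain ⟨l, hl⟩ := h8
    have h9 : MulAut.conjNormal (H := L) (l : G) = MulAut.conjNormal (H := L) g := (hinn l).trans hl
    rw [← hinj h9]
    exact l.2

/-- fields with two elements -/
theorem nonempty_ringEquiv {F0 F : Type*} [Field F0] [Fintype F0] [Field F] [Fintype F] (h0 : Fintype.card F0 = 2)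
    (h : Fintype.card F = 2) : Nonempty (F0 ≃+* F) := by
  have e1 := ZMod.ringEquivOfPrime F0 Nat.prime_two h0
  have e2 := ZMod.ringEquivOfPrime F Nat.prime_two h
  exact ⟨e1.symm.trans e2⟩

theorem final_F4 {G : Type*} [Group G] [Finite G] {L : Subgroup G} (hL : L.Normal)
    (hC : Subgroup.centralizer (L : Set G) = ⊥) {F0 : Type} [Field F0] [Fintype F0] (hF0 : Fintype.card F0 = 2)
    (e : ↥L ≃* ↥(Lie.chevF4.group F0)) {F : Type*} [Field F] [Fintype F] (hF : Fintype.card F = 2) :
    Nonempty (G ≃* ↥(Lie.chevF4.group F)) ∨ Nonempty (G ≃* MulAut ↥(Lie.chevF4.group F)) := by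
  obtain ⟨f⟩ := nonempty_ringEquiv hF0 hF
  have e' : ↥L ≃* ↥(Lie.chevF4.group F) := e.trans (ChevStructure.FieldMap.groupEquivOfRingEquiv Lie.chevF4 f)
  have hp : Fact (Nat.Prime 2) := ⟨Nat.prime_two⟩
  have hch : CharP F0 2 := by
    obtain ⟨r, hr⟩ := CharP.exists F0
    have hr' := CharP.char_is_prime F0 r
    obtain ⟨n, _, hn⟩ := FiniteField.card F0 r
    have h1 : r = 2 := by
      rw [hF0] at hn
      have h2 : r ∣ 2 := by rw [hn]; exact dvd_pow_self r n.2.ne'
      exact (Nat.prime_dvd_prime_iff_eq hr' Nat.prime_two).1 h2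
    rwa [h1] at hr
  have h1 : Nat.card (Out ↥(Lie.chevF4.group F0)) = 2 := by
    rw [S2122.result (F := F0) 2 1 (by rw [hF0]; norm_num)]
    norm_num
  have h2 : Nat.card (Out ↥L) = 2 := by
    rw [← h1]
    have h3 : (Inn ↥(Lie.chevF4.group F0)).index = (Inn ↥L).index := by
      have h4 : (Inn ↥(Lie.chevF4.group F0)).comap (MulAut.congr e).toMonoidHom = Inn ↥L := by
        ext x
        rw [Subgroup.mem_comap]
        constructor
        · rintro ⟨l, hl⟩
          refine ⟨e.symm l, ?_⟩
          have h5 : (MulAut.congr e) (MulAut.conj (e.symm l)) = MulAut.congr e x := by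
            rw [← show MulAut.conj l = MulAut.congr e x from hl]
            ext y
            simp [MulAut.congr]
          exact (MulAut.congr e).injective h5
        · rintro ⟨l, rfl⟩
          refine ⟨e l, ?_⟩
          ext y
          simp [MulAut.congr]
      rw [← h4]
      exact (Subgroup.index_comap_of_surjective _ (MulAut.congr e).surjective).symm
    exact h3.symm
  rcases top_or_surj hL hC h2 with h3 | h3
  · left
    exact ⟨(Subgroup.topEquiv.symm.trans (MulEquiv.subgroupCongr h3.symm)).trans e'⟩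
  · right
    exact ⟨(MulEquiv.ofBijective _ h3).trans (MulAut.congr e')⟩

end Cfsg.Agent.H261
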