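import Mathlib
import Cfsg.Agent.H261.Loc1

/-!
# `Q` lies in every normal subgroup containing `Z`, if `Z` is not weakly closed in its centralizer (helper261)
-/

set_option autoImplicit false
set_option linter.unusedSectionVars false

namespace Cfsg.Agent.H261

open Subgroup Cfsg

variable {G : Type*} [Group G] {Z Q : Subgroup G} {z a1 b1 a2 b2 : G} {P1 P2 : Subgroup G}

namespace Dec

variable (d : Dec Z Q z a1 b1 a2 b2 P1 P2)
include d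

/-- `P1` acts irreducibly on `E1 / Z` -/
theorem E1_le_of_mem [Finite G] {A : Subgroup G} (hA : centralizer (Z : Set G) ≤ normalizer (A : Set G)) (hZA : Z ≤ A)
    {w : G} (hwA : w ∈ A) (hw : w ∈ E Q a2 b2) (hwZ : w ∉ Z) : E Q a2 b2 ≤ A := by
  have hb := d.sb.base
  have g := d.sb.gen
  obtain ⟨p, hp, hF⟩ := d.exists_F_ne hw hwZ
  have hw' : p * w * p⁻¹ ∈ E Q a2 b2 := d.sb.mem_HH_conj (d.P1_HH hp) hw
  have hwA' : p * w * p⁻¹ ∈ A := (Subgroup.mem_normalizer_iff.1 (hA (d.P1C hp)) _).1 hwA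
  obtain ⟨v, hv⟩ : ∃ v, v = p * w * p⁻¹ := ⟨_, rfl⟩
  rw [← hv] at hF hw' hwA'
  have hwQ := d.sb.E_le hw
  have hvQ := d.sb.E_le hw'
  intro x hx
  have hxQ := d.sb.E_le hx
  have hvv : ∀ m : ZMod 3, (m.val : ZMod 3) = m := fun m => ZMod.natCast_zmod_val m
  obtain ⟨n, hn⟩ : ∃ n : ℕ, F z (v ^ n * x) w = 0 := by
    refine ⟨(F z x w / F z w v).val, ?_⟩
    rw [hb.F_mul_left g (Q.pow_mem hvQ _) hxQ hwQ, hb.F_pow_left g hvQ hwQ, hvv, hb.F_swap g hvQ hwQ]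
    field_simp
    ring
  have hy : v ^ n * x ∈ E Q a2 b2 := (E Q a2 b2).mul_mem ((E Q a2 b2).pow_mem hw' n) hx
  obtain ⟨m, c, hc, hm⟩ := d.sb.mem_of_F_zero hw hwZ hy (by
    rw [hb.F_swap g hwQ (d.sb.E_le hy), hn, neg_zero])
  have h1 : x = (v ^ n)⁻¹ * (w ^ m * c) := by rw [← hm]; group
  rw [h1]
  exact A.mul_mem (A.inv_mem (A.pow_mem hwA' n)) (A.mul_mem (A.pow_mem hwA m) (hZA hc))

/-- three cases for `Q ∩ L` -/
theorem cases_A [Finite G] {A : Subgroup G} (hA : centralizer (Z : Set G) ≤ normalizer (A : Set G)) (hZA : Z ≤ A)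
    (hAQ : A ≤ Q) : A ≤ Z ∨ E Q a2 b2 ≤ A ∨ E Q a1 b1 ≤ A := by
  by_cases h1 : ∃ w ∈ A, w ∈ E Q a2 b2 ∧ w ∉ Z
  · obtain ⟨w, hwA, hw, hwZ⟩ := h1
    exact Or.inr (Or.inl (d.E1_le_of_mem hA hZA hwA hw hwZ))
  by_cases h2 : ∃ w ∈ A, w ∈ E Q a1 b1 ∧ w ∉ Z
  · obtain ⟨w, hwA, hw, hwZ⟩ := h2
    exact Or.inr (Or.inr (d.swap.E1_le_of_mem hA hZA hwA hw hwZ))
  left
  intro x hx
  obtain ⟨u, hu, v, hv, rfl⟩ := d.sb.split (hAQ hx)
  have hu' : u ∈ Z := by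
    by_contra huZ
    exact h1 (d.comp_mem hA hu hv hx huZ)
  have hv' : v ∈ Z := by
    by_contra hvZ
    have h3 : v * u ∈ A := by rw [← d.sb.comm12 hu hv]; exact hx
    exact h2 (d.swap.comp_mem hA hv hu h3 hvZ)
  exact Z.mul_mem hu' hv'

/-- the bad case: `E1 ≤ L` but not `E2 ≤ L` -/
theorem not_E1 [Finite G] {L : Subgroup G} (hL : L.Normal) (hZL : Z ≤ L)
    (hY : ∃ g : G, ∃ y ∈ Z, g * y * g⁻¹ ∈ centralizer (Z : Set G) ∧ g * y * g⁻¹ ∉ Z)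
    (h1 : E Q a2 b2 ≤ L) (h2 : ¬ E Q a1 b1 ≤ L) : False := by
  have hb := d.sb.base
  have gg := d.sb.gen
  have s := d.sb
  have hZC : Z ≤ centralizer (Z : Set G) := hb.le.trans hb.leC
  -- `Q ∩ L = E1`
  have hQL : ∀ x ∈ Q, x ∈ L → x ∈ E Q a2 b2 := by
    intro x hx hxL
    obtain ⟨u, hu, v, hv, rfl⟩ := s.split hx
    have hvL : v ∈ L := by
      have := L.mul_mem (L.inv_mem (h1 hu)) hxL
      rwa [inv_mul_cancel_left] at this
    by_cases hvZ : v ∈ Z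
    · exact (E Q a2 b2).mul_mem hu (s.Z_le_E hvZ)
    · exfalso
      apply h2
      have h3 : E Q a1 b1 ≤ Q ⊓ L := by
        refine d.swap.E1_le_of_mem (A := Q ⊓ L) ?_ (le_inf hb.le hZL) ⟨s.swap.E_le hv, hvL⟩ hv hvZ
        exact le_normalizer_of_conj fun c hc y hy => ⟨hb.conj_Q hc hy.1, hL.conj_mem y hy.2 c⟩
      exact h3.trans inf_le_right
  -- `X = L ∩ C`
  obtain ⟨X, hX⟩ : ∃ X, X = L ⊓ centralizer (Z : Set G) := ⟨_, rfl⟩
  have hXm : ∀ x, x ∈ X ↔ x ∈ L ∧ x ∈ centralizer (Z : Set G) := fun x => by rw [hX]; rfl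
  have hXHH : ∀ x ∈ X, x ∈ HH Z Q a2 b2 := by
    intro x hx
    obtain ⟨hxL, hxC⟩ := (hXm x).1 hx
    refine (d.blk x hxC).resolve_right fun h => ?_
    -- `x a2 x⁻¹ ∈ E1`, and `[x, a2] ∈ E1`
    have h3 := h.2 a2 s.swap.a1_mem
    have h4 : x * a2 * x⁻¹ * a2⁻¹ ∈ E Q a2 b2 := by
      refine hQL _ (Q.mul_mem (s.E_le h3) (Q.inv_mem s.ma2)) ?_
      have h5 : x * a2 * x⁻¹ * a2⁻¹ = x * (a2 * x⁻¹ * a2⁻¹) := by group
      rw [h5]
      exact L.mul_mem hxL (hL.conj_mem _ (L.inv_mem hxL) a2)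
    have h5 : a2 ∈ E Q a2 b2 := by
      have := (E Q a2 b2).mul_mem ((E Q a2 b2).inv_mem h4) h3
      have h6 : (x * a2 * x⁻¹ * a2⁻¹)⁻¹ * (x * a2 * x⁻¹) = a2 := by group
      rwa [h6] at this
    exact s.swap.a1_not_mem (s.inf_eq h5 s.swap.a1_mem)
  -- commutators with `E2` are in `Z`
  have hXE2 : ∀ x ∈ X, ∀ e ∈ E Q a1 b1, x * e * x⁻¹ * e⁻¹ ∈ Z := by
    intro x hx e he
    obtain ⟨hxL, hxC⟩ := (hXm x).1 hx
    have h3 := s.swap.mem_HH_conj (s.HH_le_swap (hXHH x hx)) he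
    have h4 : x * e * x⁻¹ * e⁻¹ ∈ E Q a1 b1 := (E Q a1 b1).mul_mem h3 ((E Q a1 b1).inv_mem he)
    refine s.inf_eq (hQL _ (s.swap.E_le h4) ?_) h4
    have h5 : x * e * x⁻¹ * e⁻¹ = x * (e * x⁻¹ * e⁻¹) := by group
    rw [h5]
    exact L.mul_mem hxL (hL.conj_mem _ (L.inv_mem hxL) e)
  have hXr2 : ∀ x ∈ X, rho z a2 b2 x = 1 := fun x hx => (s.swap.rho_eq_one (s.HH_le_swap (hXHH x hx))).2 (hXE2 x hx)
  -- elements of X commuting with E1 are in Z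
  have hXcE1 : ∀ x ∈ X, (∀ e ∈ E Q a2 b2, e * x = x * e) → x ∈ Z := by
    intro x hx h3
    have h4 : rho z a1 b1 x = 1 := (s.rho_eq_one (hXHH x hx)).2 fun e he => by
      rw [← h3 e he]
      have : e * x * x⁻¹ * e⁻¹ = 1 := by group
      rw [this]; exact Z.one_mem
    have h5 : x ∈ Q := s.mem_Q_of_rho (hXHH x hx) h4 (hXr2 x hx)
    have h6 := hQL x h5 ((hXm x).1 hx).1
    refine s.mem_Z h5 ?_ ?_ ((s.mem_E_iff h5).1 h6).1 ((s.mem_E_iff h5).1 h6).2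
    · rw [hb.F_eq_zero gg h5 s.ma1]; exact (h3 _ s.a1_mem).symm
    · rw [hb.F_eq_zero gg h5 s.mb1]; exact (h3 _ s.b1_mem).symm
  -- generic commutator facts
  have hcommL : ∀ x ∈ X, ∀ p ∈ HH Z Q a2 b2, rho z a1 b1 p = 1 → p * x * p⁻¹ * x⁻¹ ∈ E Q a2 b2 := by
    intro x hx p hp hrp
    have hxH := hXHH x hx
    have hxH' := s.HH_le_swap hxH
    have hp' := s.HH_le_swap hp
    have r1i : rho z a1 b1 x * rho z a1 b1 x⁻¹ = 1 := by
      rw [← s.rho_mul hxH.1 ((HH Z Q a2 b2).inv_mem hxH), mul_inv_cancel]; exact s.rho_one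
    have r1p : rho z a1 b1 p⁻¹ = 1 := by
      have h3 : rho z a1 b1 p * rho z a1 b1 p⁻¹ = 1 := by
        rw [← s.rho_mul hp.1 ((HH Z Q a2 b2).inv_mem hp), mul_inv_cancel]; exact s.rho_one
      rwa [hrp, one_mul] at h3
    have r2i : rho z a2 b2 p * rho z a2 b2 p⁻¹ = 1 := by
      rw [← s.swap.rho_mul hp'.1 ((HH Z Q a1 b1).inv_mem hp'), mul_inv_cancel]; exact s.swap.rho_one
    have r2x := hXr2 x hx
    have r2x' : rho z a2 b2 x⁻¹ = 1 := hXr2 _ (X.inv_mem hx)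
    refine hQL _ ?_ ?_
    · refine s.mem_Q_of_rho (mul_mem (mul_mem (mul_mem hp hxH) (inv_mem hp)) (inv_mem hxH)) ?_ ?_
      · rw [s.rho_mul (mul_mem (mul_mem hp.1 hxH.1) (inv_mem hp.1)) (inv_mem hxH),
          s.rho_mul (mul_mem hp.1 hxH.1) (inv_mem hp), s.rho_mul hp.1 hxH, hrp, r1p, one_mul, mul_one, r1i]
      · rw [s.swap.rho_mul (mul_mem (mul_mem hp.1 hxH.1) (inv_mem hp.1)) (inv_mem hxH'),
          s.swap.rho_mul (mul_mem hp.1 hxH.1) (inv_mem hp'), s.swap.rho_mul hp.1 hxH', r2x, r2x', mul_one, mul_one, r2i]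
    · exact L.mul_mem (hL.conj_mem _ ((hXm x).1 hx).1 p) (L.inv_mem ((hXm x).1 hx).1)
  -- `R = C_C(X)`
  obtain ⟨R, hR⟩ : ∃ R, R = centralizer (Z : Set G) ⊓ centralizer (X : Set G) := ⟨_, rfl⟩
  have hRm : ∀ r, r ∈ R ↔ r ∈ centralizer (Z : Set G) ∧ ∀ x ∈ X, x * r = r * x := fun r => by
    rw [hR, Subgroup.mem_inf, mem_cent_iff]
    exact Iff.and Iff.rfl mem_cent_iff
  -- `E2 ≤ R`
  have hE2R : E Q a1 b1 ≤ R := by
    intro e he
    rw [hRm]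
    refine ⟨hb.leC (s.swap.E_le he), fun x hx => ?_⟩
    obtain ⟨t, ht, hrt⟩ := d.full2 (-1) (by decide) (by decide)
    have htH := d.P2_HH ht
    have hrt1 : rho z a1 b1 t = 1 := (s.rho_eq_one htH).2 fun y hy => by
      rw [d.cE1 t ht y hy]
      have : y * t * t⁻¹ * y⁻¹ = 1 := by group
      rw [this]; exact Z.one_mem
    obtain ⟨e1, he1⟩ : ∃ e1, e1 = x⁻¹ * (t * x * t⁻¹) := ⟨_, rfl⟩
    have he1E : e1 ∈ E Q a2 b2 := by
      have h3 := hcommL x hx t htH hrt1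
      have h4 := s.mem_HH_conj (inv_mem (hXHH x hx)) h3
      have h5 : x⁻¹ * (t * x * t⁻¹ * x⁻¹) * x⁻¹⁻¹ = e1 := by rw [he1]; group
      rwa [h5] at h4
    have htx : t * x * t⁻¹ = x * e1 := by rw [he1]; group
    -- the commutator c = [x, e]
    obtain ⟨c, hc⟩ : ∃ c, c = x * e * x⁻¹ * e⁻¹ := ⟨_, rfl⟩
    have hcZ : c ∈ Z := hc ▸ hXE2 x hx e he
    have hxe : x * e * x⁻¹ = c * e := by rw [hc]; group
    obtain ⟨k, hk⟩ : ∃ k, k = t * e * t⁻¹ * e := ⟨_, rfl⟩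
    have hkZ : k ∈ Z := hk ▸ s.swap.rho_neg (s.HH_le_swap htH) hrt he
    have hte : t * e * t⁻¹ = k * e⁻¹ := by rw [hk]; group
    -- conjugating `x e x⁻¹ = c e` by `t`
    have h3 : (x * e1) * (k * e⁻¹) * (x * e1)⁻¹ = c * (k * e⁻¹) := by
      rw [← htx, ← hte]
      calc t * x * t⁻¹ * (t * e * t⁻¹) * (t * x * t⁻¹)⁻¹ = t * (x * e * x⁻¹) * t⁻¹ := by group
        _ = t * (c * e) * t⁻¹ := by rw [hxe]
        _ = (t * c * t⁻¹) * (t * e * t⁻¹) := by group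
        _ = c * (t * e * t⁻¹) := by rw [hb.conj_Z htH.1 hcZ]
    have h4 : e1 * (k * e⁻¹) * e1⁻¹ = k * e⁻¹ := by
      have h5 := s.comm12 he1E ((E Q a1 b1).mul_mem (s.swap.Z_le_E hkZ) ((E Q a1 b1).inv_mem he))
      rw [h5]; group
    have h5 : x * (k * e⁻¹) * x⁻¹ = k * (x * e * x⁻¹)⁻¹ := by
      have h6 := mem_cent_comm (hXHH x hx).1 hkZ
      calc x * (k * e⁻¹) * x⁻¹ = (x * k) * e⁻¹ * x⁻¹ := by group
        _ = (k * x) * e⁻¹ * x⁻¹ := by rw [h6]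
        _ = k * (x * e * x⁻¹)⁻¹ := by group
    have h6 : (x * e1) * (k * e⁻¹) * (x * e1)⁻¹ = k * (c * e)⁻¹ := by
      calc (x * e1) * (k * e⁻¹) * (x * e1)⁻¹ = x * (e1 * (k * e⁻¹) * e1⁻¹) * x⁻¹ := by group
        _ = k * (x * e * x⁻¹)⁻¹ := by rw [h4, h5]
        _ = k * (c * e)⁻¹ := by rw [hxe]
    rw [h3] at h6
    -- c k e⁻¹ = k e⁻¹ c⁻¹
    have hce : Commute c e := mem_cent_comm (hb.leC (s.swap.E_le he)) hcZ
    have hck : Commute c k := mem_cent_comm (hZC hkZ) hcZ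
    have h7 : c * c = 1 := by
      have h8 : k * (c * e)⁻¹ = c⁻¹ * (k * e⁻¹) := by
        rw [mul_inv_rev]
        have e1' : Commute e⁻¹ c⁻¹ := hce.symm.inv_inv
        have e2' : Commute k c⁻¹ := hck.symm.inv_right
        rw [e1'.eq, ← mul_assoc, e2'.eq, mul_assoc]
      rw [h8] at h6
      have h9 := mul_right_cancel h6
      calc c * c = c⁻¹ * c := by nth_rw 1 [h9]
        _ = 1 := inv_mul_cancel c
    have h8 : c = 1 := by
      have h9 : c ^ 3 = 1 := by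
        rcases gg.all c hcZ with h | h | h
        · rw [h, one_pow]
        · rw [h, gg.cube]
        · rw [h, ← pow_mul, mul_comm, pow_mul, gg.cube, one_pow]
      calc c = c ^ 3 * (c * c)⁻¹ := by rw [pow_succ, pow_two]; group
        _ = 1 := by rw [h9, h7]; simp
    calc x * e = (x * e * x⁻¹) * x := by group
      _ = c * e * x := by rw [hxe]
      _ = e * x := by rw [h8, one_mul]
  -- `P2 ≤ R`
  have hP2R : P2 ≤ R := by
    intro p hp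
    rw [hRm]
    refine ⟨d.P2C hp, fun x hx => ?_⟩
    have hpH := d.P2_HH hp
    have hrp1 : rho z a1 b1 p = 1 := (s.rho_eq_one hpH).2 fun y hy => by
      rw [d.cE1 p hp y hy]
      have : y * p * p⁻¹ * y⁻¹ = 1 := by group
      rw [this]; exact Z.one_mem
    obtain ⟨e1, he1⟩ : ∃ e1, e1 = p * x * p⁻¹ * x⁻¹ := ⟨_, rfl⟩
    have he1E : e1 ∈ E Q a2 b2 := he1 ▸ hcommL x hx p hpH hrp1
    have hpx : p * x * p⁻¹ = e1 * x := by rw [he1]; group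
    have hpe : p * e1 * p⁻¹ = e1 := by rw [d.cE1 p hp e1 he1E]; group
    have hn : ∀ n : ℕ, p ^ n * x * (p ^ n)⁻¹ = e1 ^ n * x := by
      intro n
      induction n with
      | zero => simp
      | succ n ih =>
        have e2 : p * e1 ^ n * p⁻¹ = e1 ^ n := by rw [← conj_pow, hpe]
        calc p ^ (n + 1) * x * (p ^ (n + 1))⁻¹ = p * (p ^ n * x * (p ^ n)⁻¹) * p⁻¹ := by rw [pow_succ']; group
          _ = p * (e1 ^ n * x) * p⁻¹ := by rw [ih]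
          _ = (p * e1 ^ n * p⁻¹) * (p * x * p⁻¹) := by group
          _ = e1 ^ (n + 1) * x := by rw [e2, hpx, pow_succ]; group
    have h8 := hn 8
    rw [d.swap.P1_pow hp] at h8
    have h9 : e1 ^ 8 = 1 := by
      have h10 : 1 * x * (1 : G)⁻¹ = 1 * x := by group
      rw [h10] at h8
      exact (mul_right_cancel h8).symm
    have h10 : e1 ^ 3 = 1 := d.cube (s.E_le he1E)
    have h11 : e1 = 1 := by
      calc e1 = (e1 ^ 3) ^ 3 * (e1 ^ 8)⁻¹ := by rw [← pow_mul]; group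
        _ = 1 := by rw [h10, h9]; simp
    rw [h11, one_mul] at hpx
    calc x * p = (p * x * p⁻¹) * p := by rw [hpx]
      _ = p * x := by group
  -- elements of `R ∩ L` lie in `Z`
  have hE1X : E Q a2 b2 ≤ X := fun e he => (hXm e).2 ⟨h1 he, hb.leC (s.E_le he)⟩
  have hRL : ∀ r ∈ R, r ∈ L → r ∈ Z := by
    intro r hr hrL
    obtain ⟨hrC, hr'⟩ := (hRm r).1 hr
    exact hXcE1 r ((hXm r).2 ⟨hrL, hrC⟩) fun e he => hr' e (hE1X he)
  -- the order of `R`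
  have hRcard : 216 ≤ Nat.card ↥R := by
    have h3 : 27 ∣ Nat.card ↥R := by rw [← s.swap.card_E]; exact Subgroup.card_dvd_of_le hE2R
    have h4 : 8 ∣ Nat.card ↥R := by rw [← d.card2]; exact Subgroup.card_dvd_of_le hP2R
    have h5 : 27 * 8 ∣ Nat.card ↥R := Nat.Coprime.mul_dvd_of_dvd_of_dvd (by norm_num) h3 h4
    exact Nat.le_of_dvd Nat.card_pos h5
  -- the order of `X`
  have hXcard : Nat.card ↥X ≤ 648 := by
    let f : ↥X →* Matrix.SpecialLinearGroup (Fin 2) (ZMod 3) := s.r1.comp (Subgroup.inclusion hXHH)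
    have hk : f.ker ≤ (E Q a2 b2).subgroupOf X := by
      intro x hx
      rw [Subgroup.mem_subgroupOf]
      have h3' : f x = 1 := MonoidHom.mem_ker.1 hx
      have h3 : rho z a1 b1 (x : G) = 1 := congrArg Subtype.val h3'
      exact hQL _ (s.mem_Q_of_rho (hXHH x x.2) h3 (hXr2 x x.2)) ((hXm x).1 x.2).1
    have h3 := Subgroup.card_mul_index f.ker
    rw [Subgroup.index_ker] at h3
    have h4 : Nat.card ↥f.range ≤ 24 := by
      rw [← SL.natCard_SL]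
      exact Nat.card_le_card_of_injective _ Subtype.val_injective
    have h5 := Subgroup.card_le_of_le hk
    rw [Nat.card_congr (subgroupOfEquivOfLe hE1X).toEquiv, s.card_E] at h5
    rw [← h3]
    calc Nat.card ↥f.ker * Nat.card ↥f.range ≤ 27 * 24 := Nat.mul_le_mul h5 h4
      _ = 648 := by norm_num
  -- Frattini: an element of `L` moving `Z`
  obtain ⟨g, hgL, hgC, hgZ⟩ : ∃ g ∈ L, (∀ y ∈ Z, g * y * g⁻¹ ∈ centralizer (Z : Set G)) ∧
      ¬ (∀ y ∈ Z, g * y * g⁻¹ ∈ Z) := by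
    have : L.Normal := hL
    have hE1p : IsPGroup 3 ↥((E Q a2 b2).subgroupOf L) :=
      (IsPGroup.of_card (n := 3) (by rw [Nat.card_congr (subgroupOfEquivOfLe h1).toEquiv, s.card_E]; norm_num))
    obtain ⟨T, hT⟩ := hE1p.exists_le_sylow
    have hfr := Sylow.normalizer_sup_eq_top T
    obtain ⟨TL, hTL⟩ : ∃ TL, TL = (T : Subgroup ↥L).map L.subtype := ⟨_, rfl⟩
    rw [← hTL] at hfr
    have hTLp : IsPGroup 3 ↥TL := by rw [hTL]; exact T.isPGroup'.map _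
    have hE1T : E Q a2 b2 ≤ TL := by
      intro e he
      rw [hTL]
      exact ⟨⟨e, h1 he⟩, hT (by rw [Subgroup.mem_subgroupOf]; exact he), rfl⟩
    have hTLL : TL ≤ L := by
      rw [hTL]; rintro _ ⟨x, -, rfl⟩; exact x.2
    have hZT : Z ≤ TL := s.Z_le_E.trans hE1T
    have hctr : ∀ w ∈ TL, (∀ t ∈ TL, t * w = w * t) → w ∈ Z := by
      intro w hw h3
      refine hXcE1 w ((hXm w).2 ⟨hTLL hw, mem_cent_iff.2 fun y hy => h3 y (hZT hy)⟩) fun e he => h3 e (hE1T he)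
    have hTne : TL ≠ ⊥ := by
      intro hbot
      have h3 := gg.ne
      exact h3 (Subgroup.mem_bot.1 (by rw [← hbot]; exact hZT gg.mem))
    obtain ⟨w, hw, hw1, hwc⟩ := Cfsg.Agent.Characters.CNBasic.exists_mem_center_of_normal TL hTLp TL hTLp hTne
      (fun t ht d hd => TL.mul_mem (TL.mul_mem ht hd) (TL.inv_mem ht))
    have hwZ := hctr w hw hwc
    have hZc : ∀ y ∈ Z, ∀ t ∈ TL, t * y = y * t := by
      have h3 : Z ≤ centralizer (TL : Set G) :=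
        eq_of_mem_of_card_prime Nat.prime_three hb.card hwZ hw1 (mem_cent_iff.2 hwc)
      intro y hy t ht
      exact mem_cent_iff.1 (h3 hy) t ht
    obtain ⟨g0, y0, hy0, hgC0, hgZ0⟩ := hY
    have hg0 : g0 ∈ L ⊔ normalizer (TL : Set G) := by
      rw [sup_comm, hfr]; trivial
    obtain ⟨l, hl, n, hn, hln⟩ := Subgroup.mem_sup_of_normal_left.1 hg0
    have hnZ : ∀ y ∈ Z, n * y * n⁻¹ ∈ Z := by
      intro y hy
      refine hctr _ ((Subgroup.mem_normalizer_iff.1 hn y).1 (hZT hy)) fun t ht => ?_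
      have h3 : n⁻¹ * t * n ∈ TL := by
        have := (Subgroup.mem_normalizer_iff.1 (inv_mem hn) t).1 ht
        rwa [inv_inv] at this
      have h4 := hZc y hy _ h3
      calc t * (n * y * n⁻¹) = n * ((n⁻¹ * t * n) * y) * n⁻¹ := by group
        _ = n * (y * (n⁻¹ * t * n)) * n⁻¹ := by rw [h4]
        _ = n * y * n⁻¹ * t := by group
    have hy0Z := hnZ y0 hy0
    have he : g0 * y0 * g0⁻¹ = l * (n * y0 * n⁻¹) * l⁻¹ := by rw [← hln]; group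
    have hne : n * y0 * n⁻¹ ≠ 1 := by
      intro h3
      apply hgZ0
      rw [he, h3]
      have : l * 1 * l⁻¹ = 1 := by group
      rw [this]; exact Z.one_mem
    have hZz : Z ≤ Subgroup.zpowers (n * y0 * n⁻¹) :=
      eq_of_mem_of_card_prime Nat.prime_three hb.card hy0Z hne (Subgroup.mem_zpowers _)
    refine ⟨l, hl, ?_, ?_⟩
    · intro y hy
      obtain ⟨k, rfl⟩ := Subgroup.mem_zpowers_iff.1 (hZz hy)
      rw [← conj_zpow]
      refine (centralizer (Z : Set G)).zpow_mem ?_ k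
      rw [← he]; exact hgC0
    · intro h3
      apply hgZ0
      rw [he]
      exact h3 _ hy0Z
  -- conjugates
  have hgz : g * z * g⁻¹ ∉ Z := by
    intro h3
    apply hgZ
    intro y hy
    rcases gg.all y hy with rfl | rfl | rfl
    · simp
    · exact h3
    · rw [← conj_pow]; exact Z.pow_mem h3 2
  -- `X1 = g X g⁻¹`, `R1 = g R g⁻¹` via membership of `g⁻¹ x g`
  have hX1 : ∀ x, g⁻¹ * x * g ∈ X ↔ x ∈ L ∧ ∀ y ∈ Z, (g * y * g⁻¹) * x = x * (g * y * g⁻¹) := by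
    intro x
    rw [hXm, mem_cent_iff]
    constructor
    · rintro ⟨h3, h4⟩
      refine ⟨?_, fun y hy => ?_⟩
      · have := hL.conj_mem _ h3 g
        have h5 : g * (g⁻¹ * x * g) * g⁻¹ = x := by group
        rwa [h5] at this
      · have h5 := h4 y hy
        calc g * y * g⁻¹ * x = g * (y * (g⁻¹ * x * g)) * g⁻¹ := by group
          _ = g * (g⁻¹ * x * g * y) * g⁻¹ := by rw [h5]
          _ = x * (g * y * g⁻¹) := by group
    · rintro ⟨h3, h4⟩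
      refine ⟨?_, fun y hy => ?_⟩
      · have := hL.conj_mem _ h3 g⁻¹
        rwa [inv_inv] at this
      · have h5 := h4 y hy
        calc y * (g⁻¹ * x * g) = g⁻¹ * (g * y * g⁻¹ * x) * g := by group
          _ = g⁻¹ * (x * (g * y * g⁻¹)) * g := by rw [h5]
          _ = g⁻¹ * x * g * y := by group
  have hYX : ∀ y ∈ Z, g * y * g⁻¹ ∈ X := fun y hy => (hXm _).2 ⟨hL.conj_mem _ (hZL hy) g, hgC y hy⟩
  -- r ∈ R commutes with Y
  have hRY : ∀ r ∈ R, ∀ y ∈ Z, (g * y * g⁻¹) * r = r * (g * y * g⁻¹) := fun r hr y hy =>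
    ((hRm r).1 hr).2 _ (hYX y hy)
  -- the hom ℓ
  have hl : ∀ r ∈ R, g⁻¹ * (r * (g * r * g⁻¹)⁻¹) * g ∈ X := by
    intro r hr
    rw [hX1]
    constructor
    · have h3 : r * (g * r * g⁻¹)⁻¹ = (r * g * r⁻¹) * g⁻¹ := by group
      rw [h3]
      exact L.mul_mem (hL.conj_mem _ hgL r) (L.inv_mem hgL)
    · intro y hy
      have h3 : Commute (g * y * g⁻¹) r := hRY r hr y hy
      have h4 : Commute (g * y * g⁻¹) (g * r * g⁻¹) := by
        have h5 := mem_cent_comm ((hRm r).1 hr).1 hy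
        change g * y * g⁻¹ * (g * r * g⁻¹) = g * r * g⁻¹ * (g * y * g⁻¹)
        calc g * y * g⁻¹ * (g * r * g⁻¹) = g * (y * r) * g⁻¹ := by group
          _ = g * (r * y) * g⁻¹ := by rw [h5]
          _ = g * r * g⁻¹ * (g * y * g⁻¹) := by group
      exact (h3.mul_right h4.inv_right).eq
  -- elements of `R` centralizing `E2` are in `Z`... `R ∩ g R g⁻¹ = 1`
  have hRE2n : ∀ r ∈ R, (∀ e ∈ E Q a1 b1, e * r = r * e) → r ∈ Z := by
    intro r hr h3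
    obtain ⟨hrC, hr'⟩ := (hRm r).1 hr
    have h4 : r ∈ Q := by
      refine hb.cent (mem_cent_iff.2 fun q hq => ?_)
      obtain ⟨u, hu, v, hv, rfl⟩ := s.split hq
      have e1 := hr' u (hE1X hu)
      have e2 := h3 v hv
      rw [mul_assoc, e2, ← mul_assoc, e1, mul_assoc]
    refine hb.ctr r h4 fun y hy => ?_
    obtain ⟨u, hu, v, hv, rfl⟩ := s.split hy
    have e1 := hr' u (hE1X hu)
    have e2 := h3 v hv
    rw [mul_assoc, e2, ← mul_assoc, e1, mul_assoc]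
  have hRHH : ∀ r ∈ R, r ∈ HH Z Q a2 b2 := by
    intro r hr
    obtain ⟨hrC, hr'⟩ := (hRm r).1 hr
    refine s.mem_HH_of hrC fun x hx => ?_
    rw [← hr' x (hE1X hx)]
    have : x * r * r⁻¹ = x := by group
    rw [this]; exact hx
  have hinter : ∀ r ∈ R, g⁻¹ * r * g ∈ R → r = 1 := by
    -- K1 = R ∩ gRg⁻¹
    obtain ⟨K, hK⟩ : ∃ K : Subgroup G, K = R ⊓ R.map (MulAut.conj g).toMonoidHom := ⟨_, rfl⟩
    have hKm : ∀ r, r ∈ K ↔ r ∈ R ∧ g⁻¹ * r * g ∈ R := by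
      intro r
      rw [hK, Subgroup.mem_inf]
      refine and_congr_right fun _ => ?_
      constructor
      · rintro ⟨w, hw, rfl⟩
        have : g⁻¹ * ((MulAut.conj g).toMonoidHom w) * g = w := by
          change g⁻¹ * (g * w * g⁻¹) * g = w
          group
        rw [this]; exact hw
      · intro h3
        exact ⟨_, h3, by change g * (g⁻¹ * r * g) * g⁻¹ = r; group⟩
    -- R normalizes K
    have hRK : ∀ r ∈ R, ∀ k ∈ K, r * k * r⁻¹ ∈ K := by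
      intro r hr k hk
      rw [hKm] at hk ⊢
      refine ⟨R.mul_mem (R.mul_mem hr hk.1) (R.inv_mem hr), ?_⟩
      -- g⁻¹ r k r⁻¹ g ∈ R
      obtain ⟨hkC, hk'⟩ := (hRm _).1 hk.2
      have hcr : ∀ r ∈ R, g⁻¹ * r * g ∈ centralizer (Z : Set G) := by
        intro r hr
        rw [mem_cent_iff]
        intro y hy
        have h5 := hRY r hr y hy
        calc y * (g⁻¹ * r * g) = g⁻¹ * (g * y * g⁻¹ * r) * g := by group
          _ = g⁻¹ * (r * (g * y * g⁻¹)) * g := by rw [h5]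
          _ = g⁻¹ * r * g * y := by group
      have hrn : ∀ x ∈ X, (g⁻¹ * r * g)⁻¹ * x * (g⁻¹ * r * g) ∈ X := by
        intro x hx
        rw [hXm] at hx ⊢
        refine ⟨?_, mul_mem (mul_mem (inv_mem (hcr r hr)) hx.2) (hcr r hr)⟩
        have := hL.conj_mem _ hx.1 (g⁻¹ * r * g)⁻¹
        rwa [inv_inv] at this
      rw [hRm]
      constructor
      · exact hcr _ (R.mul_mem (R.mul_mem hr hk.1) (R.inv_mem hr))
      · intro x hx
        have h5 := hk' _ (hrn x hx)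
        have e0 : g⁻¹ * (r * k * r⁻¹) * g = (g⁻¹ * r * g) * (g⁻¹ * k * g) * (g⁻¹ * r * g)⁻¹ := by group
        rw [e0]
        calc x * ((g⁻¹ * r * g) * (g⁻¹ * k * g) * (g⁻¹ * r * g)⁻¹)
            = (g⁻¹ * r * g) * (((g⁻¹ * r * g)⁻¹ * x * (g⁻¹ * r * g)) * (g⁻¹ * k * g)) * (g⁻¹ * r * g)⁻¹ := by group
          _ = (g⁻¹ * r * g) * ((g⁻¹ * k * g) * ((g⁻¹ * r * g)⁻¹ * x * (g⁻¹ * r * g))) * (g⁻¹ * r * g)⁻¹ := by rw [h5]
          _ = (g⁻¹ * r * g) * (g⁻¹ * k * g) * (g⁻¹ * r * g)⁻¹ * x := by group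
    -- K ∩ Z = 1
    have hKZ : ∀ k ∈ K, k ∈ Z → k = 1 := by
      intro k hk hkZ
      by_contra hk1
      rw [hKm] at hk
      have h3 := hRL _ hk.2 (by
        have := hL.conj_mem _ (hZL hkZ) g⁻¹
        rwa [inv_inv] at this)
      -- g⁻¹ k g ∈ Z, so g normalizes Z
      apply hgz
      have h4 : Z ≤ Subgroup.zpowers (g⁻¹ * k * g) := by
        refine eq_of_mem_of_card_prime Nat.prime_three hb.card h3 ?_ (Subgroup.mem_zpowers _)
        intro h5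
        apply hk1
        calc k = g * (g⁻¹ * k * g) * g⁻¹ := by group
          _ = 1 := by rw [h5]; group
      obtain ⟨m, hm⟩ := Subgroup.mem_zpowers_iff.1 (h4 gg.mem)
      rw [← hm, ← conj_zpow]
      refine Z.zpow_mem ?_ m
      have h5 : g * (g⁻¹ * k * g) * g⁻¹ = k := by group
      rw [h5]; exact hkZ
    -- K ∩ E2 = 1
    have hKE : ∀ k ∈ K, k ∈ E Q a1 b1 → k = 1 := by
      intro k hk hkE
      by_cases hkZ : k ∈ Z
      · exact hKZ k hk hkZ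
      exfalso
      obtain ⟨w, hw, hF⟩ := s.swap.exists_F_ne hkE hkZ
      -- [k, w] ∈ K ∩ Z
      have h3 : k * w * k⁻¹ * w⁻¹ ∈ K := by
        have h4 := hRK w (hE2R hw) _ (K.inv_mem hk)
        have h5 : k * w * k⁻¹ * w⁻¹ = k * (w * k⁻¹ * w⁻¹) := by group
        rw [h5]; exact K.mul_mem hk h4
      have h4 := hKZ _ h3 (hb.comm _ (s.swap.E_le hkE) _ (s.swap.E_le hw))
      apply hF
      rw [F, h4, gg.lg_one]
    intro r hr hr'
    have hrK : r ∈ K := (hKm r).2 ⟨hr, hr'⟩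
    -- r centralizes E2
    refine hKZ r hrK (hRE2n r hr fun e he => ?_)
    have h3 : r * e * r⁻¹ * e⁻¹ = 1 := by
      refine hKE _ ?_ ?_
      · have h4 := hRK e (hE2R he) _ (K.inv_mem hrK)
        have h5 : r * e * r⁻¹ * e⁻¹ = r * (e * r⁻¹ * e⁻¹) := by group
        rw [h5]; exact K.mul_mem hrK h4
      · exact (E Q a1 b1).mul_mem (s.swap.mem_HH_conj (s.HH_le_swap (hRHH r hr)) he) ((E Q a1 b1).inv_mem he)
    calc e * r = (r * e * r⁻¹ * e⁻¹)⁻¹ * (r * e) := by group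
      _ = r * e := by rw [h3]; group
  -- the map `R × Z → X`, (r, y) ↦ g⁻¹ ℓ(r) g * y
  let θ : ↥R × ↥Z → ↥X := fun p => ⟨g⁻¹ * ((p.1 : G) * (g * p.1 * g⁻¹)⁻¹) * g * p.2,
    X.mul_mem (hl p.1 p.1.2) ((hXm _).2 ⟨hZL p.2.2, hZC p.2.2⟩)⟩
  -- commuting facts: `ℓ(s)` is centralized by `g r g⁻¹`
  have hcomm : ∀ r ∈ R, ∀ t ∈ R, (g * r * g⁻¹) * (t * (g * t * g⁻¹)⁻¹) * (g * r * g⁻¹)⁻¹ = t * (g * t * g⁻¹)⁻¹ := by
    intro r hr t ht
    have h3 := ((hRm r).1 hr).2 _ (hl t ht)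
    calc (g * r * g⁻¹) * (t * (g * t * g⁻¹)⁻¹) * (g * r * g⁻¹)⁻¹
        = g * (r * (g⁻¹ * (t * (g * t * g⁻¹)⁻¹) * g)) * r⁻¹ * g⁻¹ := by group
      _ = g * ((g⁻¹ * (t * (g * t * g⁻¹)⁻¹) * g) * r) * r⁻¹ * g⁻¹ := by rw [h3]
      _ = t * (g * t * g⁻¹)⁻¹ := by group
  have hhom : ∀ r ∈ R, ∀ t ∈ R, (r * t) * (g * (r * t) * g⁻¹)⁻¹ =
      (r * (g * r * g⁻¹)⁻¹) * (t * (g * t * g⁻¹)⁻¹) := by
    intro r hr t ht
    calc (r * t) * (g * (r * t) * g⁻¹)⁻¹ = r * (g * r * g⁻¹)⁻¹ * ((g * r * g⁻¹) * (t * (g * t * g⁻¹)⁻¹) * (g * r * g⁻¹)⁻¹) := by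
          group
      _ = (r * (g * r * g⁻¹)⁻¹) * (t * (g * t * g⁻¹)⁻¹) := by rw [hcomm r hr t ht]
  -- if `g⁻¹ ℓ(r) g ∈ Z` then `r = 1`
  have hinj0 : ∀ r ∈ R, g⁻¹ * (r * (g * r * g⁻¹)⁻¹) * g ∈ Z → r = 1 := by
    intro r hr h3
    refine hinter r hr ?_
    have h4 : g⁻¹ * r * g = (g⁻¹ * (r * (g * r * g⁻¹)⁻¹) * g) * r := by group
    rw [h4]
    refine R.mul_mem ?_ hr
    exact hE2R (s.swap.Z_le_E h3)
  have hθ : Function.Injective θ := by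
    rintro ⟨⟨r, hr⟩, ⟨y, hy⟩⟩ ⟨⟨t, ht⟩, ⟨w, hw⟩⟩ heq
    have h3 : g⁻¹ * (r * (g * r * g⁻¹)⁻¹) * g * y = g⁻¹ * (t * (g * t * g⁻¹)⁻¹) * g * w := congrArg Subtype.val heq
    -- r⁻¹... use t⁻¹ r
    have h4 : g⁻¹ * ((t⁻¹ * r) * (g * (t⁻¹ * r) * g⁻¹)⁻¹) * g ∈ Z := by
      rw [hhom _ (R.inv_mem ht) _ hr]
      have h5 : t⁻¹ * (g * t⁻¹ * g⁻¹)⁻¹ = (t * (g * t * g⁻¹)⁻¹)⁻¹ := by
        have h6 := hhom t ht t⁻¹ (R.inv_mem ht)
        have h7 : t * t⁻¹ * (g * (t * t⁻¹) * g⁻¹)⁻¹ = 1 := by group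
        rw [h7] at h6
        exact (inv_eq_of_mul_eq_one_right h6.symm).symm
      rw [h5]
      have h8 : g⁻¹ * ((t * (g * t * g⁻¹)⁻¹)⁻¹ * (r * (g * r * g⁻¹)⁻¹)) * g =
          (g⁻¹ * (t * (g * t * g⁻¹)⁻¹) * g)⁻¹ * ((g⁻¹ * (r * (g * r * g⁻¹)⁻¹) * g * y)) * y⁻¹ := by group
      rw [h8, h3]
      have h9 : (g⁻¹ * (t * (g * t * g⁻¹)⁻¹) * g)⁻¹ * (g⁻¹ * (t * (g * t * g⁻¹)⁻¹) * g * w) * y⁻¹ = w * y⁻¹ := by group
      rw [h9]
      exact Z.mul_mem hw (Z.inv_mem hy)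
    have h5 := hinj0 _ (R.mul_mem (R.inv_mem ht) hr) h4
    have h6 : r = t := by
      calc r = t * (t⁻¹ * r) := by group
        _ = t := by rw [h5, mul_one]
    subst h6
    have h7 := mul_left_cancel h3
    subst h7
    rfl
  have hcardle := Nat.card_le_card_of_injective θ hθ
  rw [Nat.card_prod, hb.card] at hcardle
  have hRc : Nat.card (↥R × ↥Z) = Nat.card ↥X := by
    rw [Nat.card_prod, hb.card]; omega
  have hsurj : Function.Surjective θ := by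
    have := Nat.bijective_iff_injective_and_card θ
    exact (this.2 ⟨hθ, hRc⟩).2
  -- `ℓ(z)` is central in X
  have hzR : z ∈ R := hE2R (s.swap.Z_le_E gg.mem)
  have hzl := hinj0 z hzR (by
    refine hXcE1 _ (hl z hzR) fun e he => ?_
    obtain ⟨⟨⟨r, hr⟩, ⟨y, hy⟩⟩, hry⟩ := hsurj ⟨e, hE1X he⟩
    have h3 : g⁻¹ * (r * (g * r * g⁻¹)⁻¹) * g * y = e := congrArg Subtype.val hry
    rw [← h3]
    have h4 : Commute y (g⁻¹ * (z * (g * z * g⁻¹)⁻¹) * g) :=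
      mem_cent_comm ((hXm _).1 (hl z hzR)).2 hy
    have h5 : Commute (g⁻¹ * (r * (g * r * g⁻¹)⁻¹) * g) (g⁻¹ * (z * (g * z * g⁻¹)⁻¹) * g) := by
      have h6 := hhom r hr z hzR
      have h7 := hhom z hzR r hr
      have h8 : r * z = z * r := (mem_cent_comm ((hRm r).1 hr).1 gg.mem).symm
      rw [h8, h7] at h6
      change g⁻¹ * (r * (g * r * g⁻¹)⁻¹) * g * (g⁻¹ * (z * (g * z * g⁻¹)⁻¹) * g) = _
      calc g⁻¹ * (r * (g * r * g⁻¹)⁻¹) * g * (g⁻¹ * (z * (g * z * g⁻¹)⁻¹) * g)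
          = g⁻¹ * ((r * (g * r * g⁻¹)⁻¹) * (z * (g * z * g⁻¹)⁻¹)) * g := by group
        _ = g⁻¹ * ((z * (g * z * g⁻¹)⁻¹) * (r * (g * r * g⁻¹)⁻¹)) * g := by rw [h6]
        _ = g⁻¹ * (z * (g * z * g⁻¹)⁻¹) * g * (g⁻¹ * (r * (g * r * g⁻¹)⁻¹) * g) := by group
    exact (h5.mul_left h4).eq)
  exact gg.ne hzl

/-- **`Q ≤ L`.** -/
theorem Q_le [Finite G] {L : Subgroup G} (hL : L.Normal) (hZL : Z ≤ L)
    (hY : ∃ g : G, ∃ y ∈ Z, g * y * g⁻¹ ∈ centralizer (Z : Set G) ∧ g * y * g⁻¹ ∉ Z) : Q ≤ L := by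
  have hb := d.sb.base
  have hA : centralizer (Z : Set G) ≤ normalizer ((Q ⊓ L : Subgroup G) : Set G) :=
    le_normalizer_of_conj fun c hc y hy => ⟨hb.conj_Q hc hy.1, hL.conj_mem y hy.2 c⟩
  have hsum : E Q a2 b2 ≤ L → E Q a1 b1 ≤ L → Q ≤ L := by
    intro h1 h2 q hq
    obtain ⟨u, hu, v, hv, rfl⟩ := d.sb.split hq
    exact L.mul_mem (h1 hu) (h2 hv)
  rcases d.cases_A hA (le_inf hb.le hZL) inf_le_left with h | h | h
  · exfalso
    obtain ⟨g, y, hy, hgC, hgZ⟩ := hY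
    have hx : g * y * g⁻¹ ∈ L := hL.conj_mem y (hZL hy) g
    apply hgZ
    have h1 : g * y * g⁻¹ ∈ Q := by
      refine hb.mem_Q_of_comm hgC fun q hq => h ⟨Q.mul_mem (hb.conj_Q hgC hq) (Q.inv_mem hq), ?_⟩
      have h5 : g * y * g⁻¹ * q * (g * y * g⁻¹)⁻¹ * q⁻¹ = (g * y * g⁻¹) * (q * (g * y * g⁻¹)⁻¹ * q⁻¹) := by group
      rw [h5]
      exact L.mul_mem hx (hL.conj_mem _ (L.inv_mem hx) q)
    exact h ⟨h1, hx⟩
  · by_contra hcon
    exact d.not_E1 hL hZL hY (h.trans inf_le_right) fun h2 => hcon (hsum (h.trans inf_le_right) h2)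
  · by_contra hcon
    exact d.swap.not_E1 hL hZL hY (h.trans inf_le_right) fun h2 => hcon (hsum h2 (h.trans inf_le_right))

end Dec

end Cfsg.Agent.H261
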