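import Mathlib
import Cfsg.Agent.H261.QLe

/-!
# Local data of a normal subgroup `L ≥ Q` (helper261)
-/

set_option autoImplicit false
set_option linter.unusedSectionVars false

namespace Cfsg.Agent.H261

open Subgroup Cfsg

namespace SL

abbrev S := Matrix.SpecialLinearGroup (Fin 2) (ZMod 3)

theorem q8a : ∀ u g : S, u ^ 3 = 1 → u ≠ 1 → g ^ 4 = 1 → g ^ 2 ≠ 1 → (g * u * g⁻¹ * u⁻¹) ^ 2 = -1 := by
  decide +kernel

theorem q8b : ∀ u g : S, u ^ 3 = 1 → u ≠ 1 → g ^ 4 = 1 →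
    ∃ h : S, h ^ 4 = 1 ∧ (h * u * h⁻¹ * u⁻¹ = g ∨ h * u * h⁻¹ * u⁻¹ = -g) := by
  decide +kernel

theorem exists_four : ∃ g : S, g ^ 4 = 1 ∧ g ^ 2 ≠ 1 := by
  decide +kernel

end SL

variable {G : Type*} [Group G] {Z Q : Subgroup G} {z a1 b1 a2 b2 : G} {P1 P2 : Subgroup G}

theorem SB.r1_cube (s : SB Z Q z a1 b1 a2 b2) (x : ↥(HH Z Q a2 b2)) {k : ℕ} (hk : (x : G) ^ 3 ^ k = 1) :
    (s.r1 x) ^ 3 = 1 := by
  have h1 : (s.r1 x) ^ 3 ^ k = 1 := by
    rw [← map_pow]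
    have : x ^ 3 ^ k = 1 := Subtype.ext hk
    rw [this, map_one]
  have h2 : (s.r1 x) ^ 24 = 1 := by rw [← SL.natCard_SL]; exact pow_card_eq_one'
  have h3 : orderOf (s.r1 x) ∣ 3 := by
    have h4 : orderOf (s.r1 x) ∣ Nat.gcd (3 ^ k) 24 :=
      Nat.dvd_gcd (orderOf_dvd_of_pow_eq_one h1) (orderOf_dvd_of_pow_eq_one h2)
    refine h4.trans ?_
    have h5 : Nat.gcd (3 ^ k) 24 ∣ Nat.gcd (3 ^ k) 8 * Nat.gcd (3 ^ k) 3 := by
      have : (24 : ℕ) = 8 * 3 := by norm_num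
      rw [this]; exact Nat.gcd_mul_right_dvd_mul_gcd _ _ _
    have h6 : Nat.gcd (3 ^ k) 8 = 1 := Nat.Coprime.pow_left k (by norm_num)
    rw [h6, one_mul] at h5
    exact h5.trans (Nat.gcd_dvd_right _ _)
  exact orderOf_dvd_iff_pow_eq_one.1 h3

namespace Dec

variable (d : Dec Z Q z a1 b1 a2 b2 P1 P2)
include d

theorem full1' [Finite G] {g : SL.S} (hg : g ^ 4 = 1) : ∃ p : ↥(HH Z Q a2 b2), (p : G) ∈ P1 ∧ d.sb.r1 p = g := by
  obtain ⟨p, hp, hr⟩ := d.full1 g g.2 ((Matrix.SpecialLinearGroup.coe_pow g 4).symm.trans (congrArg Subtype.val hg))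
  exact ⟨⟨p, d.P1_HH hp⟩, hp, Subtype.ext hr⟩

/-- the second component of elements of `P1` -/
theorem P1_rho2 [Finite G] {p : G} (hp : p ∈ P1) : rho z a2 b2 p = 1 := by
  refine (d.sb.swap.rho_eq_one (d.sb.HH_le_swap (d.P1_HH hp))).2 fun y hy => ?_
  rw [d.cE2 p hp y hy]
  have : y * p * p⁻¹ * y⁻¹ = 1 := by group
  rw [this]; exact Z.one_mem

/-- `rho2` of a commutator with `P1` is trivial -/
theorem comm_rho2 [Finite G] {p y : G} (hp : p ∈ P1) (hy : y ∈ HH Z Q a2 b2) :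
    rho z a2 b2 (p * y * p⁻¹ * y⁻¹) = 1 := by
  have s := d.sb
  have hy' := s.HH_le_swap hy
  have hpH := d.P1_HH hp
  have hp' := s.HH_le_swap hpH
  have r2i : rho z a2 b2 y * rho z a2 b2 y⁻¹ = 1 := by
    rw [← s.swap.rho_mul hy'.1 (inv_mem hy'), mul_inv_cancel]; exact s.swap.rho_one
  rw [s.swap.rho_mul (mul_mem (mul_mem hpH.1 hy.1) (inv_mem hpH.1)) (inv_mem hy'),
    s.swap.rho_mul (mul_mem hpH.1 hy.1) (inv_mem hp'), s.swap.rho_mul hpH.1 hy', d.P1_rho2 hp,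
    d.P1_rho2 (P1.inv_mem hp), one_mul, mul_one, r2i]

/-- If `L` contains `Q` and a 3-element `y` of `C` with `rho1 y ≠ 1`, then `P1 ≤ L`. -/
theorem P1_le [Finite G] {L : Subgroup G} (hL : L.Normal) (hQL : Q ≤ L) {y : ↥(HH Z Q a2 b2)} {k : ℕ}
    (hk : (y : G) ^ 3 ^ k = 1) (hyL : (y : G) ∈ L) (hy : d.sb.r1 y ≠ 1) : P1 ≤ L := by
  have s := d.sb
  have hy3 := s.r1_cube y hk
  -- elements with the same images differ by `Q`
  have key : ∀ a b : ↥(HH Z Q a2 b2), (a : G) ∈ L → d.sb.r1 a = d.sb.r1 b → rho z a2 b2 a = 1 → rho z a2 b2 b = 1 →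
      (b : G) ∈ L := by
    intro a b ha h1 h2 h3
    have ha' := s.HH_le_swap a.2
    have hb' := s.HH_le_swap b.2
    have h4 : (a : G)⁻¹ * b ∈ Q := by
      refine s.mem_Q_of_rho (mul_mem (inv_mem a.2) b.2) ?_ ?_
      · have h5 : d.sb.r1 (a⁻¹ * b) = 1 := by rw [map_mul, map_inv, h1, inv_mul_cancel]
        exact congrArg Subtype.val h5
      · have h5 : rho z a2 b2 (a : G)⁻¹ = 1 := by
          have h6 : rho z a2 b2 (a : G) * rho z a2 b2 (a : G)⁻¹ = 1 := by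
            rw [← s.swap.rho_mul ha'.1 (inv_mem ha'), mul_inv_cancel]; exact s.swap.rho_one
          rwa [h2, one_mul] at h6
        rw [s.swap.rho_mul (inv_mem ha'.1) hb', h5, h3, mul_one]
    have h5 : (b : G) = a * ((a : G)⁻¹ * b) := by group
    rw [h5]
    exact L.mul_mem ha (hQL h4)
  have hcL : ∀ p : G, p * (y : G) * p⁻¹ * (y : G)⁻¹ ∈ L := fun p => L.mul_mem (hL.conj_mem _ hyL p) (L.inv_mem hyL)
  -- the involution
  obtain ⟨g4, hg4, hg42⟩ := SL.exists_four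
  obtain ⟨p4, hp4, hr4⟩ := d.full1' hg4
  have hneg : ∀ b : ↥(HH Z Q a2 b2), d.sb.r1 b = -1 → rho z a2 b2 b = 1 → (b : G) ∈ L := by
    intro b hb1 hb2
    refine key ((p4 * y * p4⁻¹ * y⁻¹) ^ 2) b ?_ ?_ ?_ hb2
    · exact L.pow_mem (hcL _) 2
    · rw [map_pow, map_mul, map_mul, map_mul, map_inv, map_inv, hr4, SL.q8a _ _ hy3 hy hg4 hg42, hb1]
    · have h5 := d.comm_rho2 hp4 y.2
      have h6 : ((p4 * y * p4⁻¹ * y⁻¹ : ↥(HH Z Q a2 b2)) : G) ∈ HH Z Q a1 b1 :=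
        s.HH_le_swap (p4 * y * p4⁻¹ * y⁻¹).2
      rw [Subgroup.coe_pow, pow_two, s.swap.rho_mul h6.1 h6]
      have h7 : rho z a2 b2 ((p4 * y * p4⁻¹ * y⁻¹ : ↥(HH Z Q a2 b2)) : G) = 1 := h5
      rw [h7, mul_one]
  intro p hp
  obtain ⟨h, hh4, hh⟩ := SL.q8b (d.sb.r1 y) (d.sb.r1 ⟨p, d.P1_HH hp⟩) hy3 hy (by
    rw [← map_pow]
    have h1 : (⟨p, d.P1_HH hp⟩ : ↥(HH Z Q a2 b2)) ^ 8 = 1 := Subtype.ext (d.P1_pow hp)
    have h2 : (d.sb.r1 ⟨p, d.P1_HH hp⟩) ^ 8 = 1 := by rw [← map_pow, h1, map_one]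
    rw [map_pow]
    exact SL.four_of_eight _ h2)
  obtain ⟨w, hw, hwr⟩ := d.full1' hh4
  have hw2 : rho z a2 b2 ((w * y * w⁻¹ * y⁻¹ : ↥(HH Z Q a2 b2)) : G) = 1 := d.comm_rho2 hw y.2
  rcases hh with hh | hh
  · refine key (w * y * w⁻¹ * y⁻¹) ⟨p, d.P1_HH hp⟩ (hcL _) ?_ hw2 (d.P1_rho2 hp)
    rw [map_mul, map_mul, map_mul, map_inv, map_inv, hwr, hh]
  · -- multiply by the involution
    obtain ⟨t, ht, htr⟩ := d.full1' (g := -1) (by decide)
    have htL := hneg t htr (d.P1_rho2 ht)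
    have h3 : (p : G) = (p * t) * (t : G)⁻¹ := by group
    have h4 : ((⟨p, d.P1_HH hp⟩ * t : ↥(HH Z Q a2 b2)) : G) ∈ L := by
      refine key (w * y * w⁻¹ * y⁻¹) (⟨p, d.P1_HH hp⟩ * t) (hcL _) ?_ hw2 ?_
      · rw [map_mul, map_mul, map_mul, map_inv, map_inv, hwr, hh, map_mul, htr, mul_neg, mul_one]
      · exact d.P1_rho2 (P1.mul_mem hp ht)
    rw [h3]
    exact L.mul_mem h4 (L.inv_mem htL)

/-- in a 3-group `T ≥ Q` of `C`, the elements fixed by the involution `t1` of `P1` -/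
theorem card_fix [Finite G] {T : Subgroup G} (hT : IsPGroup 3 ↥T) (hQT : Q ≤ T) (hTC : T ≤ centralizer (Z : Set G))
    {t : G} (ht : t ∈ P1) (hr : rho z a1 b1 t = -1) :
    Nat.card ↥T ≤ 9 * Nat.card ↥(T ⊓ centralizer ({t} : Set G) : Subgroup G) := by
  have s := d.sb
  have htH := d.P1_HH ht
  have htt : t * t = 1 := by
    -- t * t has trivial images
    have h1 : t * t ∈ Q := by
      refine s.mem_Q_of_rho (mul_mem htH htH) ?_ ?_
      · rw [s.rho_mul htH.1 htH, hr]; simp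
      · exact d.P1_rho2 (P1.mul_mem ht ht)
    have h2 : (t * t) ^ 3 = 1 := d.cube h1
    have h3 : (t * t) ^ 8 = 1 := by
      have h4 : Commute t t := Commute.refl t
      rw [h4.mul_pow, d.P1_pow ht, mul_one]
    calc t * t = ((t * t) ^ 3) ^ 3 * ((t * t) ^ 8)⁻¹ := by rw [← pow_mul]; group
      _ = 1 := by rw [h2, h3]; simp
  have hTHH : T ≤ HH Z Q a2 b2 := by
    intro x hx
    obtain ⟨k, hk⟩ := hT ⟨x, hx⟩
    exact d.mem_HH_of_three (hTC hx) (k := k) (congrArg Subtype.val hk)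
  -- every element of T is r * q
  have hsplit : ∀ x ∈ T, ∃ q ∈ Q, x * q ∈ T ⊓ centralizer ({t} : Set G) := by
    intro x hx
    obtain ⟨q, hq⟩ : ∃ q, q = x⁻¹ * (t * x * t⁻¹) := ⟨_, rfl⟩
    have hxH := hTHH hx
    have hqQ : q ∈ Q := by
      rw [hq]
      have hxH' := s.HH_le_swap hxH
      have htH' := s.HH_le_swap htH
      refine s.mem_Q_of_rho (mul_mem (inv_mem hxH) (mul_mem (mul_mem htH hxH) (inv_mem htH))) ?_ ?_
      · have e1 : rho z a1 b1 t * rho z a1 b1 t⁻¹ = 1 := by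
          rw [← s.rho_mul htH.1 (inv_mem htH), mul_inv_cancel]; exact s.rho_one
        have e2 : rho z a1 b1 x⁻¹ * rho z a1 b1 x = 1 := by
          rw [← s.rho_mul (inv_mem hxH.1) hxH, inv_mul_cancel]; exact s.rho_one
        rw [s.rho_mul (inv_mem hxH.1) (mul_mem (mul_mem htH hxH) (inv_mem htH)),
          s.rho_mul (mul_mem htH.1 hxH.1) (inv_mem htH), s.rho_mul htH.1 hxH]
        rw [hr] at e1 ⊢
        have e3 : rho z a1 b1 t⁻¹ = -1 := by
          rw [neg_mul, one_mul] at e1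
          rw [← e1, neg_neg]
        rw [e3]
        simp only [neg_mul, one_mul, mul_neg, mul_one, neg_neg]
        exact e2
      · have e2 : rho z a2 b2 x⁻¹ * rho z a2 b2 x = 1 := by
          rw [← s.swap.rho_mul (inv_mem hxH.1) hxH', inv_mul_cancel]; exact s.swap.rho_one
        rw [s.swap.rho_mul (inv_mem hxH.1) (mul_mem (mul_mem htH' hxH') (inv_mem htH')),
          s.swap.rho_mul (mul_mem htH.1 hxH.1) (inv_mem htH'), s.swap.rho_mul htH.1 hxH', d.P1_rho2 ht,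
          d.P1_rho2 (P1.inv_mem ht), one_mul, mul_one, e2]
    have htx : t * x * t⁻¹ = x * q := by rw [hq]; group
    have hti : t⁻¹ = t := inv_eq_of_mul_eq_one_left htt
    have htq : t * q * t⁻¹ = q⁻¹ := by
      have h1 : t * (t * x * t⁻¹) * t⁻¹ = x := by
        calc t * (t * x * t⁻¹) * t⁻¹ = (t * t) * x * (t * t)⁻¹ := by group
          _ = x := by rw [htt]; simp
      rw [htx] at h1
      have h2 : t * (x * q) * t⁻¹ = (t * x * t⁻¹) * (t * q * t⁻¹) := by group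
      rw [h2, htx] at h1
      have h3 : q * (t * q * t⁻¹) = 1 := by
        have h4 : x * (q * (t * q * t⁻¹)) = x * 1 := by rw [mul_one, ← mul_assoc]; exact h1
        exact mul_left_cancel h4
      exact (eq_inv_of_mul_eq_one_right h3)
    refine ⟨q ^ 2, Q.pow_mem hqQ 2, Subgroup.mem_inf.2 ⟨T.mul_mem hx (T.pow_mem (hQT hqQ) 2),
      Subgroup.mem_centralizer_singleton_iff.2 ?_⟩⟩
    have h5 : t * (x * q ^ 2) * t⁻¹ = x * q ^ 2 := by
      have h6 : t * (x * q ^ 2) * t⁻¹ = (t * x * t⁻¹) * (t * q * t⁻¹) ^ 2 := by rw [conj_pow]; group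
      have h7 : q ^ 3 = 1 := d.cube hqQ
      have h8 : q * q⁻¹ ^ 2 = q ^ 2 := by
        calc q * q⁻¹ ^ 2 = (q ^ 3)⁻¹ * q ^ 2 := by group
          _ = q ^ 2 := by rw [h7]; simp
      rw [h6, htx, htq, mul_assoc, h8]
    calc x * q ^ 2 * t = (t * (x * q ^ 2) * t⁻¹) * t := by rw [h5]
      _ = t * (x * q ^ 2) := by group
  -- counting
  obtain ⟨R, hR⟩ : ∃ R, R = T ⊓ centralizer ({t} : Set G) := ⟨_, rfl⟩
  rw [← hR] at hsplit ⊢
  have hRT : R ≤ T := by rw [hR]; exact inf_le_left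
  have hE2R : E Q a1 b1 ≤ R := by
    intro e he
    rw [hR]
    exact Subgroup.mem_inf.2 ⟨hQT (s.swap.E_le he),
      Subgroup.mem_centralizer_singleton_iff.2 (d.cE2 t ht e he).symm⟩
  have h1 : R.relIndex T ≤ 9 := by
    let f : ↥Q ⧸ (E Q a1 b1).subgroupOf Q → ↥T ⧸ R.subgroupOf T :=
      Quotient.map' (fun q => (⟨q, hQT q.2⟩ : ↥T)) (by
        intro a b hab
        rw [QuotientGroup.leftRel_apply] at hab ⊢
        rw [Subgroup.mem_subgroupOf] at hab ⊢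
        exact hE2R hab)
    have hf : Function.Surjective f := by
      intro y
      obtain ⟨x, rfl⟩ := QuotientGroup.mk_surjective y
      obtain ⟨q, hq, hxq⟩ := hsplit (x : G)⁻¹ (T.inv_mem x.2)
      refine ⟨QuotientGroup.mk (⟨q, hq⟩ : ↥Q), ?_⟩
      change (QuotientGroup.mk (⟨q, hQT hq⟩ : ↥T) : ↥T ⧸ R.subgroupOf T) = QuotientGroup.mk x
      rw [eq_comm, QuotientGroup.eq, Subgroup.mem_subgroupOf]
      exact hxq
    have h2 : (E Q a1 b1).relIndex Q = 9 := by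
      have h3 := card_mul_relIndex' s.swap.E_le
      rw [s.swap.card_E, s.base.cardQ] at h3
      omega
    have : Finite (↥Q ⧸ (E Q a1 b1).subgroupOf Q) := inferInstance
    have h4 := Nat.card_le_card_of_surjective f hf
    rw [← Subgroup.index_eq_card, ← Subgroup.index_eq_card] at h4
    exact h4.trans h2.le
  rw [← card_mul_relIndex' hRT, mul_comm]
  exact Nat.mul_le_mul_right _ h1

end Dec

end Cfsg.Agent.H261
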