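import Mathlib
import Cfsg.Agent.H261.Facts

/-!
# The data for the elimination (helper261)

`Fac K v` : the data of the simple group `K = F*(G)`, `|K|_3 = 3 ^ v`, `v = 6, 7`.
`Dec.fac` : it holds.
-/

set_option autoImplicit false
set_option linter.unusedSectionVars false

namespace Cfsg.Agent.H261

open Subgroup Cfsg

/-- the data for the elimination -/
structure Fac (K : Type*) [Group K] (v : ℕ) : Prop where
  dv : 3 ^ v ∣ Nat.card K
  nv : ¬ 3 ^ (v + 1) ∣ Nat.card K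
  hab : ∀ A : Subgroup K, IsPGroup 3 A → (∀ a ∈ A, ∀ b ∈ A, a * b = b * a) → Nat.card A ≤ 3 ^ (v - 2)
  cen : ∀ y : K, orderOf y = 3 → 3 ^ v ∣ Nat.card (centralizer ({y} : Set K)) →
    Nat.card (centralizer ({y} : Set K)) ∣ 2 ^ 7 * 3 ^ 7
  ex : ∃ y : K, orderOf y = 3 ∧ 3 ^ v ∣ Nat.card (centralizer ({y} : Set K))
  inv : ∃ t : K, orderOf t = 2 ∧ 3 ^ (v - 2) ∣ Nat.card (centralizer ({t} : Set K))
  sf : v = 7 → ∃ y : K, orderOf y = 3 ∧ 64 ∣ Nat.card (centralizer ({y} : Set K))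

theorem card_cent_coe {G : Type*} [Group G] {L : Subgroup G} (y : ↥L) :
    Nat.card (centralizer ({y} : Set ↥L)) = Nat.card ↥(L ⊓ centralizer ({(y : G)} : Set G) : Subgroup G) := by
  refine Nat.card_congr
    { toFun := fun x => ⟨((x : ↥L) : G), (x : ↥L).2, ?_⟩
      invFun := fun x => ⟨⟨(x : G), x.2.1⟩, ?_⟩
      left_inv := fun x => rfl
      right_inv := fun x => rfl }
  · exact Subgroup.mem_centralizer_singleton_iff.2 (congrArg Subtype.val (Subgroup.mem_centralizer_singleton_iff.1 x.2))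
  · exact Subgroup.mem_centralizer_singleton_iff.2 (Subtype.ext (Subgroup.mem_centralizer_singleton_iff.1 x.2.2))

variable {G : Type*} [Group G] {Z Q : Subgroup G} {z a1 b1 a2 b2 : G} {P1 P2 : Subgroup G}

/-- counting with one value of the form -/
theorem Base.card_le_three (h : Base Z Q) (g : Gen Z z) {B : Subgroup G} (hB : B ≤ Q) {w : G} (h1 : w ∈ Q) :
    Nat.card ↥B ≤ 3 * Nat.card ↥(B ⊓ centralizer ({w} : Set G) : Subgroup G) := by
  let φ : ↥B →* Multiplicative (ZMod 3) :=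
    MonoidHom.mk' (fun q => Multiplicative.ofAdd (F z q w)) (by
      intro a b
      apply Multiplicative.toAdd.injective
      simp only [toAdd_ofAdd, toAdd_mul, Subgroup.coe_mul]
      rw [h.F_mul_left g (hB a.2) (hB b.2) h1])
  have hφ : ∀ q, φ q = Multiplicative.ofAdd (F z q w) := fun q => rfl
  have hc := Subgroup.card_mul_index φ.ker
  rw [Subgroup.index_ker] at hc
  have h9 : Nat.card (Multiplicative (ZMod 3)) = 3 := by
    rw [Nat.card_congr Multiplicative.toAdd, Nat.card_zmod]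
  have hr : Nat.card ↥φ.range ≤ 3 := by
    have : Finite (Multiplicative (ZMod 3)) := Nat.finite_of_card_ne_zero (by rw [h9]; norm_num)
    exact (Nat.card_le_card_of_injective _ Subtype.val_injective).trans h9.le
  have hk : φ.ker = (B ⊓ centralizer ({w} : Set G)).subgroupOf B := by
    ext x
    rw [MonoidHom.mem_ker, hφ, Subgroup.mem_subgroupOf, Subgroup.mem_inf, Subgroup.mem_centralizer_singleton_iff]
    have e1 := h.F_eq_zero g (hB x.2) h1
    constructor
    · intro h3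
      have h4 := congrArg Multiplicative.toAdd h3
      simp only [toAdd_ofAdd, toAdd_one] at h4
      exact ⟨x.2, e1.1 h4⟩
    · rintro ⟨-, h3⟩
      rw [e1.2 h3]; rfl
  rw [hk, Nat.card_congr (subgroupOfEquivOfLe (inf_le_left : B ⊓ centralizer ({w} : Set G) ≤ B)).toEquiv] at hc
  rw [← hc, mul_comm]
  exact Nat.mul_le_mul_right _ hr

theorem Gen.zpowers {Z : Subgroup G} (hZ : Nat.card ↥Z = 3) {c : G} (hc : c ∈ Z) (hc1 : c ≠ 1) : Z ≤ Subgroup.zpowers c :=
  eq_of_mem_of_card_prime Nat.prime_three hZ hc hc1 (Subgroup.mem_zpowers c)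

/-- the centralizer of a nontrivial element of `Z` -/
theorem Base.cent_of_mem (h : Base Z Q) {c : G} (hc : c ∈ Z) (hc1 : c ≠ 1) :
    centralizer ({c} : Set G) = centralizer (Z : Set G) := by
  apply le_antisymm
  · intro x hx
    rw [Subgroup.mem_centralizer_singleton_iff] at hx
    rw [mem_cent_iff]
    intro y hy
    obtain ⟨n, rfl⟩ := Subgroup.mem_zpowers_iff.1 (Gen.zpowers h.card hc hc1 hy)
    have h2 : Commute c x := hx.symm
    exact (h2.zpow_left n).eq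
  · intro x hx
    rw [Subgroup.mem_centralizer_singleton_iff]
    exact (mem_cent_comm hx hc).symm

/-- if some conjugate of a nontrivial element of `Z` is in `Z`, the conjugating element normalizes `Z` -/
theorem Base.conj_mem_of (h : Base Z Q) {g c : G} (hc : c ∈ Z) (hc1 : c ≠ 1) (hg : g * c * g⁻¹ ∈ Z) {y : G} (hy : y ∈ Z) :
    g * y * g⁻¹ ∈ Z := by
  obtain ⟨n, rfl⟩ := Subgroup.mem_zpowers_iff.1 (Gen.zpowers h.card hc hc1 hy)
  rw [← conj_zpow]
  exact Z.zpow_mem hg n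

namespace Dec

variable (d : Dec Z Q z a1 b1 a2 b2 P1 P2)
include d

theorem card_P12 [Finite G] {X : Subgroup G} (h1 : P1 ≤ X) (h2 : P2 ≤ X) : 64 ∣ Nat.card ↥X := by
  let f : ↥P1 × ↥P2 →* ↥X := MonoidHom.mk' (fun p => ⟨p.1 * p.2, X.mul_mem (h1 p.1.2) (h2 p.2.2)⟩) (by
    rintro ⟨a, b⟩ ⟨a', b'⟩
    apply Subtype.ext
    change (a : G) * a' * (b * b') = a * b * (a' * b')
    have := d.comm a' a'.2 b b.2
    calc (a : G) * a' * (b * b') = a * (a' * b) * b' := by group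
      _ = a * (b * a') * b' := by rw [this]
      _ = a * b * (a' * b') := by group)
  have hf : Function.Injective f := by
    rw [injective_iff_map_eq_one]
    rintro ⟨⟨a, ha⟩, ⟨b, hb⟩⟩ h
    have h3 : a * b = 1 := congrArg Subtype.val h
    have h4 : b = a⁻¹ := eq_inv_of_mul_eq_one_right h3
    have h5 : b ∈ P1 := by rw [h4]; exact P1.inv_mem ha
    have h6 : b ∈ Q := by
      refine d.sb.mem_Q_of_rho (d.P1_HH h5) (d.swap.P1_rho2 hb) (d.P1_rho2 h5)
    have h7 : b = 1 := by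
      calc b = (b ^ 3) ^ 3 * (b ^ 8)⁻¹ := by rw [← pow_mul]; group
        _ = 1 := by rw [d.cube h6, d.P1_pow h5]; simp
    have h8 : a = 1 := by rw [h7, mul_one] at h3; exact h3
    subst h7 h8
    rfl
  have := Subgroup.card_dvd_of_injective f hf
  rw [Nat.card_prod, d.card1, d.card2] at this
  exact this

/-- the involution of `P1` -/
theorem exists_t [Finite G] : ∃ t ∈ P1, rho z a1 b1 t = -1 ∧ orderOf t = 2 := by
  obtain ⟨t, ht, hr⟩ := d.full1 (-1) (by decide) (by decide)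
  have s := d.sb
  have htH := d.P1_HH ht
  refine ⟨t, ht, hr, ?_⟩
  have htt : t * t = 1 := by
    have h1 : t * t ∈ Q := by
      refine s.mem_Q_of_rho (mul_mem htH htH) ?_ ?_
      · rw [s.rho_mul htH.1 htH, hr]; simp
      · exact d.P1_rho2 (P1.mul_mem ht ht)
    have h2 : (t * t) ^ 3 = 1 := d.cube h1
    have h3 : (t * t) ^ 8 = 1 := by
      have h4 : Commute t t := Commute.refl t
      rw [h4.mul_pow, d.P1_pow ht, mul_one]
    calc t * t = ((t * t) ^ 3) ^ 3 * ((t * t) ^ 8)⁻¹ := by rw [← pow_mul]; group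
      _ = 1 := by rw [h2, h3]; simp
  apply orderOf_eq_prime
  · rw [pow_two, htt]
  · rintro rfl
    rw [s.rho_one] at hr
    exact absurd hr (by decide)

/-- the involution part of the data -/
theorem fac_inv [Finite G] {L T : Subgroup G} (hL : L.Normal) (hQL : Q ≤ L) (hT : IsPGroup 3 ↥T) (hQT : Q ≤ T)
    (hTL : T ≤ L) (hTC : T ≤ centralizer (Z : Set G)) {v : ℕ} (hv : 2 ≤ v) (hc : Nat.card ↥T = 3 ^ v) {y : ↥(HH Z Q a2 b2)}
    (hy : (y : G) ∈ T) (hy1 : d.sb.r1 y ≠ 1) :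
    ∃ t : ↥L, orderOf t = 2 ∧ 3 ^ (v - 2) ∣ Nat.card (centralizer ({t} : Set ↥L)) := by
  obtain ⟨k, hk⟩ := hT ⟨y, hy⟩
  have hk' : (y : G) ^ 3 ^ k = 1 := congrArg Subtype.val hk
  have hP1 := d.P1_le hL hQL hk' (hTL hy) hy1
  obtain ⟨t, ht, hr, h2⟩ := d.exists_t
  refine ⟨⟨t, hP1 ht⟩, by rw [← h2]; exact Subgroup.orderOf_mk _ _, ?_⟩
  rw [card_cent_coe]
  have h3 := d.card_fix hT hQT hTC ht hr
  have hle : T ⊓ centralizer ({t} : Set G) ≤ L ⊓ centralizer ({t} : Set G) := inf_le_inf_right _ hTL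
  refine dvd_trans ?_ (Subgroup.card_dvd_of_le hle)
  have hp : IsPGroup 3 ↥(T ⊓ centralizer ({t} : Set G) : Subgroup G) := hT.to_le inf_le_left
  obtain ⟨r, hr'⟩ := IsPGroup.iff_card.1 hp
  rw [hr', hc] at h3
  rw [hr']
  apply pow_dvd_pow
  by_contra hcon
  push Not at hcon
  have h4 : 9 * 3 ^ r < 3 ^ v := by
    have : 9 * 3 ^ r = 3 ^ (r + 2) := by rw [pow_add]; ring
    rw [this]
    exact Nat.pow_lt_pow_right (by norm_num) (by omega)
  omega

/-- **the data** -/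
theorem fac [Finite G] {L : Subgroup G} (hL : L.Normal) (hQL : Q ≤ L)
    (hY : ∃ g : G, ∃ y ∈ Z, g * y * g⁻¹ ∈ centralizer (Z : Set G) ∧ g * y * g⁻¹ ∉ Z) :
    Fac ↥L 6 ∨ Fac ↥L 7 := by
  have hb := d.sb.base
  have gg := d.sb.gen
  have hZL : Z ≤ L := hb.le.trans hQL
  have hQp : IsPGroup 3 ↥(Q.subgroupOf L) := hb.pQ.of_equiv (subgroupOfEquivOfLe hQL).symm
  obtain ⟨T, hT⟩ := hQp.exists_le_sylow
  obtain ⟨TL, hTL⟩ : ∃ TL, TL = (T : Subgroup ↥L).map L.subtype := ⟨_, rfl⟩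
  have hTLp : IsPGroup 3 ↥TL := by rw [hTL]; exact T.isPGroup'.map _
  have hQT : Q ≤ TL := by
    intro e he
    rw [hTL]
    exact ⟨⟨e, hQL he⟩, hT (by rw [Subgroup.mem_subgroupOf]; exact he), rfl⟩
  have hTLL : TL ≤ L := by
    rw [hTL]; rintro _ ⟨x, -, rfl⟩; exact x.2
  have hTC := d.loc.le_cent Nat.prime_three hTLp hQT
  have hTLm : ∀ x : ↥L, (x : G) ∈ TL ↔ x ∈ (T : Subgroup ↥L) := by
    intro x
    rw [hTL]
    constructor
    · rintro ⟨y, hy, hyx⟩
      have : y = x := Subtype.ext hyx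
      rwa [← this]
    · intro hx; exact ⟨x, hx, rfl⟩
  have hTcard : Nat.card ↥TL = Nat.card ↥(T : Subgroup ↥L) := by
    rw [hTL]
    exact (Nat.card_congr ((T : Subgroup ↥L).equivMapOfInjective _ L.subtype_injective).toEquiv).symm
  obtain ⟨v, hv⟩ := IsPGroup.iff_card.1 T.isPGroup'
  have hvT : Nat.card ↥TL = 3 ^ v := hTcard.trans hv
  have hv7 : v ≤ 7 := by
    have h1 := (Subgroup.card_dvd_of_le hTC).trans d.card_C
    rw [hvT] at h1
    have h2 : 3 ^ v ∣ 3 ^ 7 := (Nat.Coprime.pow _ _ (by norm_num : Nat.Coprime 3 2)).dvd_of_dvd_mul_left h1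
    exact (Nat.pow_dvd_pow_iff_le_right (by norm_num)).1 h2
  have hv5 : 5 ≤ v := by
    have h1 := Subgroup.card_le_of_le hQT
    rw [hvT, hb.cardQ] at h1
    exact (Nat.pow_le_pow_iff_right (by norm_num)).1 h1
  have hdv : 3 ^ v ∣ Nat.card ↥L := by rw [← hv]; exact Subgroup.card_subgroup_dvd_card _
  have hnv : ¬ 3 ^ (v + 1) ∣ Nat.card ↥L := by
    intro h1
    have h2 : 3 ^ (v + 1) ∣ Nat.card ↥(T : Subgroup ↥L) := T.pow_dvd_card_of_pow_dvd_card h1
    rw [hv] at h2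
    have := (Nat.pow_dvd_pow_iff_le_right (by norm_num)).1 h2
    omega
  have hexc : ∀ y : ↥L, (y : G) ∈ Z → (y : G) ≠ 1 → 3 ^ v ∣ Nat.card (centralizer ({y} : Set ↥L)) ∧
      Nat.card (centralizer ({y} : Set ↥L)) ∣ 2 ^ 7 * 3 ^ 7 := by
    intro y hy hy1
    rw [card_cent_coe, hb.cent_of_mem hy hy1]
    refine ⟨?_, (Subgroup.card_dvd_of_le inf_le_right).trans d.card_C⟩
    rw [← hvT]
    exact Subgroup.card_dvd_of_le (le_inf hTLL hTC)
  have hord : ∀ y ∈ Z, y ≠ 1 → orderOf y = 3 := by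
    intro y hy hy1
    apply orderOf_eq_prime _ hy1
    rcases gg.all y hy with rfl | rfl | rfl
    · simp
    · exact gg.cube
    · rw [← pow_mul, mul_comm, pow_mul, gg.cube, one_pow]
  -- `v ≠ 5`
  have hv6 : v ≠ 5 := by
    rintro rfl
    have hTQ : TL = Q := (Subgroup.eq_of_le_of_card_ge hQT (by rw [hvT, hb.cardQ])).symm
    -- 3-elements of `L ∩ C` lie in `Q`
    have claim : ∀ x ∈ L, x ∈ centralizer (Z : Set G) → (∃ k : ℕ, x ^ 3 ^ k = 1) → x ∈ Q := by
      rintro x hxL hxC ⟨k, hk⟩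
      obtain ⟨X, hX⟩ : ∃ X, X = L ⊓ centralizer (Z : Set G) := ⟨_, rfl⟩
      have hQX : Q ≤ X := by rw [hX]; exact le_inf hQL hb.leC
      have hn : (Q.subgroupOf X).Normal := by
        refine ⟨fun q hq g => ?_⟩
        rw [Subgroup.mem_subgroupOf] at hq ⊢
        have hg : (g : G) ∈ L ⊓ centralizer (Z : Set G) := hX.le g.2
        exact hb.conj_Q hg.2 hq
      have h1 := card_mul_relIndex' hQX
      have hXL : Nat.card ↥X ∣ Nat.card ↥L := by rw [hX]; exact Subgroup.card_dvd_of_le inf_le_left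
      have h2 : ¬ 3 ∣ Q.relIndex X := by
        intro h3
        apply hnv
        refine dvd_trans ?_ hXL
        rw [← h1, hb.cardQ, pow_succ]
        exact Nat.mul_dvd_mul_left _ h3
      have hxX : x ∈ X := by rw [hX]; exact ⟨hxL, hxC⟩
      have h3 : (⟨x, hxX⟩ : ↥X) ^ (Q.subgroupOf X).index ∈ Q.subgroupOf X := Subgroup.pow_index_mem _ _
      rw [Subgroup.mem_subgroupOf] at h3
      have h3' : x ^ Q.relIndex X ∈ Q := h3
      have hcop : Nat.Coprime (Q.relIndex X) (3 ^ k) :=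
        ((Nat.Prime.coprime_iff_not_dvd Nat.prime_three).2 h2).symm.pow_right k
      have h4 : x ^ (3 ^ k) ∈ Q := by rw [hk]; exact Q.one_mem
      have h5 : x ^ ((Nat.gcd (Q.relIndex X) (3 ^ k) : ℕ) : ℤ) ∈ Q := by
        rw [Nat.gcd_eq_gcd_ab, zpow_add, zpow_mul, zpow_mul, zpow_natCast, zpow_natCast]
        exact Q.mul_mem (Q.zpow_mem h3' _) (Q.zpow_mem h4 _)
      rw [hcop] at h5
      simpa using h5
    obtain ⟨g, y, hy, hgC, hgZ⟩ := hY
    have hy1 : y ≠ 1 := by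
      rintro rfl
      apply hgZ
      have : g * 1 * g⁻¹ = 1 := by group
      rw [this]; exact Z.one_mem
    have hy3 : y ^ 3 = 1 := by rw [← hord y hy hy1]; exact pow_orderOf_eq_one y
    obtain ⟨w, hw⟩ : ∃ w, w = g * y * g⁻¹ := ⟨_, rfl⟩
    have hwL : w ∈ L := by rw [hw]; exact hL.conj_mem y (hZL hy) g
    have hw3 : w ^ 3 = 1 := by rw [hw, conj_pow, hy3]; group
    rw [← hw] at hgC hgZ
    have hwQ : w ∈ Q := claim w hwL hgC ⟨1, by rw [pow_one]; exact hw3⟩
    have h1 := hb.card_le_three gg le_rfl hwQ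
    rw [hb.cardQ] at h1
    have h2 : ∃ r ∈ Q ⊓ centralizer ({w} : Set G), ∃ s ∈ Q ⊓ centralizer ({w} : Set G), r * s ≠ s * r := by
      by_contra hcon
      push Not at hcon
      have := d.sb.card_abelian_le (B := Q ⊓ centralizer ({w} : Set G)) inf_le_left hcon
      omega
    obtain ⟨r, ⟨hrQ, hrw⟩, s, ⟨hsQ, hsw⟩, hrs⟩ := h2
    have hback : ∀ r ∈ Q, r ∈ centralizer ({w} : Set G) → g⁻¹ * r * g ∈ Q := by
      intro r hr hrw
      refine claim _ ?_ ?_ ?_
      · have := hL.conj_mem _ (hQL hr) g⁻¹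
        rwa [inv_inv] at this
      · rw [← hb.cent_of_mem hy hy1, Subgroup.mem_centralizer_singleton_iff]
        rw [Subgroup.mem_centralizer_singleton_iff, hw] at hrw
        calc g⁻¹ * r * g * y = g⁻¹ * (r * (g * y * g⁻¹)) * g := by group
          _ = g⁻¹ * (g * y * g⁻¹ * r) * g := by rw [hrw]
          _ = y * (g⁻¹ * r * g) := by group
      · refine ⟨1, ?_⟩
        have h3 : (g⁻¹ * r * g) ^ (3 ^ 1) = g⁻¹ * r ^ 3 * g := by
          have := conj_pow (i := 3) (a := g⁻¹) (b := r)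
          rw [inv_inv] at this
          rw [pow_one]; exact this
        rw [h3, d.cube hr]; group
    have hr' := hback r hrQ hrw
    have hs' := hback s hsQ hsw
    have hc1 : r * s * r⁻¹ * s⁻¹ ∈ Z := hb.comm r hrQ s hsQ
    have hc2 : g⁻¹ * (r * s * r⁻¹ * s⁻¹) * g ∈ Z := by
      have := hb.comm _ hr' _ hs'
      have h3 : g⁻¹ * r * g * (g⁻¹ * s * g) * (g⁻¹ * r * g)⁻¹ * (g⁻¹ * s * g)⁻¹ = g⁻¹ * (r * s * r⁻¹ * s⁻¹) * g := by
        group
      rwa [h3] at this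
    have hc3 : g⁻¹ * (r * s * r⁻¹ * s⁻¹) * g ≠ 1 := by
      intro h3
      apply hrs
      have h4 : r * s * r⁻¹ * s⁻¹ = 1 := by
        calc r * s * r⁻¹ * s⁻¹ = g * (g⁻¹ * (r * s * r⁻¹ * s⁻¹) * g) * g⁻¹ := by group
          _ = 1 := by rw [h3]; group
      calc r * s = (r * s * r⁻¹ * s⁻¹) * (s * r) := by group
        _ = s * r := by rw [h4, one_mul]
    apply hgZ
    rw [hw]
    refine hb.conj_mem_of (g := g) hc2 hc3 ?_ hy
    have h3 : g * (g⁻¹ * (r * s * r⁻¹ * s⁻¹) * g) * g⁻¹ = r * s * r⁻¹ * s⁻¹ := by group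
    rw [h3]; exact hc1
  -- elements of TL with nontrivial rho
  have hTH : ∀ x ∈ TL, x ∈ HH Z Q a2 b2 := by
    intro x hx
    obtain ⟨k, hk⟩ := hTLp ⟨x, hx⟩
    exact d.mem_HH_of_three (hTC hx) (k := k) (congrArg Subtype.val hk)
  have hTH' : ∀ x ∈ TL, x ∈ HH Z Q a1 b1 := fun x hx => d.sb.HH_le_swap (hTH x hx)
  -- the image
  have hrange : ∀ {a1 b1 a2 b2 : G} (s : SB Z Q z a1 b1 a2 b2) (hTH : TL ≤ HH Z Q a2 b2),
      (∀ x : ↥TL, s.swap.r1 ⟨x, s.HH_le_swap (hTH x.2)⟩ = 1) → Nat.card ↥TL ∣ 3 ^ 6 := by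
    intro a1 b1 a2 b2 s hTH h1
    let f : ↥TL →* SL.S := s.r1.comp (Subgroup.inclusion hTH)
    have hk : f.ker ≤ Q.subgroupOf TL := by
      intro x hx
      rw [Subgroup.mem_subgroupOf]
      have h2 : f x = 1 := MonoidHom.mem_ker.1 hx
      exact s.mem_Q_of_rho (hTH x.2) (congrArg Subtype.val h2) (congrArg Subtype.val (h1 x))
    have h3 := Subgroup.card_mul_index f.ker
    rw [Subgroup.index_ker] at h3
    have h4 : Nat.card ↥f.ker ∣ 3 ^ 5 := by
      have := Subgroup.card_dvd_of_le hk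
      rwa [Nat.card_congr (subgroupOfEquivOfLe hQT).toEquiv, hb.cardQ] at this
    have h5 : Nat.card ↥f.range ∣ 24 := by rw [← SL.natCard_SL]; exact Subgroup.card_subgroup_dvd_card _
    have h6 : Nat.card ↥f.range ∣ 3 ^ v := by rw [← hvT, ← h3]; exact Dvd.intro_left _ rfl
    have h7 : Nat.card ↥f.range ∣ 3 := by
      have h8 : Nat.Coprime (Nat.card ↥f.range) 8 :=
        Nat.Coprime.coprime_dvd_left h6 (Nat.Coprime.pow_left _ (by norm_num))
      have h9 : Nat.card ↥f.range ∣ 8 * 3 := h5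
      exact h8.dvd_of_dvd_mul_left h9
    rw [← h3, pow_succ]
    exact Nat.mul_dvd_mul h4 h7
  have hex : v = 6 ∨ v = 7 := by omega
  have hab : ∀ A : Subgroup ↥L, IsPGroup 3 A → (∀ a ∈ A, ∀ b ∈ A, a * b = b * a) → Nat.card A ≤ 3 ^ (v - 2) := by
    intro A hA hc
    obtain ⟨P, hP⟩ := hA.exists_le_sylow
    obtain ⟨g, hg⟩ := MulAction.exists_smul_eq ↥L P T
    obtain ⟨B, hB⟩ : ∃ B : Subgroup G, B = (A.map (MulAut.conj g).toMonoidHom).map L.subtype := ⟨_, rfl⟩
    have hBT : B ≤ TL := by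
      rw [hB]
      rintro _ ⟨_, ⟨a, ha, rfl⟩, rfl⟩
      change ((g * a * g⁻¹ : ↥L) : G) ∈ TL
      rw [hTLm, ← hg]
      exact Subgroup.smul_mem_pointwise_smul a (MulAut.conj g) (P : Subgroup ↥L) (hP ha)
    have hBab : ∀ x ∈ B, ∀ y ∈ B, x * y = y * x := by
      rw [hB]
      rintro _ ⟨_, ⟨a, ha, rfl⟩, rfl⟩ _ ⟨_, ⟨b, hb', rfl⟩, rfl⟩
      rw [← map_mul, ← map_mul, hc a ha b hb', map_mul, map_mul]
    have hBc : Nat.card ↥B = Nat.card ↥A := by
      rw [hB, Subgroup.card_map_of_injective L.subtype_injective,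
        Subgroup.card_map_of_injective (MulAut.conj g).injective]
    have h1 := d.card_abelian hQT hBT hBab
    rw [hBc, hvT] at h1
    have h2 : 3 ^ v = 9 * 3 ^ (v - 2) := by
      have : v = (v - 2) + 2 := by omega
      conv_lhs => rw [this]
      rw [pow_add]; ring
    rw [h2] at h1
    omega
  have hcen : ∀ y : ↥L, orderOf y = 3 → 3 ^ v ∣ Nat.card (centralizer ({y} : Set ↥L)) →
      Nat.card (centralizer ({y} : Set ↥L)) ∣ 2 ^ 7 * 3 ^ 7 := by
    intro y hy hyv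
    obtain ⟨S⟩ : Nonempty (Sylow 3 ↥(centralizer ({y} : Set ↥L))) := inferInstance
    have hS : 3 ^ v ∣ Nat.card ↥(S : Subgroup ↥(centralizer ({y} : Set ↥L))) := S.pow_dvd_card_of_pow_dvd_card hyv
    have hSp : IsPGroup 3 ↥((S : Subgroup ↥(centralizer ({y} : Set ↥L))).map (centralizer ({y} : Set ↥L)).subtype) :=
      S.isPGroup'.map _
    obtain ⟨P, hP⟩ := hSp.exists_le_sylow
    have hPc : Nat.card ↥(P : Subgroup ↥L) = 3 ^ v := by
      rw [← hv, Sylow.card_eq_multiplicity, Sylow.card_eq_multiplicity]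
    have hPS : ((S : Subgroup ↥(centralizer ({y} : Set ↥L))).map (centralizer ({y} : Set ↥L)).subtype) = P := by
      apply Subgroup.eq_of_le_of_card_ge hP
      rw [hPc, Subgroup.card_map_of_injective (centralizer ({y} : Set ↥L)).subtype_injective]
      exact Nat.le_of_dvd Nat.card_pos hS
    have hPy : ∀ p ∈ (P : Subgroup ↥L), p * y = y * p := by
      intro p hp
      rw [← hPS] at hp
      obtain ⟨x, -, rfl⟩ := hp
      exact Subgroup.mem_centralizer_singleton_iff.1 x.2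
    obtain ⟨g, hg⟩ := MulAction.exists_smul_eq ↥L P T
    have hTy : ∀ t ∈ (T : Subgroup ↥L), t * (g * y * g⁻¹) = (g * y * g⁻¹) * t := by
      intro t ht
      rw [← hg] at ht
      have h1 : g⁻¹ * t * g ∈ (P : Subgroup ↥L) := by
        have h2 := (Subgroup.mem_pointwise_smul_iff_inv_smul_mem (a := MulAut.conj g) (S := (P : Subgroup ↥L))).1 ht
        rw [← map_inv] at h2
        simpa [MulAut.smul_def] using h2
      have h3 := hPy _ h1
      calc t * (g * y * g⁻¹) = g * ((g⁻¹ * t * g) * y) * g⁻¹ := by group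
        _ = g * (y * (g⁻¹ * t * g)) * g⁻¹ := by rw [h3]
        _ = (g * y * g⁻¹) * t := by group
    have hyZ : ((g * y * g⁻¹ : ↥L) : G) ∈ Z := by
      refine d.loc.center_of_le hQT fun t ht => ?_
      have h1 := hTy ⟨t, hTLL ht⟩ ((hTLm _).1 ht)
      exact congrArg Subtype.val h1
    have hy1 : ((g * y * g⁻¹ : ↥L) : G) ≠ 1 := by
      intro h1
      have h2 : g * y * g⁻¹ = 1 := Subtype.ext h1
      have h3 : y = 1 := conj_eq_one_iff.1 h2
      rw [h3, orderOf_one] at hy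
      norm_num at hy
    have h1 := (hexc _ hyZ hy1).2
    have h2 : Nat.card (centralizer ({y} : Set ↥L)) = Nat.card (centralizer ({g * y * g⁻¹} : Set ↥L)) := by
      refine Nat.card_congr
        { toFun := fun x => ⟨g * x * g⁻¹, ?_⟩
          invFun := fun x => ⟨g⁻¹ * x * g, ?_⟩
          left_inv := fun x => Subtype.ext (by group)
          right_inv := fun x => Subtype.ext (by group) }
      · rw [Subgroup.mem_centralizer_singleton_iff]
        have h3 := Subgroup.mem_centralizer_singleton_iff.1 x.2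
        calc g * (x : ↥L) * g⁻¹ * (g * y * g⁻¹) = g * (x * y) * g⁻¹ := by group
          _ = g * (y * x) * g⁻¹ := by rw [h3]
          _ = g * y * g⁻¹ * (g * x * g⁻¹) := by group
      · rw [Subgroup.mem_centralizer_singleton_iff]
        have h3 := Subgroup.mem_centralizer_singleton_iff.1 x.2
        calc g⁻¹ * (x : ↥L) * g * y = g⁻¹ * (x * (g * y * g⁻¹)) * g := by group
          _ = g⁻¹ * (g * y * g⁻¹ * x) * g := by rw [h3]
          _ = y * (g⁻¹ * x * g) := by group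
    rw [h2]; exact h1
  have hz1 : ((⟨z, hZL gg.mem⟩ : ↥L) : G) ≠ 1 := gg.ne
  have hex' : ∃ y : ↥L, orderOf y = 3 ∧ 3 ^ v ∣ Nat.card (centralizer ({y} : Set ↥L)) :=
    ⟨⟨z, hZL gg.mem⟩, by rw [← hord z gg.mem gg.ne]; exact Subgroup.orderOf_mk _ _, (hexc _ gg.mem gg.ne).1⟩
  have hinv : ∃ t : ↥L, orderOf t = 2 ∧ 3 ^ (v - 2) ∣ Nat.card (centralizer ({t} : Set ↥L)) := by
    by_cases h1 : ∃ x : ↥TL, d.sb.r1 ⟨x, hTH x x.2⟩ ≠ 1
    · obtain ⟨x, hx⟩ := h1
      exact d.fac_inv hL hQL hTLp hQT hTLL hTC (by omega) hvT (y := ⟨x, hTH x x.2⟩) x.2 hx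
    · push Not at h1
      by_cases h2 : ∃ x : ↥TL, d.sb.swap.r1 ⟨x, hTH' x x.2⟩ ≠ 1
      · obtain ⟨x, hx⟩ := h2
        exact d.swap.fac_inv hL hQL hTLp hQT hTLL hTC (by omega) hvT (y := ⟨x, hTH' x x.2⟩) x.2 hx
      · push Not at h2
        exfalso
        have h3 : TL ≤ Q := fun x hx => d.sb.mem_Q_of_rho (hTH x hx) (congrArg Subtype.val (h1 ⟨x, hx⟩))
          (congrArg Subtype.val (h2 ⟨x, hx⟩))
        have h4 := Subgroup.card_le_of_le h3
        rw [hvT, hb.cardQ] at h4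
        have := (Nat.pow_le_pow_iff_right (by norm_num)).1 h4
        omega
  have hsf : v = 7 → ∃ y : ↥L, orderOf y = 3 ∧ 64 ∣ Nat.card (centralizer ({y} : Set ↥L)) := by
    rintro rfl
    refine ⟨⟨z, hZL gg.mem⟩, by rw [← hord z gg.mem gg.ne]; exact Subgroup.orderOf_mk _ _, ?_⟩
    rw [card_cent_coe, hb.cent_of_mem gg.mem gg.ne]
    have hno : ¬ Nat.card ↥TL ∣ 3 ^ 6 := by
      rw [hvT]
      intro h1
      have := (Nat.pow_dvd_pow_iff_le_right (by norm_num)).1 h1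
      omega
    have hP1 : P1 ≤ L := by
      by_contra hcon
      apply hno
      refine hrange d.sb.swap (fun x hx => hTH' x hx) fun x => ?_
      by_contra hx
      apply hcon
      obtain ⟨k, hk⟩ := hTLp x
      exact d.P1_le hL hQL (y := ⟨x, hTH x x.2⟩) (k := k) (congrArg Subtype.val hk) (hTLL x.2) hx
    have hP2 : P2 ≤ L := by
      by_contra hcon
      apply hno
      refine hrange d.sb (fun x hx => hTH x hx) fun x => ?_
      by_contra hx
      apply hcon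
      obtain ⟨k, hk⟩ := hTLp x
      exact d.swap.P1_le hL hQL (y := ⟨x, hTH' x x.2⟩) (k := k) (congrArg Subtype.val hk) (hTLL x.2) hx
    exact d.card_P12 (le_inf hP1 d.P1C) (le_inf hP2 d.P2C)
  rcases hex with rfl | rfl
  · exact Or.inl ⟨hdv, hnv, hab, hcen, hex', hinv, hsf⟩
  · exact Or.inr ⟨hdv, hnv, hab, hcen, hex', hinv, hsf⟩

end Dec

end Cfsg.Agent.H261
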