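import Mathlib
import Cfsg.Agent.H261.Fac
import Cfsg.Agent.Lib.CoprimeHyperplane
import Cfsg.Agent.Lib.Cores

/-!
# `O_{3'}(G) = 1` (helper261)

`Dec.core_bot` : if some conjugate of `Z` other than `Z` centralizes `Z`, then every normal `3'`-subgroup of `G` is trivial.
-/

set_option autoImplicit false
set_option linter.unusedSectionVars false

namespace Cfsg.Agent.H261

open Subgroup Cfsg

theorem SL.two_fix : ∀ g : Matrix (Fin 2) (Fin 2) (ZMod 3), ∀ v w : Fin 2 → ZMod 3, g.mulVec v = v → g.mulVec w = w →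
    v 0 * w 1 - v 1 * w 0 ≠ 0 → g = 1 := by decide +kernel

theorem SL.cover : ∀ s t c d u : ZMod 3, c ≠ 0 → d ≠ 0 →
    ∃ a b : ZMod 3, (a = 0 ∨ a = s ∨ a = 2 * s + c) ∧ (b = 0 ∨ b = t ∨ b = 2 * t + d) ∧ a + b = u := by decide +kernel

theorem elemAb_closure {G : Type*} [Group G] {S : Set G} (hc : ∀ x ∈ S, ∀ y ∈ S, x * y = y * x)
    (h3 : ∀ x ∈ S, x ^ 3 = 1) : IsElementaryAbelian 3 (Subgroup.closure S) := by
  have h1 : IsMulCommutative ↥(Subgroup.closure S) := Subgroup.isMulCommutative_closure hc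
  refine ⟨h1, ?_⟩
  intro a ha
  induction ha using Subgroup.closure_induction with
  | mem x hx => exact h3 x hx
  | one => simp
  | mul x y hx hy ihx ihy =>
    have h4 : Commute x y := setLike_mul_comm hx hy
    rw [h4.mul_pow, ihx, ihy, one_mul]
  | inv x hx ih => rw [inv_pow, ih, inv_one]

variable {G : Type*} [Group G] {Z Q : Subgroup G} {z a1 b1 a2 b2 : G} {P1 P2 : Subgroup G}

/-- the elements conjugate to a nontrivial element of `Z` -/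
def Pu (Z : Subgroup G) (x : G) : Prop := ∃ g : G, ∃ y ∈ Z, y ≠ 1 ∧ x = g * y * g⁻¹

theorem Pu.conj {x : G} (h : Pu Z x) (k : G) : Pu Z (k * x * k⁻¹) := by
  obtain ⟨g, y, hy, hy1, rfl⟩ := h
  exact ⟨k * g, y, hy, hy1, by group⟩

theorem Pu.cent (hb : Base Z Q) {W : Subgroup G} (hW : W.Normal) (h3 : ¬ 3 ∣ Nat.card ↥W) [Finite G] {x : G} (hx : Pu Z x)
    {c : G} (hc : c ∈ W) (hcx : x * c = c * x) : c = 1 := by
  obtain ⟨g, y, hy, hy1, rfl⟩ := hx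
  obtain ⟨d, hd⟩ : ∃ d, d = g⁻¹ * c * g := ⟨_, rfl⟩
  have hdW : d ∈ W := by
    rw [hd]
    have := hW.conj_mem c hc g⁻¹
    rwa [inv_inv] at this
  have hdy : y * d = d * y := by
    rw [hd]
    calc y * (g⁻¹ * c * g) = g⁻¹ * (g * y * g⁻¹ * c) * g := by group
      _ = g⁻¹ * (c * (g * y * g⁻¹)) * g := by rw [hcx]
      _ = g⁻¹ * c * g * y := by group
  have hdC : d ∈ centralizer (Z : Set G) := by
    rw [← hb.cent_of_mem hy hy1, Subgroup.mem_centralizer_singleton_iff]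
    exact hdy.symm
  have hWQ : ∀ q ∈ Q, q ∈ W → q = 1 := by
    intro q hq hqW
    by_contra hne
    apply h3
    have h1 : orderOf q ∣ Nat.card ↥W := Subgroup.orderOf_dvd_natCard W hqW
    have h2 : orderOf q ∣ 3 ^ 5 := by rw [← hb.cardQ]; exact Subgroup.orderOf_dvd_natCard Q hq
    obtain ⟨k, hk, hk2⟩ := (Nat.dvd_prime_pow Nat.prime_three).1 h2
    rcases Nat.eq_zero_or_pos k with rfl | hk0
    · rw [pow_zero] at hk2
      exact absurd (orderOf_eq_one_iff.1 hk2) hne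
    · rw [hk2] at h1
      exact (dvd_pow_self 3 hk0.ne').trans h1
  have hdQ : d ∈ centralizer (Q : Set G) := by
    rw [mem_cent_iff]
    intro q hq
    have h1 : d * q * d⁻¹ * q⁻¹ = 1 := by
      apply hWQ
      · exact Q.mul_mem (hb.conj_Q hdC hq) (Q.inv_mem hq)
      · have h2 : d * q * d⁻¹ * q⁻¹ = d * (q * d⁻¹ * q⁻¹) := by group
        rw [h2]
        exact W.mul_mem hdW (hW.conj_mem _ (W.inv_mem hdW) q)
    calc q * d = (d * q * d⁻¹ * q⁻¹)⁻¹ * (d * q) := by group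
      _ = d * q := by rw [h1]; group
  have hd1 : d = 1 := hWQ d (hb.cent hdQ) hdW
  calc c = g * (g⁻¹ * c * g) * g⁻¹ := by group
    _ = 1 := by rw [← hd, hd1]; group

/-- a subgroup of index three not containing `z` -/
theorem exists_mul_mem {A B : Subgroup G} (hA : IsElementaryAbelian 3 A) (hBA : B ≤ A) (hi : B.relIndex A = 3) (g : Gen Z z)
    (hzA : z ∈ A) (hzB : z ∉ B) {a : G} (ha : a ∈ A) : ∃ c ∈ Z, c * a ∈ B := by
  have hab : ∀ x ∈ A, ∀ y ∈ A, x * y = y * x := fun x hx y hy =>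
    have := hA.1
    setLike_mul_comm hx hy
  have hn : (B.subgroupOf A).Normal := by
    refine ⟨fun b hb c => ?_⟩
    have : c * b * c⁻¹ = b := by
      apply Subtype.ext
      change (c : G) * b * (c : G)⁻¹ = b
      rw [hab c c.2 b b.2]; group
    rwa [this]
  have hc : Nat.card (↥A ⧸ B.subgroupOf A) = 3 := hi
  have hz : (QuotientGroup.mk (⟨z, hzA⟩ : ↥A) : ↥A ⧸ B.subgroupOf A) ≠ 1 := by
    intro h
    rw [QuotientGroup.eq_one_iff, Subgroup.mem_subgroupOf] at h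
    exact hzB h
  have h1 := mem_zpowers_of_prime_card hc hz (g' := (QuotientGroup.mk (⟨a, ha⟩ : ↥A) : ↥A ⧸ B.subgroupOf A))
  obtain ⟨n, hn'⟩ := Subgroup.mem_zpowers_iff.1 h1
  refine ⟨z ^ (-n), Z.zpow_mem g.mem _, ?_⟩
  have h2 : (QuotientGroup.mk ((⟨z, hzA⟩ : ↥A) ^ n) : ↥A ⧸ B.subgroupOf A) = QuotientGroup.mk (⟨a, ha⟩ : ↥A) := hn'
  rw [QuotientGroup.eq, Subgroup.mem_subgroupOf] at h2
  rw [zpow_neg]
  exact h2

/-- the main tool -/
theorem bot_of_pu [Finite G] (hb : Base Z Q) {W A : Subgroup G} (hW : W.Normal) (h3 : ¬ 3 ∣ Nat.card ↥W)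
    (hA : IsElementaryAbelian 3 A) (hA1 : A ≠ ⊥) (h : ∀ B ≤ A, B.relIndex A = 3 → ∃ x ∈ B, Pu Z x) : W = ⊥ := by
  have h1 := Cfsg.Agent.Lib.CoprimeHyperplane.iSup_centralizer_hyperplane hA hA1 h3
    (by rw [Subgroup.normalizer_eq_top_iff.2 hW]; exact le_top)
  rw [← h1, eq_bot_iff]
  refine iSup_le ?_
  rintro ⟨B, hB1, hB2⟩
  obtain ⟨x, hx, hxP⟩ := h B hB1 hB2
  rintro c ⟨hc1, hc2⟩
  rw [Subgroup.mem_bot]
  exact hxP.cent hb hW h3 hc1 (mem_cent_comm hc2 hx)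

/-- the functional with kernel `B` -/
theorem exists_mu {A B : Subgroup G} (hZ : Nat.card ↥Z = 3) (hA : IsElementaryAbelian 3 A) (hBA : B ≤ A)
    (hi : B.relIndex A = 3) (g : Gen Z z) (hzA : z ∈ A) (hzB : z ∉ B) :
    ∃ m : G → ZMod 3, (∀ a ∈ A, ∀ c ∈ Z, c * a ∈ B ↔ m a = lg z c) ∧ (∀ a ∈ A, ∀ a' ∈ A, m (a * a') = m a + m a') ∧
      (∀ c ∈ Z, m c = -lg z c) := by
  classical
  have hab : ∀ x ∈ A, ∀ y ∈ A, x * y = y * x := fun x hx y hy =>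
    have := hA.1
    setLike_mul_comm hx hy
  have hZA : Z ≤ A := by
    intro c hc
    rcases g.all c hc with rfl | rfl | rfl
    · exact A.one_mem
    · exact hzA
    · exact A.pow_mem hzA 2
  have huniq : ∀ a ∈ A, ∀ c ∈ Z, ∀ c' ∈ Z, c * a ∈ B → c' * a ∈ B → c = c' := by
    intro a _ c hc c' hc' h1 h2
    by_contra hne
    have h3 : c * c'⁻¹ ∈ B := by
      have := B.mul_mem h1 (B.inv_mem h2)
      have h4 : c * a * (c' * a)⁻¹ = c * c'⁻¹ := by group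
      rwa [h4] at this
    have h4 : c * c'⁻¹ ≠ 1 := fun h => hne (by rw [mul_inv_eq_one] at h; exact h)
    exact hzB (eq_of_mem_of_card_prime Nat.prime_three hZ (Z.mul_mem hc (Z.inv_mem hc')) h4 h3 g.mem)
  have hex : ∀ a : G, ∃ k : ZMod 3, a ∈ A → ∃ c ∈ Z, c * a ∈ B ∧ k = lg z c := by
    intro a
    by_cases ha : a ∈ A
    · obtain ⟨c, hc, h1⟩ := exists_mul_mem hA hBA hi g hzA hzB ha
      exact ⟨lg z c, fun _ => ⟨c, hc, h1, rfl⟩⟩
    · exact ⟨0, fun h => absurd h ha⟩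
  choose m hm using hex
  have key : ∀ a ∈ A, ∀ c ∈ Z, c * a ∈ B ↔ m a = lg z c := by
    intro a ha c hc
    obtain ⟨c0, hc0, h0, h1⟩ := hm a ha
    constructor
    · intro h
      rw [h1, huniq a ha c hc c0 hc0 h h0]
    · intro h
      rw [h1] at h
      rw [← g.lg_inj hc0 hc h]
      exact h0
  refine ⟨m, key, ?_, ?_⟩
  · intro a ha a' ha'
    obtain ⟨c, hc, h0, h1⟩ := hm a ha
    obtain ⟨c', hc', h0', h1'⟩ := hm a' ha'
    rw [h1, h1', ← g.lg_mul hc hc']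
    refine (key _ (A.mul_mem ha ha') _ (Z.mul_mem hc hc')).1 ?_
    have : c * c' * (a * a') = (c * a) * (c' * a') := by
      rw [mul_assoc, mul_assoc, ← mul_assoc c' a a', hab c' (hZA hc') a ha, mul_assoc]
    rw [this]
    exact B.mul_mem h0 h0'
  · intro c hc
    rw [← g.lg_inv hc]
    refine (key _ (hZA hc) _ (Z.inv_mem hc)).1 ?_
    rw [inv_mul_cancel]
    exact B.one_mem

/-- case (i) -/
theorem core_one [Finite G] (hb : Base Z Q) (g : Gen Z z) {W : Subgroup G} (hW : W.Normal) (h3 : ¬ 3 ∣ Nat.card ↥W) {w q : G}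
    (hw : Pu Z w) (hw3 : w ^ 3 = 1) (hwC : w ∈ centralizer (Z : Set G)) (hc : q * w * q⁻¹ * w⁻¹ ∈ Z)
    (hqC : q ∈ centralizer (Z : Set G)) (hc1 : q * w * q⁻¹ * w⁻¹ ≠ 1) : W = ⊥ := by
  obtain ⟨c, hcd⟩ : ∃ c, c = q * w * q⁻¹ * w⁻¹ := ⟨_, rfl⟩
  rw [← hcd] at hc hc1
  have h1 : Pu Z (c * w) := by
    have h2 : c * w = q * w * q⁻¹ := by rw [hcd]; group
    rw [h2]; exact hw.conj q
  have h2 : Pu Z (c * (c * w)) := by
    have h4 : c * (c * w) = q * (c * w) * q⁻¹ := by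
      have h5 : q * c = c * q := (mem_cent_comm hqC hc).symm
      calc c * (c * w) = c * (q * w * q⁻¹ * w⁻¹ * w) := by rw [← hcd]
        _ = (c * q) * w * q⁻¹ := by group
        _ = (q * c) * w * q⁻¹ := by rw [h5]
        _ = q * (c * w) * q⁻¹ := by group
    rw [h4]; exact h1.conj q
  have hall : ∀ d ∈ Z, Pu Z (d * w) := by
    have hc2 : c = z ∨ c = z ^ 2 := (g.all c hc).resolve_left hc1
    have hz4 : z ^ 2 * (z ^ 2) = z := by
      calc z ^ 2 * z ^ 2 = z ^ 3 * z := by group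
        _ = z := by rw [g.cube, one_mul]
    intro d hd
    rcases g.all d hd with rfl | rfl | rfl
    · rw [one_mul]; exact hw
    · rcases hc2 with rfl | h5
      · exact h1
      · rw [h5, ← mul_assoc, hz4] at h2; exact h2
    · rcases hc2 with rfl | rfl
      · rw [← mul_assoc, ← pow_two] at h2; exact h2
      · exact h1
  have hzw : z * w = w * z := mem_cent_comm hwC g.mem
  refine bot_of_pu hb hW h3 (A := Subgroup.closure {z, w}) (elemAb_closure ?_ ?_) ?_ ?_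
  · rintro x (rfl | rfl) y (rfl | rfl)
    · rfl
    · exact hzw
    · exact hzw.symm
    · rfl
  · rintro x (rfl | rfl)
    · exact g.cube
    · exact hw3
  · intro h
    have : z ∈ Subgroup.closure {z, w} := Subgroup.subset_closure (by simp)
    rw [h, Subgroup.mem_bot] at this
    exact g.ne this
  · intro B hBA hi
    have hA : IsElementaryAbelian 3 (Subgroup.closure {z, w}) := by
      refine elemAb_closure ?_ ?_
      · rintro x (rfl | rfl) y (rfl | rfl)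
        · rfl
        · exact hzw
        · exact hzw.symm
        · rfl
      · rintro x (rfl | rfl)
        · exact g.cube
        · exact hw3
    by_cases hzB : z ∈ B
    · exact ⟨z, hzB, 1, z, g.mem, g.ne, by group⟩
    · obtain ⟨d, hd, h5⟩ := exists_mul_mem hA hBA hi g (Subgroup.subset_closure (by simp)) hzB
        (a := w) (Subgroup.subset_closure (by simp))
      exact ⟨_, h5, hall d hd⟩

/-- case (ii) -/
theorem core_two [Finite G] (hb : Base Z Q) (g : Gen Z z) {W : Subgroup G} (hW : W.Normal) (h3 : ¬ 3 ∣ Nat.card ↥W) {w : G}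
    (hw : Pu Z w) (hw3 : w ^ 3 = 1) (hwQ : w ∈ Q) (hwZ : w ∉ Z) : W = ⊥ := by
  by_contra hne
  apply hwZ
  refine hb.ctr w hwQ ?_
  intro q hq
  by_contra h1
  apply hne
  refine core_one hb g hW h3 (q := q) hw hw3 (hb.leC hwQ) (hb.comm q hq w hwQ) (hb.leC hq) ?_
  intro h2
  apply h1
  calc q * w = (q * w * q⁻¹ * w⁻¹) * (w * q) := by group
    _ = w * q := by rw [h2, one_mul]

theorem SB.exists_q (s : SB Z Q z a1 b1 a2 b2) {w : G} (hw : w ∈ HH Z Q a2 b2)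
    (hc : rho z a1 b1 w * rho z a1 b1 w * rho z a1 b1 w = 1) (hne : rho z a1 b1 w ≠ 1) :
    ∃ q ∈ E Q a2 b2, F z q (w * q * w⁻¹) ≠ 0 := by
  by_contra hcon
  push Not at hcon
  apply hne
  have h1 : ∀ v : Fin 2 → ZMod 3, (rho z a1 b1 w).mulVec v = v := by
    intro v
    obtain ⟨x, hx, rfl⟩ := s.cv_surj v
    refine SL.uni _ _ (s.rho_det hw) hc ?_
    have h2 := hcon x hx
    have h3 := s.mem_HH_conj hw hx
    rw [s.F_cv hx (s.E_le h3), s.cv_conj hw.1 hx] at h2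
    exact h2
  ext i j
  have h2 := congrFun (h1 (Pi.single j 1)) i
  rw [Matrix.mulVec_single_one] at h2
  rw [Matrix.one_apply]
  have h3 : (rho z a1 b1 w) i j = (Pi.single j 1 : Fin 2 → ZMod 3) i := h2
  rw [h3, Pi.single_apply]

/-- the commutators `[q, w]` are fixed by `w` modulo `Z` -/
theorem SB.fix_e (s : SB Z Q z a1 b1 a2 b2) {w : G} (hw : w ∈ HH Z Q a2 b2)
    (hc : rho z a1 b1 w * rho z a1 b1 w * rho z a1 b1 w = 1) {q : G} (hq : q ∈ E Q a2 b2) :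
    q * w * q⁻¹ * w⁻¹ ∈ E Q a2 b2 ∧ w * (q * w * q⁻¹ * w⁻¹) * w⁻¹ * (q * w * q⁻¹ * w⁻¹)⁻¹ ∈ Z := by
  have h1 : w * q⁻¹ * w⁻¹ ∈ E Q a2 b2 := s.mem_HH_conj hw ((E Q a2 b2).inv_mem hq)
  have h2 : q * w * q⁻¹ * w⁻¹ = q * (w * q⁻¹ * w⁻¹) := by group
  have h3 : q * w * q⁻¹ * w⁻¹ ∈ E Q a2 b2 := by rw [h2]; exact (E Q a2 b2).mul_mem hq h1
  refine ⟨h3, ?_⟩
  refine s.cv_inj (s.mem_HH_conj hw h3) h3 ?_
  rw [s.cv_conj hw.1 h3]
  have h4 : cv z a1 b1 (q * w * q⁻¹ * w⁻¹) = cv z a1 b1 q - (rho z a1 b1 w).mulVec (cv z a1 b1 q) := by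
    rw [h2, s.cv_mul (s.E_le hq) (s.E_le h1), s.cv_conj hw.1 ((E Q a2 b2).inv_mem hq), s.cv_inv (s.E_le hq),
      Matrix.mulVec_neg, ← sub_eq_add_neg]
  rw [h4]
  have h5 := SL.uni2 (rho z a1 b1 w) (cv z a1 b1 q) (s.rho_det hw) hc
  have h6 : cv z a1 b1 q - (rho z a1 b1 w).mulVec (cv z a1 b1 q) =
      -((rho z a1 b1 w).mulVec (cv z a1 b1 q) - cv z a1 b1 q) := by rw [neg_sub]
  rw [h6, Matrix.mulVec_neg, h5]

/-- commutators of `3`-subgroups of `C(Z)` lie in `Q` -/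
theorem Dec.comm_mem_Q [Finite G] (d : Dec Z Q z a1 b1 a2 b2 P1 P2) {X : Subgroup G} (hX : IsPGroup 3 ↥X)
    (hXC : X ≤ centralizer (Z : Set G)) {x y : G} (hx : x ∈ X) (hy : y ∈ X) : x * y * x⁻¹ * y⁻¹ ∈ Q := by
  have hH : X ≤ HH Z Q a2 b2 := by
    intro x hx
    obtain ⟨k, hk⟩ := hX ⟨x, hx⟩
    exact d.mem_HH_of_three (hXC hx) (k := k) (congrArg Subtype.val hk)
  have key : ∀ {a1 b1 a2 b2 : G} (s : SB Z Q z a1 b1 a2 b2) (hH : X ≤ HH Z Q a2 b2),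
      rho z a1 b1 (x * y * x⁻¹ * y⁻¹) = 1 := by
    intro a1 b1 a2 b2 s hH
    let f : ↥X →* SL.S := s.r1.comp (Subgroup.inclusion hH)
    have h1 : IsPGroup 3 ↥f.range := hX.of_surjective f.rangeRestrict f.rangeRestrict_surjective
    have h2 : Nat.card ↥f.range ∣ 24 := by rw [← SL.natCard_SL]; exact Subgroup.card_subgroup_dvd_card _
    obtain ⟨k, hk⟩ := (IsPGroup.iff_card).1 h1
    have h3 : Nat.card ↥f.range ∣ 3 := by
      have h8 : Nat.Coprime (Nat.card ↥f.range) 8 := by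
        rw [hk]
        exact Nat.Coprime.pow_left _ (by norm_num)
      have h9 : Nat.card ↥f.range ∣ 8 * 3 := h2
      exact h8.dvd_of_dvd_mul_left h9
    have h4 : IsCyclic ↥f.range := isCyclic_of_card_dvd_prime h3
    obtain ⟨g0, hg0⟩ := h4.exists_generator
    have h5 : ∀ u v : ↥f.range, u * v = v * u := by
      intro u v
      obtain ⟨n, rfl⟩ := Subgroup.mem_zpowers_iff.1 (hg0 u)
      obtain ⟨m, rfl⟩ := Subgroup.mem_zpowers_iff.1 (hg0 v)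
      rw [← zpow_add, ← zpow_add, add_comm]
    have h6 : f ⟨x, hx⟩ * f ⟨y, hy⟩ = f ⟨y, hy⟩ * f ⟨x, hx⟩ :=
      congrArg Subtype.val (h5 ⟨f ⟨x, hx⟩, ⟨_, rfl⟩⟩ ⟨f ⟨y, hy⟩, ⟨_, rfl⟩⟩)
    have h7 : f (⟨x, hx⟩ * ⟨y, hy⟩ * ⟨x, hx⟩⁻¹ * ⟨y, hy⟩⁻¹) = 1 := by
      rw [map_mul, map_mul, map_mul, map_inv, map_inv, h6]
      group
    exact congrArg Subtype.val h7
  exact d.sb.mem_Q_of_rho (HH Z Q a2 b2 |>.mul_mem ((HH Z Q a2 b2).mul_mem ((HH Z Q a2 b2).mul_mem (hH hx) (hH hy))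
    ((HH Z Q a2 b2).inv_mem (hH hx))) ((HH Z Q a2 b2).inv_mem (hH hy))) (key d.sb hH)
    (key d.sb.swap (fun x hx => d.sb.HH_le_swap (hH hx)))

theorem SB.z_eq (s : SB Z Q z a1 b1 a2 b2) : a1 * b1 * a1⁻¹ * b1⁻¹ = z := by
  refine s.gen.lg_inj (s.base.comm _ s.ma1 _ s.mb1) s.gen.mem ?_
  rw [s.gen.lg_z]
  exact s.f1

/-- if `w` acts trivially on `E1 / Z` and centralizes `E1`, then `Z` is in the other group -/
theorem Dec.inv_conj_mem [Finite G] (d : Dec Z Q z a1 b1 a2 b2 P1 P2) {k y : G} (hy : y ∈ Z) (hy1 : y ≠ 1)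
    (h : ∀ x ∈ E Q a2 b2, k * y * k⁻¹ * x = x * (k * y * k⁻¹)) : k⁻¹ * z * k ∈ Q := by
  have hb := d.sb.base
  obtain ⟨X, hX⟩ : ∃ X : Subgroup G, X = (E Q a2 b2).map (MulAut.conj k⁻¹).toMonoidHom := ⟨_, rfl⟩
  have hXp : IsPGroup 3 ↥X := by
    rw [hX]
    exact (hb.pQ.to_le d.sb.E_le).map _
  have hmem : ∀ x ∈ E Q a2 b2, k⁻¹ * x * k ∈ X := by
    intro x hx
    rw [hX]
    refine ⟨x, hx, ?_⟩
    change k⁻¹ * x * (k⁻¹)⁻¹ = _
    rw [inv_inv]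
  have hXC : X ≤ centralizer (Z : Set G) := by
    rw [hX]
    rintro _ ⟨x, hx, rfl⟩
    change k⁻¹ * x * (k⁻¹)⁻¹ ∈ _
    rw [inv_inv, ← hb.cent_of_mem hy hy1, Subgroup.mem_centralizer_singleton_iff]
    have := h x hx
    calc k⁻¹ * x * k * y = k⁻¹ * (x * (k * y * k⁻¹)) * k := by group
      _ = k⁻¹ * (k * y * k⁻¹ * x) * k := by rw [this]
      _ = y * (k⁻¹ * x * k) := by group
  have h1 := d.comm_mem_Q hXp hXC (hmem _ d.sb.a1_mem) (hmem _ d.sb.b1_mem)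
  have h2 : k⁻¹ * a1 * k * (k⁻¹ * b1 * k) * (k⁻¹ * a1 * k)⁻¹ * (k⁻¹ * b1 * k)⁻¹ =
      k⁻¹ * (a1 * b1 * a1⁻¹ * b1⁻¹) * k := by group
  rw [h2, d.sb.z_eq] at h1
  exact h1

/-- case (iii) -/
theorem Dec.core_three [Finite G] (d : Dec Z Q z a1 b1 a2 b2 P1 P2) {W : Subgroup G} (hW : W.Normal)
    (h3 : ¬ 3 ∣ Nat.card ↥W) {k y : G} (hy : y ∈ Z) (hy1 : y ≠ 1) (hwC : k * y * k⁻¹ ∈ centralizer (Z : Set G))
    (hwZ : k * y * k⁻¹ ∉ Z) (hw3 : (k * y * k⁻¹) ^ 3 = 1) (hwH : k * y * k⁻¹ ∈ HH Z Q a2 b2)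
    (h1 : rho z a1 b1 (k * y * k⁻¹) = 1) : W = ⊥ := by
  have hb := d.sb.base
  have g := d.sb.gen
  by_contra hne
  have hni : ∀ q ∈ Q, q * (k * y * k⁻¹) * q⁻¹ * (k * y * k⁻¹)⁻¹ ∈ Z → q * (k * y * k⁻¹) * q⁻¹ * (k * y * k⁻¹)⁻¹ = 1 := by
    intro q hq h4
    by_contra h5
    exact hne (core_one hb g hW h3 ⟨k, y, hy, hy1, rfl⟩ hw3 hwC h4 (hb.leC hq) h5)
  have h4 := d.inv_conj_mem hy hy1 (k := k) (by
    intro x hx
    have h5 := (d.sb.rho_eq_one hwH).1 h1 x hx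
    have h6 := hni x (d.sb.E_le hx) (by
      have h7 : x * (k * y * k⁻¹) * x⁻¹ * (k * y * k⁻¹)⁻¹ = ((k * y * k⁻¹) * x * (k * y * k⁻¹)⁻¹ * x⁻¹)⁻¹ := by group
      rw [h7]
      exact Z.inv_mem h5)
    calc k * y * k⁻¹ * x = (x * (k * y * k⁻¹) * x⁻¹ * (k * y * k⁻¹)⁻¹)⁻¹ * (x * (k * y * k⁻¹)) := by group
      _ = x * (k * y * k⁻¹) := by rw [h6]; group)
  have h5 : Pu Z (k⁻¹ * z * k) := ⟨k⁻¹, z, g.mem, g.ne, by group⟩
  refine hne (core_two hb g hW h3 h5 ?_ h4 ?_)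
  · have h6 := conj_pow (i := 3) (a := k⁻¹) (b := z)
    rw [inv_inv, g.cube] at h6
    rw [h6]; group
  · intro h6
    apply hwZ
    have h7 : k⁻¹ * z * k ≠ 1 := by
      intro h8
      apply g.ne
      calc z = k * (k⁻¹ * z * k) * k⁻¹ := by group
        _ = 1 := by rw [h8]; group
    refine hb.conj_mem_of h6 h7 ?_ hy
    have h8 : k * (k⁻¹ * z * k) * k⁻¹ = z := by group
    rw [h8]
    exact g.mem

/-- case (iv) -/
theorem Dec.core_four [Finite G] (d : Dec Z Q z a1 b1 a2 b2 P1 P2) {W : Subgroup G} (hW : W.Normal)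
    (h3 : ¬ 3 ∣ Nat.card ↥W) {w : G} (hw : Pu Z w) (hw3 : w ^ 3 = 1) (hwH : w ∈ HH Z Q a2 b2)
    (h1 : rho z a1 b1 w ≠ 1) (h2 : rho z a2 b2 w ≠ 1) : W = ⊥ := by
  have hb := d.sb.base
  have g := d.sb.gen
  have hwC : w ∈ centralizer (Z : Set G) := hwH.1
  by_contra hne
  have hni : ∀ q ∈ Q, q * w * q⁻¹ * w⁻¹ ∈ Z → q * w * q⁻¹ * w⁻¹ = 1 := by
    intro q hq h4
    by_contra h5
    exact hne (core_one hb g hW h3 hw hw3 hwC h4 (hb.leC hq) h5)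
  have hc1 := d.sb.rho_cube hwH (k := 1) (by rw [pow_one]; exact hw3)
  have hwH' := d.sb.HH_le_swap hwH
  have hc2 := d.sb.swap.rho_cube hwH' (k := 1) (by rw [pow_one]; exact hw3)
  obtain ⟨q1, hq1, hF1⟩ := d.sb.exists_q hwH hc1 h1
  obtain ⟨q2, hq2, hF2⟩ := d.sb.swap.exists_q hwH' hc2 h2
  obtain ⟨e1, he1⟩ : ∃ e, e = q1 * w * q1⁻¹ * w⁻¹ := ⟨_, rfl⟩
  obtain ⟨e2, he2⟩ : ∃ e, e = q2 * w * q2⁻¹ * w⁻¹ := ⟨_, rfl⟩
  obtain ⟨me1, f1⟩ := d.sb.fix_e hwH hc1 hq1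
  obtain ⟨me2, f2⟩ := d.sb.swap.fix_e hwH' hc2 hq2
  rw [← he1] at me1 f1
  rw [← he2] at me2 f2
  have comm_of : ∀ e ∈ Q, w * e * w⁻¹ * e⁻¹ ∈ Z → w * e = e * w := by
    intro e he h4
    have h5 := hni e he (by
      have h7 : e * w * e⁻¹ * w⁻¹ = (w * e * w⁻¹ * e⁻¹)⁻¹ := by group
      rw [h7]
      exact Z.inv_mem h4)
    calc w * e = (e * w * e⁻¹ * w⁻¹)⁻¹ * (e * w) := by group
      _ = e * w := by rw [h5]; group
  have c1 : w * e1 = e1 * w := comm_of e1 (d.sb.E_le me1) f1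
  have c2 : w * e2 = e2 * w := comm_of e2 (d.sb.swap.E_le me2) f2
  have c12 : e1 * e2 = e2 * e1 := d.sb.comm12 me1 me2
  have cz : ∀ x ∈ centralizer (Z : Set G), z * x = x * z := fun x hx => mem_cent_comm hx g.mem
  have cz1 := cz e1 (hb.leC (d.sb.E_le me1))
  have cz2 := cz e2 (hb.leC (d.sb.swap.E_le me2))
  have czw := cz w hwC
  have hA : IsElementaryAbelian 3 (Subgroup.closure {z, w, e1, e2}) := by
    refine elemAb_closure ?_ ?_
    · rintro x (rfl | rfl | rfl | rfl) y (rfl | rfl | rfl | rfl) <;>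
        first | rfl | assumption | (symm; assumption)
    · rintro x (rfl | rfl | rfl | rfl)
      · exact g.cube
      · exact hw3
      · exact d.cube (d.sb.E_le me1)
      · exact d.cube (d.sb.swap.E_le me2)
  obtain ⟨A, hAd⟩ : ∃ A, A = Subgroup.closure {z, w, e1, e2} := ⟨_, rfl⟩
  rw [← hAd] at hA
  have mz : z ∈ A := by rw [hAd]; exact Subgroup.subset_closure (by simp)
  have mw : w ∈ A := by rw [hAd]; exact Subgroup.subset_closure (by simp)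
  have m1 : e1 ∈ A := by rw [hAd]; exact Subgroup.subset_closure (by simp)
  have m2 : e2 ∈ A := by rw [hAd]; exact Subgroup.subset_closure (by simp)
  have hZA : Z ≤ A := by
    intro c hc
    rcases g.all c hc with rfl | rfl | rfl
    · exact A.one_mem
    · exact mz
    · exact A.pow_mem mz 2
  refine hne (bot_of_pu hb hW h3 (A := A) hA ?_ ?_)
  · intro h
    rw [h, Subgroup.mem_bot] at mz
    exact g.ne mz
  · intro B hBA hi
    by_cases hzB : z ∈ B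
    · exact ⟨z, hzB, 1, z, g.mem, g.ne, by group⟩
    obtain ⟨m, hm1, hm2, hm3⟩ := exists_mu hb.card hA hBA hi g mz hzB
    have m0 : m 1 = 0 := by rw [hm3 1 Z.one_mem, g.lg_one, neg_zero]
    -- the three values
    have key : ∀ q ∈ Q, ∀ e ∈ A, e ∈ Q → e = q * w * q⁻¹ * w⁻¹ → ∀ a : ZMod 3,
        (a = 0 ∨ a = m e ∨ a = 2 * m e + -F z q e) →
        ∃ p, (p = 1 ∨ p = q ∨ p = q * q) ∧ p * w * p⁻¹ * w⁻¹ ∈ A ∧ m (p * w * p⁻¹ * w⁻¹) = a := by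
      intro q hq e heA heQ he a ha
      rcases ha with rfl | rfl | rfl
      · refine ⟨1, Or.inl rfl, ?_, ?_⟩
        · have : (1 : G) * w * 1⁻¹ * w⁻¹ = 1 := by group
          rw [this]; exact A.one_mem
        · have : (1 : G) * w * 1⁻¹ * w⁻¹ = 1 := by group
          rw [this, m0]
      · exact ⟨q, Or.inr (Or.inl rfl), by rw [← he]; exact heA, by rw [← he]⟩
      · have h5 : q * q * w * (q * q)⁻¹ * w⁻¹ = q * e * q⁻¹ * e⁻¹ * (e * e) := by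
          rw [he]; group
        have h6 : q * e * q⁻¹ * e⁻¹ ∈ Z := hb.comm q hq e heQ
        refine ⟨q * q, Or.inr (Or.inr rfl), ?_, ?_⟩
        · rw [h5]
          exact A.mul_mem (hZA h6) (A.mul_mem heA heA)
        · rw [h5, hm2 _ (hZA h6) _ (A.mul_mem heA heA), hm2 _ heA _ heA, hm3 _ h6]
          change -F z q e + (m e + m e) = _
          ring
    have hFe : ∀ q ∈ Q, F z q (w * q * w⁻¹) ≠ 0 → F z q (q * w * q⁻¹ * w⁻¹) ≠ 0 := by
      intro q hq h5 h6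
      apply h5
      have h7 : q * w * q⁻¹ * w⁻¹ = q * (w * q * w⁻¹)⁻¹ := by group
      have h8 : w * q * w⁻¹ ∈ Q := hb.conj_Q hwC hq
      rw [h7, hb.F_mul_right g hq (Q.inv_mem h8) hq, Base.F_self g, zero_add] at h6
      rw [hb.F_swap g hq h8, ← hb.F_inv_left g h8 hq, hb.F_swap g (Q.inv_mem h8) hq, h6, neg_zero]
    have hne1 : -F z q1 e1 ≠ 0 := by
      rw [he1]
      exact neg_ne_zero.2 (hFe q1 (d.sb.E_le hq1) hF1)
    have hne2 : -F z q2 e2 ≠ 0 := by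
      rw [he2]
      exact neg_ne_zero.2 (hFe q2 (d.sb.swap.E_le hq2) hF2)
    obtain ⟨a, b, ha, hb', hab⟩ := SL.cover (m e1) (m e2) (-F z q1 e1) (-F z q2 e2) (-m w) hne1 hne2
    obtain ⟨p1, hp1, hp1A, hp1m⟩ := key q1 (d.sb.E_le hq1) e1 m1 (d.sb.E_le me1) he1 a ha
    obtain ⟨p2, hp2, hp2A, hp2m⟩ := key q2 (d.sb.swap.E_le hq2) e2 m2 (d.sb.swap.E_le me2) he2 b hb'
    have hp1E : p1 ∈ E Q a2 b2 := by
      rcases hp1 with rfl | rfl | rfl
      · exact (E Q a2 b2).one_mem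
      · exact hq1
      · exact (E Q a2 b2).mul_mem hq1 hq1
    have hp2E : p2 ∈ E Q a1 b1 := by
      rcases hp2 with rfl | rfl | rfl
      · exact (E Q a1 b1).one_mem
      · exact hq2
      · exact (E Q a1 b1).mul_mem hq2 hq2
    have h5 : p2 * w * p2⁻¹ * w⁻¹ ∈ E Q a1 b1 := by
      have h6 : p2 * w * p2⁻¹ * w⁻¹ = p2 * (w * p2⁻¹ * w⁻¹) := by group
      rw [h6]
      exact (E Q a1 b1).mul_mem hp2E (d.sb.swap.mem_HH_conj hwH' ((E Q a1 b1).inv_mem hp2E))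
    have h6 : p1 * (p2 * w * p2⁻¹ * w⁻¹) = (p2 * w * p2⁻¹ * w⁻¹) * p1 := d.sb.comm12 hp1E h5
    have h7 : (p1 * p2) * w * (p1 * p2)⁻¹ = (p2 * w * p2⁻¹ * w⁻¹) * (p1 * w * p1⁻¹ * w⁻¹) * w := by
      calc (p1 * p2) * w * (p1 * p2)⁻¹ = p1 * (p2 * w * p2⁻¹ * w⁻¹) * w * p1⁻¹ := by group
        _ = (p2 * w * p2⁻¹ * w⁻¹) * p1 * w * p1⁻¹ := by rw [h6]
        _ = _ := by group
    refine ⟨(p1 * p2) * w * (p1 * p2)⁻¹, ?_, hw.conj _⟩
    have h8 : m ((p1 * p2) * w * (p1 * p2)⁻¹) = 0 := by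
      rw [h7, hm2 _ (A.mul_mem hp2A hp1A) _ mw, hm2 _ hp2A _ hp1A, hp1m, hp2m]
      linear_combination hab
    have h9 : (p1 * p2) * w * (p1 * p2)⁻¹ ∈ A := by
      rw [h7]
      exact A.mul_mem (A.mul_mem hp2A hp1A) mw
    have h10 := (hm1 _ h9 1 Z.one_mem).2 (by rw [h8, g.lg_one])
    rwa [one_mul] at h10

/-- **normal `3'`-subgroups are trivial** -/
theorem Dec.core_bot [Finite G] (d : Dec Z Q z a1 b1 a2 b2 P1 P2)
    (hY : ∃ g : G, ∃ y ∈ Z, g * y * g⁻¹ ∈ centralizer (Z : Set G) ∧ g * y * g⁻¹ ∉ Z) {W : Subgroup G} (hW : W.Normal)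
    (h3 : ¬ 3 ∣ Nat.card ↥W) : W = ⊥ := by
  obtain ⟨k, y, hy, hwC, hwZ⟩ := hY
  have hb := d.sb.base
  have hy1 : y ≠ 1 := by
    rintro rfl
    apply hwZ
    have : k * 1 * k⁻¹ = 1 := by group
    rw [this]; exact Z.one_mem
  have hy3 : y ^ 3 = 1 := by
    have h1 := Subgroup.orderOf_dvd_natCard Z hy
    rw [hb.card] at h1
    exact orderOf_dvd_iff_pow_eq_one.1 h1
  have hw3 : (k * y * k⁻¹) ^ 3 = 1 := by rw [conj_pow, hy3]; group
  have hwH : k * y * k⁻¹ ∈ HH Z Q a2 b2 := d.mem_HH_of_three hwC (k := 1) (by rw [pow_one]; exact hw3)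
  by_cases h1 : rho z a1 b1 (k * y * k⁻¹) = 1
  · exact d.core_three hW h3 hy hy1 hwC hwZ hw3 hwH h1
  by_cases h2 : rho z a2 b2 (k * y * k⁻¹) = 1
  · exact d.swap.core_three hW h3 hy hy1 hwC hwZ hw3 (d.sb.HH_le_swap hwH) h2
  exact d.core_four hW h3 ⟨k, y, hy, hy1, rfl⟩ hw3 hwH h1 h2

/-- `O_{3'}(G) = 1` -/
theorem Dec.pPrimeCore_eq_bot [Finite G] (d : Dec Z Q z a1 b1 a2 b2 P1 P2)
    (hY : ∃ g : G, ∃ y ∈ Z, g * y * g⁻¹ ∈ centralizer (Z : Set G) ∧ g * y * g⁻¹ ∉ Z) : Cfsg.pPrimeCore 3 G = ⊥ := by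
  refine d.core_bot hY (Cfsg.Agent.Lib.Cores.pPrimeCore_normal 3) ?_
  intro h
  have h1 := Cfsg.Agent.Lib.Cores.pPrimeCore_coprime (G := G) 3
  have h2 : 3 ∣ 1 := by
    have h3 := Nat.dvd_gcd h (dvd_refl 3)
    rwa [h1] at h3
  norm_num at h2

end Cfsg.Agent.H261
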