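import Cfsg.Agent.H815.HnFin
import Cfsg.Agent.H261.Fac

/-!
# The elimination at `3 ^ 6` (helper261)

`Fac.final6` : a known simple group with the data `Fac L 6` is `F_4(2)`, `PSU_6(2)`, or one of the nine groups of
`H815.Six3.surv`.
-/

set_option autoImplicit false

namespace Cfsg.Agent.H261

open Cfsg Cfsg.Agent.OrdDiv H815.Six3 H815.HnFin H815

universe u

theorem Fac.congr {L : Type*} [Group L] {M : Type*} [Group M] {v : ℕ} (h : Fac L v) (e : L ≃* M) : Fac M v where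
  dv := by rw [← Nat.card_congr e.toEquiv]; exact h.dv
  nv := by rw [← Nat.card_congr e.toEquiv]; exact h.nv
  hab := by
    intro A hA hc
    have h1 := h.hab (A.map e.symm.toMonoidHom) (hA.map _) (by
      rintro _ ⟨a, ha, rfl⟩ _ ⟨b, hb, rfl⟩
      rw [← map_mul, ← map_mul, hc a ha b hb])
    rwa [Subgroup.card_map_of_injective e.symm.injective] at h1
  cen := by
    intro y hy hd
    have h1 := H343.card_centralizer_equiv e.symm y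
    rw [← h1] at hd ⊢
    exact h.cen _ ((MulEquiv.orderOf_eq e.symm y).trans hy) hd
  ex := by
    obtain ⟨y, hy, hc⟩ := h.ex
    exact ⟨e y, (MulEquiv.orderOf_eq e y).trans hy, by rw [H343.card_centralizer_equiv e y]; exact hc⟩
  inv := by
    obtain ⟨y, hy, hc⟩ := h.inv
    exact ⟨e y, (MulEquiv.orderOf_eq e y).trans hy, by rw [H343.card_centralizer_equiv e y]; exact hc⟩
  sf := by
    intro h7
    obtain ⟨y, hy, hc⟩ := h.sf h7
    exact ⟨e y, (MulEquiv.orderOf_eq e y).trans hy, by rw [H343.card_centralizer_equiv e y]; exact hc⟩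

theorem Fac.hyp {L : Type*} [Group L] (h : Fac L 6) : Hyp L := ⟨h.dv, h.nv, h.hab⟩

theorem Fac.exists_cube {L : Type*} [Group L] {v : ℕ} (h : Fac L v) :
    ∃ y : L, y ^ 3 = 1 ∧ Nat.card (Subgroup.centralizer ({y} : Set L)) ∣ 2 ^ 7 * 3 ^ 7 := by
  obtain ⟨y, hy, hc⟩ := h.ex
  exact ⟨y, by rw [← hy, pow_orderOf_eq_one], h.cen y hy hc⟩

theorem pow6' {q : ℕ} (h2 : 2 ≤ q) (h3 : ¬ 3 ∣ q) (h : q ^ 6 ∣ 2 ^ 8 * 3 ^ 8) : q = 2 := by
  have h1 : q < 11 := by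
    by_contra hc
    have h4 : 11 ^ 6 ≤ q ^ 6 := Nat.pow_le_pow_left (by omega) 6
    have h5 := Nat.le_of_dvd (by norm_num) h
    norm_num at h4 h5
    omega
  interval_cases q <;> revert h h3 <;> decide

theorem pow9' {q : ℕ} (h2 : 2 ≤ q) (h3 : ¬ 3 ∣ q) (h : q ^ 9 ∣ 2 ^ 7 * 3 ^ 7) : False := by
  have h1 : q = 2 := pow6' h2 h3 (((pow_dvd_pow q (by norm_num)).trans h).trans (by norm_num))
  subst h1
  revert h
  decide

/-- the centralizer in `PSL_6(q)` -/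
theorem Fac.psl6 {F : Type*} [Field F] [Fintype F] {q : ℕ} (hF : Fintype.card F = q) (hq : q % 9 = 4 ∨ q % 9 = 7)
    (h : Fac (Matrix.ProjectiveSpecialLinearGroup (Fin 6) F) 6) : False := by
  have hq2 : 2 ≤ q := by
    rw [← hF]
    exact Fintype.one_lt_card
  obtain ⟨r, hr⟩ : ∃ r, q = 3 * r + 1 := ⟨q / 3, by omega⟩
  have hd1 : 3 ∣ q - 1 := ⟨r, by omega⟩
  obtain ⟨z, hz, hc⟩ := SixCentral.exists_psl hF hd1
  have hd2 : 3 ∣ q ^ 2 - 1 := by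
    have := Nat.sub_dvd_pow_sub_pow q 1 2
    rw [one_pow] at this
    exact hd1.trans this
  have hd3 : 9 ∣ q ^ 3 - 1 := by
    have e : q ^ 3 - 1 = 9 * (3 * r ^ 3 + 3 * r ^ 2 + r) := by
      rw [hr]
      have : (3 * r + 1) ^ 3 = 9 * (3 * r ^ 3 + 3 * r ^ 2 + r) + 1 := by ring
      omega
    exact ⟨_, e⟩
  have h1 : 3 ^ 7 ∣ 6 * Nat.card (Subgroup.centralizer ({z} : Set (Matrix.ProjectiveSpecialLinearGroup (Fin 6) F))) := by
    have h2 : 3 * (1 * 3 * 9) ^ 2 ∣ (q - 1) * (q ^ 3 * (q ^ 2 - 1) * (q ^ 3 - 1)) ^ 2 :=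
      Nat.mul_dvd_mul hd1 (pow_dvd_pow_of_dvd (Nat.mul_dvd_mul (Nat.mul_dvd_mul (one_dvd _) hd2) hd3) 2)
    rw [← hc] at h2
    exact (h2.trans (Nat.mul_dvd_mul_right (Nat.gcd_dvd_left 6 (q - 1)) _))
  have h2 : 3 ^ 6 ∣ Nat.card (Subgroup.centralizer ({z} : Set (Matrix.ProjectiveSpecialLinearGroup (Fin 6) F))) := by
    omega
  have h3 := h.cen z hz h2
  have h4 : q ^ 6 ∣ 2 ^ 8 * 3 ^ 8 := by
    have h5 : q ^ 6 ∣ (q - 1) * (q ^ 3 * (q ^ 2 - 1) * (q ^ 3 - 1)) ^ 2 :=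
      ⟨(q - 1) * ((q ^ 2 - 1) * (q ^ 3 - 1)) ^ 2, by ring⟩
    rw [← hc] at h5
    exact (h5.trans (Nat.mul_dvd_mul (Nat.gcd_dvd_left 6 (q - 1)) h3)).trans (by norm_num)
  have := pow6' hq2 (by omega) h4
  omega

/-- the centralizer in `PSU_6(q)` -/
theorem Fac.psu6 {F : Type*} [Field F] [Fintype F] {q : ℕ} (hF : Fintype.card F = q ^ 2) (hq : q % 9 = 2 ∨ q % 9 = 5)
    (h : Fac (PSU 6 F q) 6) : q = 2 := by
  have hq2 := ClassicalGeometry.GUBasic.two_le hF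
  obtain ⟨r, hr⟩ : ∃ r, q = 3 * r + 2 := ⟨q / 3, by omega⟩
  have hd1 : 3 ∣ q + 1 := ⟨r + 1, by omega⟩
  obtain ⟨z, hz, hc⟩ := SixCentral.exists_psu hF hd1
  have hd2 : 3 ∣ q ^ 2 - 1 := by
    have hq2 : q ^ 2 - 1 = (q + 1) * (q - 1) := by
      have := Nat.sq_sub_sq q 1
      simpa using this
    rw [hq2]
    exact hd1.mul_right _
  have hd3 : 9 ∣ q ^ 3 + 1 := by
    have e : q ^ 3 + 1 = 9 * (3 * r ^ 3 + 6 * r ^ 2 + 4 * r + 1) := by
      rw [hr]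
      ring
    exact ⟨_, e⟩
  have h1 : 3 ^ 7 ∣ 6 * Nat.card (Subgroup.centralizer ({z} : Set (PSU 6 F q))) := by
    have h2 : 3 * (1 * 3 * 9) ^ 2 ∣ (q + 1) * (q ^ 3 * (q ^ 2 - 1) * (q ^ 3 + 1)) ^ 2 :=
      Nat.mul_dvd_mul hd1 (pow_dvd_pow_of_dvd (Nat.mul_dvd_mul (Nat.mul_dvd_mul (one_dvd _) hd2) hd3) 2)
    rw [← hc] at h2
    exact (h2.trans (Nat.mul_dvd_mul_right (Nat.gcd_dvd_left 6 (q + 1)) _))
  have h2 : 3 ^ 6 ∣ Nat.card (Subgroup.centralizer ({z} : Set (PSU 6 F q))) := by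
    omega
  have h3 := h.cen z hz h2
  have h4 : q ^ 6 ∣ 2 ^ 8 * 3 ^ 8 := by
    have h5 : q ^ 6 ∣ (q + 1) * (q ^ 3 * (q ^ 2 - 1) * (q ^ 3 + 1)) ^ 2 :=
      ⟨(q + 1) * ((q ^ 2 - 1) * (q ^ 3 + 1)) ^ 2, by ring⟩
    rw [← hc] at h5
    exact (h5.trans (Nat.mul_dvd_mul (Nat.gcd_dvd_left 6 (q + 1)) h3)).trans (by norm_num)
  exact pow6' hq2 (by omega) h4

theorem Fac.f4 {F : Type} [Field F] [Fintype F] {v : ℕ} (h3 : ¬ 3 ∣ Fintype.card F) (h : Fac ↥(Lie.chevF4.group F) v) :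
    Fintype.card F = 2 := by
  obtain ⟨r, hr⟩ := CharP.exists F
  have hp : Fact r.Prime := ⟨CharP.char_is_prime F r⟩
  obtain ⟨z, hz, hc⟩ := h.exists_cube
  have h1 := H261.pow_dvd_F4 F (char_ne_three r h3) z hz
  rw [Nat.card_eq_fintype_card] at h1
  exact pow6' Fintype.one_lt_card h3 ((h1.trans hc).trans (by norm_num))

theorem Fac.e6 {F : Type} [Field F] [Fintype F] {v : ℕ} (h3 : ¬ 3 ∣ Fintype.card F) (h : Fac ↥(Lie.chevE6.group F) v) :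
    False := by
  obtain ⟨r, hr⟩ := CharP.exists F
  have hp : Fact r.Prime := ⟨CharP.char_is_prime F r⟩
  obtain ⟨z, hz, hc⟩ := h.exists_cube
  have h1 := H261.pow_dvd_E6 F (char_ne_three r h3) z hz
  rw [Nat.card_eq_fintype_card] at h1
  exact pow9' Fintype.one_lt_card h3 (h1.trans hc)

theorem Fac.te6 {F : Type} [Field F] [Fintype F] {v q : ℕ} (hq : IsPrimePow q) (hF : Fintype.card F = q ^ 2) (h3 : ¬ 3 ∣ q)
    (h : Fac ↥(Lie.twistedE6 F q) v) : False := by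
  obtain ⟨r, n, hp, hr, hr3, hn, hqn⟩ := exists_char hq (by norm_num) hF h3
  obtain ⟨z, hz, hc⟩ := h.exists_cube
  have h1 := H261.Tw.pow_dvd_twE6 F hr3 hn hqn hF z hz
  exact pow9' hq.two_le h3 (h1.trans hc)

theorem Fac.td4 (T : OrderTable.{u}) {F : Type} [Field F] [Fintype F] {v q : ℕ} (hv : 6 ≤ v) (hq : IsPrimePow q)
    (hF : Fintype.card F = q ^ 3) (h3 : ¬ 3 ∣ q) (h : Fac ↥(Lie.twistedD4 F q) v) : False := by
  obtain ⟨r, n, hp, hr, hr3, hn, hqn⟩ := exists_char hq (by norm_num) hF h3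
  obtain ⟨z, hz, hc⟩ := h.exists_cube
  have h1 := (H261.Tw.pow_dvd_twD4 F hr3 hn hqn hF z hz).trans hc
  have h2 : q = 2 ∨ q = 4 := by
    have h2 := hq.two_le
    have h4 : q < 67 := by
      by_contra hcon
      have h4 : 67 ^ 3 ≤ q ^ 3 := Nat.pow_le_pow_left (by omega) 3
      have h5 := Nat.le_of_dvd (by norm_num) h1
      norm_num at h4 h5
      omega
    interval_cases q <;> first | (left; rfl) | (right; rfl) | (exfalso; revert h1 h3; decide)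
  have h6 := (pow_dvd_pow 3 hv).trans h.dv
  rcases h2 with rfl | rfl
  · have h4 := T.td4 F 2 hq hF
    rw [h4] at h6
    revert h6
    decide
  · have h4 := T.td4 F 4 hq hF
    rw [h4] at h6
    revert h6
    decide

/-- **the elimination** -/
theorem Fac.final6 (T : OrderTable.{u}) {L : Type u} [Group L] (hK : IsKnownSimple' L) (h : Fac L 6) :
    (∃ (F : Type) (_ : Field F) (_ : Fintype F), Fintype.card F = 2 ∧ Nonempty (L ≃* ↥(Cfsg.Lie.chevF4.group F))) ∨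
    (∃ (F : Type) (_ : Field F) (_ : Fintype F), Fintype.card F = 2 ^ 2 ∧ Nonempty (L ≃* Cfsg.PSU 6 F 2)) ∨
    ∃ g ∈ surv, Real g L := by
  rcases kind6' T hK h.hyp with ⟨q, hq, F, _, _, hF, ⟨e⟩⟩ | ⟨q, hq, F, _, _, hF, ⟨e⟩⟩ |
    ⟨q, hq, ⟨F, _, _, hF, ⟨e⟩⟩ | ⟨F, _, _, hF, ⟨e⟩⟩⟩ | ⟨q, hqp, hq, ⟨F, _, _, hF, ⟨e⟩⟩ | ⟨F, _, _, hF, ⟨e⟩⟩⟩ | ⟨g, hg, hr⟩
  · exact (Fac.psl6 hF hq (h.congr e)).elim
  · have h2 := Fac.psu6 hF hq (h.congr e)
    subst h2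
    exact Or.inr (Or.inl ⟨F, inferInstance, inferInstance, hF, ⟨e⟩⟩)
  · have h3 : ¬ 3 ∣ Fintype.card F := by rw [hF]; exact hq
    exact Or.inl ⟨F, inferInstance, inferInstance, Fac.f4 h3 (h.congr e), ⟨e⟩⟩
  · exact (Fac.e6 (by rw [hF]; exact hq) (h.congr e)).elim
  · exact (Fac.te6 hqp hF hq (h.congr e)).elim
  · exact (Fac.td4 T le_rfl hqp hF hq (h.congr e)).elim
  · exact Or.inr (Or.inr ⟨g, hg, hr⟩)

end Cfsg.Agent.H261
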