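import Cfsg.Agent.H261.Seven
import Cfsg.Agent.R10.Close
import Cfsg.Agent.BpSpor.CoThreeCent
import Cfsg.Agent.H245.SuzInv
import Cfsg.Agent.SporRec.Co3.Model

/-!
# `3^7` : the three sporadic groups (helper261)

`fac7_false` : there is no known simple group with `Fac K 7`.
-/

set_option autoImplicit false

namespace Cfsg.Agent.H261.Seven

open Cfsg Cfsg.Agent.OrdDiv

universe u

theorem suz_false (h : Fac Cfsg.Spor.Suz 7) : False := by
  obtain ⟨t, ht, hc⟩ := h.inv
  have h1 : t ≠ 1 := by
    rintro rfl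
    rw [orderOf_one] at ht
    norm_num at ht
  have h2 : t * t = 1 := by rw [← pow_two, ← ht, pow_orderOf_eq_one]
  rcases H245.SuzInv.card_cent t h1 h2 with h3 | h3 <;> rw [h3] at hc <;> revert hc <;> decide

theorem ly_false (h : Fac Cfsg.Spor.Ly 7) : False := by
  obtain ⟨t, ht, hc⟩ := h.inv
  obtain ⟨g, hg⟩ := R10.Close.one_class ht
  have h2 : Nat.card (Subgroup.centralizer ({t} : Set Cfsg.Spor.Ly)) = 39916800 := by
    rw [← hg, ← R10.Close.cover_τ.1]
    exact H343.card_centralizer_equiv (MulAut.conj g) R10.Close.τ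
  rw [h2] at hc
  revert hc
  decide

theorem co3_false (h : Fac Cfsg.Spor.Co3 7) : False := by
  obtain ⟨y, hy, hc⟩ := (h.congr SporRec.Co3.Model.equivCo3.symm).sf rfl
  exact BpSpor.CoThree.not_sixty_four hy hc

/-- **nothing at `3^7`** -/
theorem fac7_false (T : OrderTable.{u}) {L : Type u} [Group L] (hK : IsKnownSimple' L) (hf : Fac L 7) : False := by
  obtain ⟨g, hg, hr⟩ := kind7 T hK hf
  simp only [List.mem_cons, List.not_mem_nil, or_false] at hg
  rcases hg with rfl | rfl | rfl
  · obtain ⟨e⟩ := hr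
    exact suz_false (hf.congr e)
  · obtain ⟨e⟩ := hr
    exact ly_false (hf.congr e)
  · obtain ⟨e⟩ := hr
    exact co3_false (hf.congr e)

end Cfsg.Agent.H261.Seven
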