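import Cfsg.Agent.H261.Main
import Cfsg.Agent.H261.SevenSpor
import Cfsg.Agent.H838.SurvSix
import Cfsg.Agent.OrdDiv.Table

/-!
# `F_4(2)` and `PSU_6(2)` (helper261)
-/

set_option autoImplicit false

namespace Cfsg.Agent.H261

open Cfsg Cfsg.Agent.OrdDiv

universe u

/-- **the final list** -/
theorem Red.final {G : Type u} [Group G] {Z Q L : Subgroup G} (h : Red Z Q L) (hK : IsKnownSimple' ↥L) :
    (∃ (F : Type) (_ : Field F) (_ : Fintype F), Fintype.card F = 2 ∧ Nonempty (↥L ≃* ↥(Cfsg.Lie.chevF4.group F))) ∨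
    (∃ (F : Type) (_ : Field F) (_ : Fintype F), Fintype.card F = 2 ^ 2 ∧ Nonempty (↥L ≃* Cfsg.PSU 6 F 2)) := by
  rcases h.fac with h6 | h7
  · rcases h6.final6 OrdDiv.table.{u} hK with h1 | h1 | ⟨g, hg, hr⟩
    · exact Or.inl h1
    · exact Or.inr h1
    · exact (H838.SurvSix.surv6_false hg hr h6).elim
  · exact (Seven.fac7_false OrdDiv.table.{u} hK h7).elim

end Cfsg.Agent.H261
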