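import Mathlib
import Cfsg.Agent.H261.Core
import Cfsg.Agent.H815.HnLoc

/-!
# The `3`-central elements of `L` (helper261)

`Dec.conj_of_dvd` : an element of `L ≥ Q` centralized by a Sylow `3`-subgroup of `L` is conjugate in `L` into `Z`.
`Dec.relIndex_of_wc`, `Dec.class_mod` : if `Z` is weakly closed in `Q`, the class of `z` in `L` has `1` or `2` elements
modulo `9`.
-/

set_option autoImplicit false
set_option linter.unusedSectionVars false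

namespace Cfsg.Agent.H261

open Subgroup Cfsg

variable {G : Type*} [Group G] {Z Q : Subgroup G} {z a1 b1 a2 b2 : G} {P1 P2 : Subgroup G}

/-- weak closure in terms of elements -/
theorem Base.wc_elem [Finite G] (hb : Base Z Q)
    (h : ∀ g : G, Z.map (MulAut.conj g).toMonoidHom ≤ Q → Z.map (MulAut.conj g).toMonoidHom = Z) :
    ∀ g : G, ∀ y ∈ Z, g * y * g⁻¹ ∈ Q → g * y * g⁻¹ ∈ Z := by
  intro g y hy hyQ
  by_cases hy1 : y = 1
  · subst hy1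
    have : g * 1 * g⁻¹ = 1 := by group
    rw [this]; exact Z.one_mem
  · have h1 : Z.map (MulAut.conj g).toMonoidHom ≤ Q := by
      rintro _ ⟨x, hx, rfl⟩
      obtain ⟨n, rfl⟩ := Subgroup.mem_zpowers_iff.1 (Gen.zpowers hb.card hy hy1 hx)
      change g * y ^ n * g⁻¹ ∈ Q
      rw [← conj_zpow]
      exact Q.zpow_mem hyQ n
    have h2 := h g h1
    rw [← h2]
    exact ⟨y, hy, rfl⟩

namespace Dec

variable (d : Dec Z Q z a1 b1 a2 b2 P1 P2)
include d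

theorem exists_TL [Finite G] {L : Subgroup G} (hQL : Q ≤ L) :
    ∃ (T : Sylow 3 ↥L) (TL : Subgroup G), TL = (T : Subgroup ↥L).map L.subtype ∧ Q ≤ TL ∧ TL ≤ L ∧
      TL ≤ centralizer (Z : Set G) ∧ (∀ x : ↥L, (x : G) ∈ TL ↔ x ∈ (T : Subgroup ↥L)) ∧
      Nat.card ↥TL = Nat.card ↥(T : Subgroup ↥L) := by
  have hb := d.sb.base
  have hQp : IsPGroup 3 ↥(Q.subgroupOf L) := hb.pQ.of_equiv (subgroupOfEquivOfLe hQL).symm
  obtain ⟨T, hT⟩ := hQp.exists_le_sylow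
  obtain ⟨TL, hTL⟩ : ∃ TL, TL = (T : Subgroup ↥L).map L.subtype := ⟨_, rfl⟩
  have hTLp : IsPGroup 3 ↥TL := by rw [hTL]; exact T.isPGroup'.map _
  have hQT : Q ≤ TL := by
    intro e he
    rw [hTL]
    exact ⟨⟨e, hQL he⟩, hT (by rw [Subgroup.mem_subgroupOf]; exact he), rfl⟩
  have hTLL : TL ≤ L := by
    rw [hTL]; rintro _ ⟨x, -, rfl⟩; exact x.2
  have hTC := d.loc.le_cent Nat.prime_three hTLp hQT
  have hTLm : ∀ x : ↥L, (x : G) ∈ TL ↔ x ∈ (T : Subgroup ↥L) := by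
    intro x
    rw [hTL]
    constructor
    · rintro ⟨y, hy, hyx⟩
      have : y = x := Subtype.ext hyx
      rwa [← this]
    · intro hx; exact ⟨x, hx, rfl⟩
  have hTcard : Nat.card ↥TL = Nat.card ↥(T : Subgroup ↥L) := by
    rw [hTL]
    exact (Nat.card_congr ((T : Subgroup ↥L).equivMapOfInjective _ L.subtype_injective).toEquiv).symm
  exact ⟨T, TL, hTL, hQT, hTLL, hTC, hTLm, hTcard⟩

theorem dvd_cent [Finite G] {L : Subgroup G} (hQL : Q ≤ L) {v : ℕ} (hv : 3 ^ v ∣ Nat.card ↥L) {y : ↥L}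
    (hy : (y : G) ∈ Z) (hy1 : (y : G) ≠ 1) : 3 ^ v ∣ Nat.card (centralizer ({y} : Set ↥L)) ∧
      Nat.card (centralizer ({y} : Set ↥L)) ∣ 2 ^ 7 * 3 ^ 7 := by
  obtain ⟨T, TL, -, -, hTLL, hTC, -, hc⟩ := d.exists_TL hQL
  rw [card_cent_coe, d.sb.base.cent_of_mem hy hy1]
  refine ⟨?_, (Subgroup.card_dvd_of_le inf_le_right).trans d.card_C⟩
  have h1 := T.pow_dvd_card_of_pow_dvd_card hv
  rw [← hc] at h1
  exact h1.trans (Subgroup.card_dvd_of_le (le_inf hTLL hTC))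

theorem conj_of_dvd [Finite G] {L : Subgroup G} (hQL : Q ≤ L) {v : ℕ} (hv : 3 ^ v ∣ Nat.card ↥L)
    (hnv : ¬ 3 ^ (v + 1) ∣ Nat.card ↥L) {y : ↥L} (hyv : 3 ^ v ∣ Nat.card (centralizer ({y} : Set ↥L))) :
    ∃ g : ↥L, ((g * y * g⁻¹ : ↥L) : G) ∈ Z := by
  obtain ⟨T, TL, hTL, hQT, hTLL, hTC, hTLm, hTc⟩ := d.exists_TL hQL
  have hTv : Nat.card ↥(T : Subgroup ↥L) = 3 ^ v := by
    obtain ⟨k, hk⟩ := IsPGroup.iff_card.1 T.isPGroup'
    have h1 := T.pow_dvd_card_of_pow_dvd_card hv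
    rw [hk] at h1 ⊢
    have h2 := (Nat.pow_dvd_pow_iff_le_right (by norm_num)).1 h1
    have h3 : k < v + 1 := by
      by_contra hcon
      apply hnv
      exact (pow_dvd_pow 3 (not_lt.1 hcon)).trans (by rw [← hk]; exact Subgroup.card_subgroup_dvd_card _)
    congr 1
    omega
  obtain ⟨S⟩ : Nonempty (Sylow 3 ↥(centralizer ({y} : Set ↥L))) := inferInstance
  have hS : 3 ^ v ∣ Nat.card ↥(S : Subgroup ↥(centralizer ({y} : Set ↥L))) := S.pow_dvd_card_of_pow_dvd_card hyv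
  have hSp : IsPGroup 3 ↥((S : Subgroup ↥(centralizer ({y} : Set ↥L))).map (centralizer ({y} : Set ↥L)).subtype) :=
    S.isPGroup'.map _
  obtain ⟨P, hP⟩ := hSp.exists_le_sylow
  have hPc : Nat.card ↥(P : Subgroup ↥L) = 3 ^ v := by
    rw [← hTv, Sylow.card_eq_multiplicity, Sylow.card_eq_multiplicity]
  have hPS : ((S : Subgroup ↥(centralizer ({y} : Set ↥L))).map (centralizer ({y} : Set ↥L)).subtype) = P := by
    apply Subgroup.eq_of_le_of_card_ge hP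
    rw [hPc, Subgroup.card_map_of_injective (centralizer ({y} : Set ↥L)).subtype_injective]
    exact Nat.le_of_dvd Nat.card_pos hS
  have hPy : ∀ p ∈ (P : Subgroup ↥L), p * y = y * p := by
    intro p hp
    rw [← hPS] at hp
    obtain ⟨x, -, rfl⟩ := hp
    exact Subgroup.mem_centralizer_singleton_iff.1 x.2
  obtain ⟨g, hg⟩ := MulAction.exists_smul_eq ↥L P T
  have hTy : ∀ t ∈ (T : Subgroup ↥L), t * (g * y * g⁻¹) = (g * y * g⁻¹) * t := by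
    intro t ht
    rw [← hg] at ht
    have h1 : g⁻¹ * t * g ∈ (P : Subgroup ↥L) := by
      have h2 := (Subgroup.mem_pointwise_smul_iff_inv_smul_mem (a := MulAut.conj g) (S := (P : Subgroup ↥L))).1 ht
      rw [← map_inv] at h2
      simpa [MulAut.smul_def] using h2
    have h3 := hPy _ h1
    calc t * (g * y * g⁻¹) = g * ((g⁻¹ * t * g) * y) * g⁻¹ := by group
      _ = g * (y * (g⁻¹ * t * g)) * g⁻¹ := by rw [h3]
      _ = (g * y * g⁻¹) * t := by group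
  refine ⟨g, d.loc.center_of_le hQT fun t ht => ?_⟩
  have h1 := hTy ⟨t, hTLL ht⟩ ((hTLm _).1 ht)
  exact congrArg Subtype.val h1

/-- if `Z` is weakly closed in `Q`, the other conjugates of `z` have at least `9` conjugates under `Q` -/
theorem relIndex_of_wc [Finite G] (hwc : ∀ g : G, ∀ y ∈ Z, g * y * g⁻¹ ∈ Q → g * y * g⁻¹ ∈ Z) {y : G} (hy : Pu Z y)
    (hyZ : y ∉ Z) : 9 ∣ (centralizer {y}).relIndex Q := by
  have hb := d.sb.base
  have h1 := Subgroup.relIndex_dvd_card (centralizer {y}) Q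
  rw [hb.cardQ] at h1
  obtain ⟨j, hj, hj2⟩ := (Nat.dvd_prime_pow Nat.prime_three).1 h1
  rw [hj2]
  by_contra hcon
  have hj1 : j ≤ 1 := by
    by_contra h2
    exact hcon (pow_dvd_pow 3 (show 2 ≤ j by omega))
  obtain ⟨k, y0, hy0, hy01, rfl⟩ := hy
  have h2 := card_mul_relIndex' (inf_le_right : centralizer {k * y0 * k⁻¹} ⊓ Q ≤ Q)
  rw [Subgroup.inf_relIndex_right, hj2, hb.cardQ] at h2
  obtain ⟨B, hB⟩ : ∃ B, B = centralizer {k * y0 * k⁻¹} ⊓ Q := ⟨_, rfl⟩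
  rw [← hB] at h2
  have hB81 : 81 ≤ Nat.card ↥B := by
    have h3 : 3 ^ j ≤ 3 := by
      calc 3 ^ j ≤ 3 ^ 1 := Nat.pow_le_pow_right (by norm_num) hj1
        _ = 3 := by norm_num
    by_contra h4
    push Not at h4
    have : Nat.card ↥B * 3 ^ j ≤ 80 * 3 := Nat.mul_le_mul (by omega) h3
    omega
  have hBQ : B ≤ Q := by rw [hB]; exact inf_le_right
  have h3 : ∃ r ∈ B, ∃ s ∈ B, r * s ≠ s * r := by
    by_contra hcon
    push Not at hcon
    have := d.sb.card_abelian_le hBQ hcon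
    omega
  obtain ⟨r, hr, s, hs, hrs⟩ := h3
  have hc : r * s * r⁻¹ * s⁻¹ ∈ Z := hb.comm r (hBQ hr) s (hBQ hs)
  have hc1 : r * s * r⁻¹ * s⁻¹ ≠ 1 := by
    intro h4
    apply hrs
    calc r * s = (r * s * r⁻¹ * s⁻¹) * (s * r) := by group
      _ = s * r := by rw [h4, one_mul]
  -- conjugate back
  obtain ⟨X, hX⟩ : ∃ X : Subgroup G, X = B.map (MulAut.conj k⁻¹).toMonoidHom := ⟨_, rfl⟩
  have hXp : IsPGroup 3 ↥X := by
    rw [hX]
    exact (hb.pQ.to_le hBQ).map _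
  have hmem : ∀ x ∈ B, k⁻¹ * x * k ∈ X := by
    intro x hx
    rw [hX]
    refine ⟨x, hx, ?_⟩
    change k⁻¹ * x * (k⁻¹)⁻¹ = _
    rw [inv_inv]
  have hXC : X ≤ centralizer (Z : Set G) := by
    rw [hX]
    rintro _ ⟨x, hx, rfl⟩
    change k⁻¹ * x * (k⁻¹)⁻¹ ∈ _
    rw [inv_inv, ← hb.cent_of_mem hy0 hy01, Subgroup.mem_centralizer_singleton_iff]
    have hx' : x ∈ centralizer {k * y0 * k⁻¹} ⊓ Q := hB.le hx
    have h5 := Subgroup.mem_centralizer_singleton_iff.1 hx'.1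
    calc k⁻¹ * x * k * y0 = k⁻¹ * (x * (k * y0 * k⁻¹)) * k := by group
      _ = k⁻¹ * (k * y0 * k⁻¹ * x) * k := by rw [h5]
      _ = y0 * (k⁻¹ * x * k) := by group
  have h4 := d.comm_mem_Q hXp hXC (hmem r hr) (hmem s hs)
  have h5 : k⁻¹ * r * k * (k⁻¹ * s * k) * (k⁻¹ * r * k)⁻¹ * (k⁻¹ * s * k)⁻¹ = k⁻¹ * (r * s * r⁻¹ * s⁻¹) * k⁻¹⁻¹ := by
    group
  rw [h5] at h4
  have h6 := hwc _ _ hc h4
  apply hyZ
  have h7 : k⁻¹ * (r * s * r⁻¹ * s⁻¹) * k⁻¹⁻¹ ≠ 1 := by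
    intro h8
    exact hc1 (conj_eq_one_iff.1 h8)
  refine hb.conj_mem_of h6 h7 ?_ hy0
  have h8 : k * (k⁻¹ * (r * s * r⁻¹ * s⁻¹) * k⁻¹⁻¹) * k⁻¹ = r * s * r⁻¹ * s⁻¹ := by group
  rw [h8]
  exact hc

open Cfsg.Agent.H815.HnLoc in
/-- the class of `z` in `L` modulo `9` -/
theorem class_mod [Finite G] (hwc : ∀ g : G, ∀ y ∈ Z, g * y * g⁻¹ ∈ Q → g * y * g⁻¹ ∈ Z) {L : Subgroup G} (hQL : Q ≤ L) :
    (centralizer {z}).relIndex L % 9 = 1 ∨ (centralizer {z}).relIndex L % 9 = 2 := by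
  have hb := d.sb.base
  have gg := d.sb.gen
  let O : Set G := {y | ∃ g ∈ L, g * z * g⁻¹ = y}
  have hO : ∀ m ∈ L, ∀ y ∈ O, m * y * m⁻¹ ∈ O := by
    rintro m hm _ ⟨g, hg, rfl⟩
    exact ⟨m * g, L.mul_mem hm hg, by group⟩
  have hz0 : z ∈ O := ⟨1, L.one_mem, by group⟩
  have hOc : Nat.card ↥O = (centralizer {z}).relIndex L := by
    rw [← card_orbit L O hO ⟨z, hz0⟩]
    let _ := conjAct L O hO
    have h1 : MulAction.orbit ↥L (⟨z, hz0⟩ : ↥O) = Set.univ := by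
      rw [Set.eq_univ_iff_forall]
      rintro ⟨_, g, hg, rfl⟩
      exact ⟨⟨g, hg⟩, rfl⟩
    rw [h1, Nat.card_univ]
  rw [← hOc]
  have hR9 : 9 ∣ Nat.card ↥{y : G | y ∈ O ∧ y ∉ Z} := by
    refine dvd_card Q _ ?_ 9 ?_
    · rintro m hm y ⟨h1, h2⟩
      refine ⟨hO m (hQL hm) y h1, fun h3 => h2 ?_⟩
      have h4 := hb.conj_Z (hb.leC (Q.inv_mem hm)) h3
      have h5 : m⁻¹ * (m * y * m⁻¹) * m⁻¹⁻¹ = y := by group
      rw [h5] at h4
      rw [h4]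
      exact h3
    · rintro y ⟨⟨g, -, rfl⟩, h2⟩
      exact d.relIndex_of_wc hwc ⟨g, z, gg.mem, gg.ne, rfl⟩ h2
  have hZ2 : Set.ncard {y : G | y ∈ O ∧ y ∈ Z} = 1 ∨ Set.ncard {y : G | y ∈ O ∧ y ∈ Z} = 2 := by
    have h1 : {y : G | y ∈ O ∧ y ∈ Z} ⊆ {z, z ^ 2} := by
      rintro y ⟨⟨g, -, rfl⟩, h2⟩
      rcases gg.all _ h2 with h3 | h3 | h3
      · exact absurd (conj_eq_one_iff.1 h3) gg.ne
      · exact Or.inl h3
      · exact Or.inr h3
    have h2 : ({z} : Set G) ⊆ {y : G | y ∈ O ∧ y ∈ Z} := by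
      rintro y rfl
      exact ⟨hz0, gg.mem⟩
    have h3 := Set.ncard_le_ncard h1 (Set.toFinite _)
    have h4 := Set.ncard_le_ncard h2 (Set.toFinite _)
    rw [Set.ncard_singleton] at h4
    have h5 : Set.ncard ({z, z ^ 2} : Set G) ≤ 2 := Set.ncard_insert_le _ _ |>.trans (by rw [Set.ncard_singleton])
    omega
  have hpart : O = {y : G | y ∈ O ∧ y ∈ Z} ∪ {y : G | y ∈ O ∧ y ∉ Z} := by
    ext y
    constructor
    · intro hy
      by_cases h : y ∈ Z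
      · exact Or.inl ⟨hy, h⟩
      · exact Or.inr ⟨hy, h⟩
    · rintro (h | h)
      · exact h.1
      · exact h.1
  have hdis : Disjoint {y : G | y ∈ O ∧ y ∈ Z} {y : G | y ∈ O ∧ y ∉ Z} := by
    rw [Set.disjoint_left]
    rintro y ⟨-, h1⟩ ⟨-, h2⟩
    exact h2 h1
  have hsum : Nat.card ↥O = Set.ncard {y : G | y ∈ O ∧ y ∈ Z} + Nat.card ↥{y : G | y ∈ O ∧ y ∉ Z} := by
    have e1 := Set.ncard_union_eq hdis (Set.toFinite _) (Set.toFinite _)
    rw [← hpart] at e1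
    exact e1
  rw [hsum]
  obtain ⟨r, hr⟩ := hR9
  rw [hr]
  rcases hZ2 with h | h
  · left; omega
  · right; omega

end Dec

end Cfsg.Agent.H261
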