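import Mathlib
import Cfsg.Prelude.Def_Transfer
import Cfsg.Agent.H261.QLe

/-!
# The hypotheses of the statements (helper261)

`base_of` : the structure `Base`, `dec_of` : the structure `Dec`, from the hypotheses of S2938.
-/

set_option autoImplicit false
set_option linter.unusedSectionVars false

namespace Cfsg.Agent.H261

open Subgroup Cfsg

theorem exists_invol : ∃ u v : QuaternionGroup 2 × QuaternionGroup 2, u * u = 1 ∧ v * v = 1 ∧ u ≠ 1 ∧ v ≠ 1 ∧
    u * v ≠ 1 ∧ (∀ x, x * u = u * x) ∧ (∀ x, x * v = v * x) := by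
  refine ⟨(QuaternionGroup.a 2, 1), (1, QuaternionGroup.a 2), ?_⟩
  decide +kernel

theorem card_Q8 : Nat.card (QuaternionGroup 2 × QuaternionGroup 2) = 64 := by
  rw [Nat.card_prod, Nat.card_eq_fintype_card, QuaternionGroup.card]

/-- the 2-group in a group with a normal 3-group -/
theorem exists_P {K : Type*} [Group K] [Finite K] (F : Subgroup K) [hF : F.Normal] (hFc : Nat.card ↥F = 3 ^ 5)
    (N : Subgroup (K ⧸ F)) (hN : N.Normal) (e : ↥N ≃* QuaternionGroup 2 × QuaternionGroup 2) :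
    ∃ P : Subgroup K, Nat.card ↥P = 64 ∧ (∀ k : K, ∀ p ∈ P, ∃ q ∈ F, ∃ p' ∈ P, k * p * k⁻¹ = q * p') ∧
      ∃ t ∈ P, ∃ t' ∈ P, t * t = 1 ∧ t' * t' = 1 ∧ t ≠ 1 ∧ t' ≠ 1 ∧ t * t' ≠ 1 ∧ (∀ p ∈ P, p * t = t * p) ∧
        (∀ p ∈ P, p * t' = t' * p) := by
  obtain ⟨M, hM⟩ : ∃ M, M = N.comap (QuotientGroup.mk' F) := ⟨_, rfl⟩
  have hFM : F ≤ M := by
    intro x hx
    rw [hM, Subgroup.mem_comap, QuotientGroup.mk'_apply, (QuotientGroup.eq_one_iff x).2 hx]
    exact N.one_mem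
  let f : ↥M →* K ⧸ F := (QuotientGroup.mk' F).comp M.subtype
  have hk : f.ker = F.subgroupOf M := by
    ext x
    rw [MonoidHom.mem_ker, Subgroup.mem_subgroupOf]
    exact QuotientGroup.eq_one_iff (x : K)
  have hr : f.range = N := by
    ext y
    constructor
    · rintro ⟨⟨x, hx⟩, rfl⟩
      rw [hM] at hx
      exact hx
    · intro hy
      obtain ⟨x, rfl⟩ := QuotientGroup.mk'_surjective F y
      exact ⟨⟨x, by rw [hM]; exact hy⟩, rfl⟩
  have hNc : Nat.card ↥N = 64 := by rw [Nat.card_congr e.toEquiv, card_Q8]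
  have hidx : (F.subgroupOf M).index = 64 := by rw [← hk, Subgroup.index_ker, hr, hNc]
  have hFMc : Nat.card ↥(F.subgroupOf M) = 3 ^ 5 := by
    rw [Nat.card_congr (subgroupOfEquivOfLe hFM).toEquiv, hFc]
  obtain ⟨P', hP'⟩ := Subgroup.exists_right_complement'_of_coprime (N := F.subgroupOf M)
    (by rw [hidx, hFMc]; norm_num)
  have hP'c : Nat.card ↥P' = 64 := by
    have h1 := hP'.card_mul_card
    have h2 := Subgroup.card_mul_index (F.subgroupOf M)
    rw [hidx, hFMc] at h2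
    rw [hFMc, ← h2] at h1
    exact Nat.eq_of_mul_eq_mul_left (by norm_num) h1
  obtain ⟨P, hP⟩ : ∃ P, P = P'.map M.subtype := ⟨_, rfl⟩
  have hPc : Nat.card ↥P = 64 := by
    rw [hP, Nat.card_congr (P'.equivMapOfInjective _ M.subtype_injective).toEquiv.symm, hP'c]
  have hPM : P ≤ M := by
    rw [hP]; rintro _ ⟨x, -, rfl⟩; exact x.2
  have hsplit : ∀ x ∈ M, ∃ q ∈ F, ∃ p ∈ P, x = q * p := by
    intro x hx
    obtain ⟨⟨q, p⟩, hqp, -⟩ := hP'.existsUnique ⟨x, hx⟩
    refine ⟨(q : ↥M), q.2, (p : ↥M), ?_, (congrArg Subtype.val hqp).symm⟩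
    rw [hP]; exact ⟨p, p.2, rfl⟩
  have hPF : ∀ x ∈ P, x ∈ F → x = 1 := by
    intro x hx hxF
    have h1 : orderOf x ∣ 64 := by
      rw [← hPc, ← Subgroup.orderOf_mk x hx]; exact orderOf_dvd_natCard _
    have h2 : orderOf x ∣ 3 ^ 5 := by
      rw [← hFc, ← Subgroup.orderOf_mk x hxF]; exact orderOf_dvd_natCard _
    have h3 := Nat.dvd_gcd h1 h2
    norm_num at h3
    exact h3
  have hlift : ∀ n : ↥N, ∃ p ∈ P, (QuotientGroup.mk' F p : K ⧸ F) = n := by
    intro n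
    obtain ⟨x, hx⟩ := QuotientGroup.mk'_surjective F (n : K ⧸ F)
    have hxM : x ∈ M := by rw [hM, Subgroup.mem_comap, hx]; exact n.2
    obtain ⟨q, hq, p, hp, rfl⟩ := hsplit x hxM
    refine ⟨p, hp, ?_⟩
    rw [← hx, map_mul]
    have : QuotientGroup.mk' F q = 1 := (QuotientGroup.eq_one_iff q).2 hq
    rw [this, one_mul]
  have hmkN : ∀ p ∈ P, QuotientGroup.mk' F p ∈ N := by
    intro p hp
    have := hPM hp
    rw [hM] at this
    exact this
  have hinj : ∀ p ∈ P, ∀ p' ∈ P, QuotientGroup.mk' F p = QuotientGroup.mk' F p' → p = p' := by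
    intro p hp p' hp' h
    have h1 : p⁻¹ * p' ∈ F := QuotientGroup.eq.1 h
    have h2 := hPF _ (P.mul_mem (P.inv_mem hp) hp') h1
    exact inv_mul_eq_one.1 h2
  refine ⟨P, hPc, ?_, ?_⟩
  · intro k p hp
    refine hsplit _ ?_
    rw [hM, Subgroup.mem_comap, map_mul, map_mul, map_inv]
    exact hN.conj_mem _ (hmkN p hp) _
  · obtain ⟨u, v, hu, hv, hu1, hv1, huv, hcu, hcv⟩ := exists_invol
    obtain ⟨t, ht, htu⟩ := hlift (e.symm u)
    obtain ⟨t', ht', htv⟩ := hlift (e.symm v)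
    have hval : ∀ a b : ↥N, (a : K ⧸ F) = b → a = b := fun a b h => Subtype.ext h
    refine ⟨t, ht, t', ht', ?_, ?_, ?_, ?_, ?_, ?_, ?_⟩
    · refine hinj _ (P.mul_mem ht ht) 1 P.one_mem ?_
      rw [map_mul, map_one, htu, ← Subgroup.coe_mul, ← map_mul, hu, map_one, Subgroup.coe_one]
    · refine hinj _ (P.mul_mem ht' ht') 1 P.one_mem ?_
      rw [map_mul, map_one, htv, ← Subgroup.coe_mul, ← map_mul, hv, map_one, Subgroup.coe_one]
    · rintro rfl
      rw [map_one] at htu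
      have := hval (e.symm u) 1 (by rw [← htu]; rfl)
      exact hu1 (by simpa using this)
    · rintro rfl
      rw [map_one] at htv
      have := hval (e.symm v) 1 (by rw [← htv]; rfl)
      exact hv1 (by simpa using this)
    · intro h
      have h1 : QuotientGroup.mk' F (t * t') = 1 := by rw [h, map_one]
      rw [map_mul, htu, htv, ← Subgroup.coe_mul, ← map_mul] at h1
      have h2 := hval (e.symm (u * v)) 1 (by rw [h1]; rfl)
      exact huv (e.symm.map_eq_one_iff.1 h2)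
    · intro p hp
      refine hinj _ (P.mul_mem hp ht) _ (P.mul_mem ht hp) ?_
      obtain ⟨n, hn⟩ : ∃ n : ↥N, (n : K ⧸ F) = QuotientGroup.mk' F p := ⟨⟨_, hmkN p hp⟩, rfl⟩
      rw [map_mul, map_mul, htu, ← hn, ← Subgroup.coe_mul, ← Subgroup.coe_mul]
      congr 1
      apply e.injective
      rw [map_mul, map_mul, e.apply_symm_apply]
      exact hcu _
    · intro p hp
      refine hinj _ (P.mul_mem hp ht') _ (P.mul_mem ht' hp) ?_
      obtain ⟨n, hn⟩ : ∃ n : ↥N, (n : K ⧸ F) = QuotientGroup.mk' F p := ⟨⟨_, hmkN p hp⟩, rfl⟩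
      rw [map_mul, map_mul, htv, ← hn, ← Subgroup.coe_mul, ← Subgroup.coe_mul]
      congr 1
      apply e.injective
      rw [map_mul, map_mul, e.apply_symm_apply]
      exact hcv _

variable {G : Type*} [Group G] [Finite G] {Z : Subgroup G}

/-- `Base` from the hypotheses. -/
theorem base_of (hZ : Nat.card ↥Z = 3)
    (hQ : IsExtraspecial 3 ↥(generalizedFittingSubgroup ↥(centralizer (Z : Set G))))
    (hQc : Nat.card ↥(generalizedFittingSubgroup ↥(centralizer (Z : Set G))) = 3 ^ 5) :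
    Base Z ((generalizedFittingSubgroup ↥(centralizer (Z : Set G))).map (centralizer (Z : Set G)).subtype) := by
  obtain ⟨C, hC⟩ : ∃ C, C = centralizer (Z : Set G) := ⟨_, rfl⟩
  rw [← hC] at hQ hQc ⊢
  obtain ⟨F, hF⟩ : ∃ F, F = generalizedFittingSubgroup ↥C := ⟨_, rfl⟩
  rw [← hF] at hQ hQc ⊢
  have hFn : F.Normal := by rw [hF]; exact Cfsg.Agent.Lib.GenFitting.genFitting_normal
  have hFC : centralizer (F : Set ↥C) ≤ F := by
    rw [hF]; exact Cfsg.Agent.Lib.GenFitting.centralizer_genFitting_le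
  have hcc : Nat.card ↥(center ↥F) = 3 := hQ.2
  have hZC : Z ≤ C := by
    have : Fact (Nat.Prime 3) := ⟨Nat.prime_three⟩
    obtain ⟨z, g⟩ := exists_Gen hZ
    have key : ∀ x ∈ Z, ∃ n : ℕ, x = z ^ n := by
      intro x hx
      rcases g.all x hx with h | h | h
      · exact ⟨0, by rw [h, pow_zero]⟩
      · exact ⟨1, by rw [h, pow_one]⟩
      · exact ⟨2, h⟩
    rw [hC]
    intro x hx
    rw [mem_cent_iff]
    intro y hy
    obtain ⟨n, rfl⟩ := key x hx
    obtain ⟨m, rfl⟩ := key y hy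
    rw [← pow_add, ← pow_add, add_comm]
  have hCm : ∀ x ∈ C, ∀ y ∈ Z, y * x = x * y := by
    intro x hx y hy
    rw [hC] at hx
    exact mem_cent_comm hx hy
  -- `Z ≤ F`
  have hZF : ∀ x (hx : x ∈ Z), (⟨x, hZC hx⟩ : ↥C) ∈ F := by
    intro x hx
    refine hFC (mem_cent_iff.2 fun y _ => ?_)
    exact Subtype.ext (hCm y y.2 x hx).symm
  have hZF' : Z ≤ F.map C.subtype := fun x hx => ⟨⟨x, hZC hx⟩, hZF x hx, rfl⟩
  -- the centre of F
  have hmap : ∀ x : ↥F, (∀ y : ↥F, y * x = x * y) → ((x : ↥C) : G) ∈ Z := by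
    -- Z injects in the centre
    let ι : ↥Z → ↥(center ↥F) := fun x => ⟨⟨⟨x, hZC x.2⟩, hZF x x.2⟩, by
      rw [Subgroup.mem_center_iff]
      intro y
      apply Subtype.ext
      apply Subtype.ext
      exact (hCm _ (y : ↥C).2 x x.2).symm⟩
    have hι : Function.Injective ι := by
      intro x y h
      apply Subtype.ext
      have := congrArg (fun w : ↥(center ↥F) => (((w : ↥F) : ↥C) : G)) h
      exact this
    have hb := (Nat.bijective_iff_injective_and_card ι).2 ⟨hι, by rw [hZ, hcc]⟩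
    intro x hx
    obtain ⟨w, hw⟩ := hb.2 ⟨x, Subgroup.mem_center_iff.2 hx⟩
    have := congrArg (fun w : ↥(center ↥F) => (((w : ↥F) : ↥C) : G)) hw
    simp only [ι] at this
    rw [← this]; exact w.2
  have hmem : ∀ x (hx : x ∈ C), x ∈ F.map C.subtype ↔ (⟨x, hx⟩ : ↥C) ∈ F := by
    intro x hx
    constructor
    · rintro ⟨y, hy, rfl⟩; exact hy
    · intro h; exact ⟨⟨x, hx⟩, h, rfl⟩
  have hnormal : ∀ A : Subgroup G, A ≤ C → C ≤ normalizer (A : Set G) → (A.subgroupOf C).Normal := by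
    intro A hAC hA
    refine ⟨fun y hy c => ?_⟩
    rw [Subgroup.mem_subgroupOf] at hy ⊢
    exact (Subgroup.mem_normalizer_iff.1 (hA c.2) y).1 hy
  refine ⟨hZ, hZF', ?_, ?_, ?_, ?_, ?_, ?_, ?_, ?_⟩
  · rw [← hC]; rintro _ ⟨x, -, rfl⟩; exact x.2
  · rw [Nat.card_congr (F.equivMapOfInjective _ C.subtype_injective).toEquiv.symm, hQc]
  · rw [← hC]
    refine le_normalizer_of_conj ?_
    rintro c hc _ ⟨y, hy, rfl⟩
    exact ⟨⟨c, hc⟩ * y * ⟨c, hc⟩⁻¹, hFn.conj_mem y hy _, rfl⟩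
  · intro x hx
    have hxC : x ∈ C := by
      rw [hC, mem_cent_iff]
      intro z hz
      exact mem_cent_comm hx (hZF' hz)
    rw [hmem x hxC]
    refine hFC (mem_cent_iff.2 fun y hy => ?_)
    exact Subtype.ext (mem_cent_comm hx ⟨y, hy, rfl⟩)
  · rintro _ ⟨x, hx, rfl⟩ _ ⟨y, hy, rfl⟩
    have h1 : (⟨x, hx⟩ : ↥F) * ⟨y, hy⟩ * (⟨x, hx⟩ : ↥F)⁻¹ * (⟨y, hy⟩ : ↥F)⁻¹ ∈ center ↥F := by
      rw [← hQ.1.2.2]
      exact Subgroup.commutator_mem_commutator (Subgroup.mem_top _) (Subgroup.mem_top _)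
    exact hmap _ (Subgroup.mem_center_iff.1 h1)
  · rintro _ ⟨x, hx, rfl⟩ h
    refine hmap ⟨x, hx⟩ fun y => ?_
    apply Subtype.ext
    apply Subtype.ext
    exact h _ ⟨y, y.2, rfl⟩
  · intro A hAC hA hAp
    rw [← hC] at hAC hA
    have : Fact (Nat.Prime 3) := ⟨Nat.prime_three⟩
    have h1 : IsPGroup 3 ↥(A.subgroupOf C) := hAp.of_equiv (subgroupOfEquivOfLe hAC).symm
    have h2 : Group.IsNilpotent ↥(A.subgroupOf C) := h1.isNilpotent
    have h3 := Cfsg.Agent.Lib.Cores.le_fittingSubgroup (hnormal A hAC hA) h2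
    intro x hx
    rw [hmem x (hAC hx), hF]
    exact Cfsg.Agent.Lib.GenFitting.fitting_le_genFitting (h3 (by rw [Subgroup.mem_subgroupOf]; exact hx))
  · intro A hAC hA hab
    rw [← hC] at hAC hA
    have h2 : Group.IsNilpotent ↥(A.subgroupOf C) := by
      let _ : CommGroup ↥(A.subgroupOf C) :=
        { (inferInstance : Group ↥(A.subgroupOf C)) with
          mul_comm := by
            rintro ⟨a, ha⟩ ⟨b, hb⟩
            apply Subtype.ext
            apply Subtype.ext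
            exact hab _ ha _ hb }
      exact CommGroup.isNilpotent
    have h3 := Cfsg.Agent.Lib.Cores.le_fittingSubgroup (hnormal A hAC hA) h2
    intro x hx
    rw [hmem x (hAC hx), hF]
    exact Cfsg.Agent.Lib.GenFitting.fitting_le_genFitting (h3 (by rw [Subgroup.mem_subgroupOf]; exact hx))

/-- `Dec` from the hypotheses. -/
theorem dec_of (hZ : Nat.card ↥Z = 3)
    (hQ : IsExtraspecial 3 ↥(generalizedFittingSubgroup ↥(centralizer (Z : Set G))))
    (hQc : Nat.card ↥(generalizedFittingSubgroup ↥(centralizer (Z : Set G))) = 3 ^ 5)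
    (hN : ∃ _ : (generalizedFittingSubgroup ↥(centralizer (Z : Set G))).Normal,
      ∃ N : Subgroup (↥(centralizer (Z : Set G)) ⧸ generalizedFittingSubgroup ↥(centralizer (Z : Set G))),
      N.Normal ∧ Nonempty (↥N ≃* QuaternionGroup 2 × QuaternionGroup 2)) :
    ∃ (z a1 b1 a2 b2 : G) (P1 P2 : Subgroup G),
      Dec Z ((generalizedFittingSubgroup ↥(centralizer (Z : Set G))).map (centralizer (Z : Set G)).subtype)
        z a1 b1 a2 b2 P1 P2 := by
  have hb := base_of hZ hQ hQc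
  obtain ⟨hFn, N, hNn, ⟨e⟩⟩ := hN
  obtain ⟨P, hPc, hfac, t, ht, t', ht', h1, h2, h3, h4, h5, h6, h7⟩ := exists_P _ hQc N hNn e
  obtain ⟨z, a1, b1, a2, b2, P1, P2, hd, -, -⟩ := exists_Dec hb (P := P.map (centralizer (Z : Set G)).subtype)
    (by rintro _ ⟨x, -, rfl⟩; exact x.2)
    (by rw [Nat.card_congr (P.equivMapOfInjective _ (centralizer (Z : Set G)).subtype_injective).toEquiv.symm, hPc])
    (t := t) (t' := t') ⟨t, ht, rfl⟩ ⟨t', ht', rfl⟩
    (congrArg Subtype.val h1) (congrArg Subtype.val h2) (fun h => h3 (Subtype.ext h)) (fun h => h4 (Subtype.ext h))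
    (fun h => h5 (Subtype.ext h))
    (by rintro _ ⟨x, hx, rfl⟩; exact congrArg Subtype.val (h6 x hx))
    (by rintro _ ⟨x, hx, rfl⟩; exact congrArg Subtype.val (h7 x hx))
    (by
      rintro c hc _ ⟨x, hx, rfl⟩
      obtain ⟨q, hq, p', hp', h⟩ := hfac ⟨c, hc⟩ x hx
      exact ⟨q, ⟨q, hq, rfl⟩, p', ⟨p', hp', rfl⟩, congrArg Subtype.val h⟩)
  exact ⟨z, a1, b1, a2, b2, P1, P2, hd⟩

end Cfsg.Agent.H261
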