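import Cfsg.Agent.H261.Core
import Cfsg.Agent.H261.QLe
import Cfsg.Agent.H261.Elim
import Cfsg.Agent.H261.Setup

/-!
# The main reduction (helper261)

`Dec.reduce` : `L = F*(G)` is simple, contains `Q`, has trivial centralizer and satisfies `Fac L 6` or `Fac L 7`.
-/

set_option autoImplicit false
set_option linter.unusedSectionVars false

namespace Cfsg.Agent.H261

open Subgroup Cfsg

/-- the conclusion of the reduction -/
structure Red {G : Type*} [Group G] (Z Q L : Subgroup G) : Prop where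
  normal : L.Normal
  simple : IsSimpleGroup ↥L
  nab : ¬ IsMulCommutative ↥L
  Z_le : Z ≤ L
  cent : Subgroup.centralizer (L : Set G) = ⊥
  Q_le : Q ≤ L
  fac : Fac ↥L 6 ∨ Fac ↥L 7

variable {G : Type*} [Group G] {Z Q : Subgroup G} {z a1 b1 a2 b2 : G} {P1 P2 : Subgroup G}

theorem Dec.reduce [Finite G] (d : Dec Z Q z a1 b1 a2 b2 P1 P2)
    (hY : ∃ g : G, ∃ y ∈ Z, g * y * g⁻¹ ∈ centralizer (Z : Set G) ∧ g * y * g⁻¹ ∉ Z) :
    Red Z Q (Cfsg.generalizedFittingSubgroup G) := by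
  have h1 := d.loc.simple Nat.prime_three (d.pPrimeCore_eq_bot hY) (by
    obtain ⟨g, y, hy, -, h⟩ := hY
    exact ⟨g, y, hy, h⟩)
  obtain ⟨h2, h3, h4, h5, h6⟩ := h1
  have h7 := d.Q_le h2 h5 hY
  exact ⟨h2, h3, h4, h5, h6, h7, d.fac h2 h7 hY⟩

/-- a conjugate of `Z` in a `3`-group containing `Z`, or in the centralizer -/
theorem exists_Y [Finite G] {g : G} (h1 : Z.map (MulAut.conj g).toMonoidHom ≤ centralizer (Z : Set G))
    (h2 : Z.map (MulAut.conj g).toMonoidHom ≠ Z) :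
    ∃ g : G, ∃ y ∈ Z, g * y * g⁻¹ ∈ centralizer (Z : Set G) ∧ g * y * g⁻¹ ∉ Z := by
  by_contra hcon
  push Not at hcon
  apply h2
  apply Subgroup.eq_of_le_of_card_ge
  · rintro _ ⟨y, hy, rfl⟩
    exact hcon g y hy (h1 ⟨y, hy, rfl⟩)
  · rw [Subgroup.card_map_of_injective (MulAut.conj g).injective]

/-- a Sylow `3`-subgroup containing `Z` -/
theorem Dec.sylow_cases [Finite G] (d : Dec Z Q z a1 b1 a2 b2 P1 P2) (S : Sylow 3 G) (hZS : Z ≤ (S : Subgroup G)) :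
    (S : Subgroup G) ≤ centralizer (Z : Set G) ∨
    ∃ g : G, ∃ y ∈ Z, g * y * g⁻¹ ∈ centralizer (Z : Set G) ∧ g * y * g⁻¹ ∉ Z := by
  obtain ⟨T, hT⟩ := d.loc.pQ.exists_le_sylow
  have hTC : (T : Subgroup G) ≤ centralizer (Z : Set G) := d.loc.le_cent Nat.prime_three T.isPGroup' hT
  obtain ⟨h, hh⟩ := MulAction.exists_smul_eq G T S
  have hS : ∀ s ∈ (S : Subgroup G), h⁻¹ * s * h ∈ (T : Subgroup G) := by
    intro s hs
    rw [← hh] at hs
    have h2 := (Subgroup.mem_pointwise_smul_iff_inv_smul_mem (a := MulAut.conj h) (S := (T : Subgroup G))).1 hs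
    rw [← map_inv] at h2
    simpa [MulAut.smul_def] using h2
  have hcent : ∀ s ∈ (S : Subgroup G), ∀ y ∈ Z, h * y * h⁻¹ * s = s * (h * y * h⁻¹) := by
    intro s hs y hy
    have h1 := mem_cent_comm (hTC (hS s hs)) hy
    calc h * y * h⁻¹ * s = h * (y * (h⁻¹ * s * h)) * h⁻¹ := by group
      _ = h * (h⁻¹ * s * h * y) * h⁻¹ := by rw [h1]
      _ = s * (h * y * h⁻¹) := by group
  by_cases hcon : ∀ y ∈ Z, h * y * h⁻¹ ∈ Z
  · left
    intro s hs
    have hsurj : ∀ x ∈ Z, ∃ y ∈ Z, h * y * h⁻¹ = x := by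
      intro x hx
      have h1 : Z.map (MulAut.conj h).toMonoidHom = Z := by
        apply Subgroup.eq_of_le_of_card_ge
        · rintro _ ⟨y, hy, rfl⟩
          exact hcon y hy
        · rw [Subgroup.card_map_of_injective (MulAut.conj h).injective]
      rw [← h1] at hx
      obtain ⟨y, hy, h2⟩ := hx
      exact ⟨y, hy, h2⟩
    rw [mem_cent_iff]
    intro x hx
    obtain ⟨y, hy, rfl⟩ := hsurj x hx
    exact hcent s hs y hy
  · right
    push Not at hcon
    obtain ⟨y, hy, h1⟩ := hcon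
    refine ⟨h, y, hy, ?_, h1⟩
    rw [mem_cent_iff]
    intro x hx
    exact (hcent x (hZS hx) y hy).symm

theorem Dec.exists_Y_of_sylow [Finite G] (d : Dec Z Q z a1 b1 a2 b2 P1 P2) (S : Sylow 3 G) (hZS : Z ≤ (S : Subgroup G))
    (h : ∃ g : G, Z.map (MulAut.conj g).toMonoidHom ≤ (S : Subgroup G) ∧ Z.map (MulAut.conj g).toMonoidHom ≠ Z) :
    ∃ g : G, ∃ y ∈ Z, g * y * g⁻¹ ∈ centralizer (Z : Set G) ∧ g * y * g⁻¹ ∉ Z := by
  rcases d.sylow_cases S hZS with h1 | h1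
  · obtain ⟨g, hg, hg1⟩ := h
    exact exists_Y (hg.trans h1) hg1
  · exact h1

end Cfsg.Agent.H261
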