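import Cfsg.Agent.H261.LFacts
import Cfsg.Agent.H261.Elim

/-!
# `PSU_6(2)` is excluded if `Z` is not weakly closed in `Q` (helper261)
-/

set_option autoImplicit false
set_option linter.unusedSectionVars false

namespace Cfsg.Agent.H261

open Subgroup Cfsg Cfsg.Agent.OrdDiv

universe u

/-- an element of order three, all of whose conjugates commute only in a special way -/
def Pure (P : Type*) [Group P] : Prop :=
  ∃ u : P, orderOf u = 3 ∧ 46656 ∣ Nat.card (centralizer ({u} : Set P)) ∧ ∀ z y : P, z ≠ 1 → y ≠ 1 → z * y = y * z →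
    (∀ x, (x = z ∨ x = y ∨ x = z * y ∨ x = z * (y * y)) → x = 1 ∨ ∃ g, g * x * g⁻¹ = u ∨ g * x * g⁻¹ = u⁻¹) →
      y = z ∨ y = z⁻¹

variable {G : Type*} [Group G] {Z Q : Subgroup G} {z a1 b1 a2 b2 : G} {P1 P2 : Subgroup G}

theorem Pu.inv {x : G} (h : Pu Z x) : Pu Z x⁻¹ := by
  obtain ⟨g, y, hy, hy1, rfl⟩ := h
  exact ⟨g, y⁻¹, Z.inv_mem hy, inv_ne_one.2 hy1, by group⟩

theorem pu_all (g : Gen Z z) {w q : G} (hw : Pu Z w) (hc : q * w * q⁻¹ * w⁻¹ ∈ Z)
    (hqC : q ∈ centralizer (Z : Set G)) (hc1 : q * w * q⁻¹ * w⁻¹ ≠ 1) : ∀ d ∈ Z, Pu Z (d * w) := by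
  obtain ⟨c, hcd⟩ : ∃ c, c = q * w * q⁻¹ * w⁻¹ := ⟨_, rfl⟩
  rw [← hcd] at hc hc1
  have h1 : Pu Z (c * w) := by
    have h2 : c * w = q * w * q⁻¹ := by rw [hcd]; group
    rw [h2]; exact hw.conj q
  have h2 : Pu Z (c * (c * w)) := by
    have h4 : c * (c * w) = q * (c * w) * q⁻¹ := by
      have h5 : q * c = c * q := (mem_cent_comm hqC hc).symm
      calc c * (c * w) = c * (q * w * q⁻¹ * w⁻¹ * w) := by rw [← hcd]
        _ = (c * q) * w * q⁻¹ := by group
        _ = (q * c) * w * q⁻¹ := by rw [h5]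
        _ = q * (c * w) * q⁻¹ := by group
    rw [h4]; exact h1.conj q
  have hc2 : c = z ∨ c = z ^ 2 := (g.all c hc).resolve_left hc1
  have hz4 : z ^ 2 * (z ^ 2) = z := by
    calc z ^ 2 * z ^ 2 = z ^ 3 * z := by group
      _ = z := by rw [g.cube, one_mul]
  intro d hd
  rcases g.all d hd with rfl | rfl | rfl
  · rw [one_mul]; exact hw
  · rcases hc2 with rfl | h5
    · exact h1
    · rw [h5, ← mul_assoc, hz4] at h2; exact h2
  · rcases hc2 with rfl | rfl
    · rw [← mul_assoc, ← pow_two] at h2; exact h2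
    · exact h1

theorem card_cent_conj {L : Subgroup G} (hL : L.Normal) {x y : ↥L} {k : G} (h : (x : G) = k * y * k⁻¹) :
    Nat.card (centralizer ({x} : Set ↥L)) = Nat.card (centralizer ({y} : Set ↥L)) := by
  rw [card_cent_coe, card_cent_coe, h]
  refine Nat.card_congr
    { toFun := fun b => ⟨k⁻¹ * b.1 * k, ?_, ?_⟩
      invFun := fun b => ⟨k * b.1 * k⁻¹, ?_, ?_⟩
      left_inv := fun b => Subtype.ext (by group)
      right_inv := fun b => Subtype.ext (by group) }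
  · have := hL.conj_mem _ b.2.1 k⁻¹
    rwa [inv_inv] at this
  · have h1 := mem_centralizer_singleton_iff.1 b.2.2
    exact mem_centralizer_singleton_iff.2 (by
      calc k⁻¹ * b.1 * k * y = k⁻¹ * (b.1 * (k * y * k⁻¹)) * k := by group
        _ = k⁻¹ * (k * y * k⁻¹ * b.1) * k := by rw [h1]
        _ = _ := by group)
  · exact hL.conj_mem _ b.2.1 k
  · have h1 := mem_centralizer_singleton_iff.1 b.2.2
    exact mem_centralizer_singleton_iff.2 (by
      calc k * b.1 * k⁻¹ * (k * y * k⁻¹) = k * (b.1 * y) * k⁻¹ := by group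
        _ = k * (y * b.1) * k⁻¹ := by rw [h1]
        _ = _ := by group)

/-- **`L` is not pure** -/
theorem Dec.not_pure [Finite G] (d : Dec Z Q z a1 b1 a2 b2 P1 P2) {L : Subgroup G} (hL : L.Normal) (hQL : Q ≤ L)
    (h6 : 3 ^ 6 ∣ Nat.card ↥L) (h7 : ¬ 3 ^ 7 ∣ Nat.card ↥L)
    (hY : ∃ g : G, ∃ y ∈ Z, g * y * g⁻¹ ∈ Q ∧ g * y * g⁻¹ ∉ Z) {P : Type*} [Group P] (e : ↥L ≃* P) (hP : Pure P) : False := by
  have hb := d.sb.base
  have gg := d.sb.gen
  obtain ⟨u, hu3, huc, hu⟩ := hP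
  obtain ⟨k, y, hy, hwQ, hwZ⟩ := hY
  have hy1 : y ≠ 1 := by
    rintro rfl
    apply hwZ
    have : k * 1 * k⁻¹ = 1 := by group
    rw [this]; exact Z.one_mem
  obtain ⟨w, hw⟩ : ∃ w, w = k * y * k⁻¹ := ⟨_, rfl⟩
  rw [← hw] at hwQ hwZ
  have hwP : Pu Z w := ⟨k, y, hy, hy1, hw⟩
  -- the elements of `Z`
  have huc' : 3 ^ 6 ∣ Nat.card (centralizer ({e.symm u} : Set ↥L)) := by
    rw [H343.card_centralizer_equiv]
    exact (by norm_num : 3 ^ 6 ∣ 46656).trans huc
  obtain ⟨g0, hg0⟩ := d.conj_of_dvd hQL h6 h7 huc'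
  have hg01 : ((g0 * e.symm u * g0⁻¹ : ↥L) : G) ≠ 1 := by
    intro h1
    have h2 : g0 * e.symm u * g0⁻¹ = 1 := Subtype.ext h1
    have h3 : e.symm u = 1 := conj_eq_one_iff.1 h2
    rw [map_eq_one_iff _ e.symm.injective] at h3
    rw [h3, orderOf_one] at hu3
    norm_num at hu3
  obtain ⟨c, hc⟩ : ∃ c : ↥L, c = g0 * e.symm u * g0⁻¹ := ⟨_, rfl⟩
  rw [← hc] at hg0 hg01
  have hZc : ∀ x ∈ Z, x ≠ 1 → x = c ∨ x = (c : G)⁻¹ := by
    intro x hx hx1
    have h1 := gg.all x hx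
    have h2 := gg.all c hg0
    have h3 : z⁻¹ = z ^ 2 := by
      rw [inv_eq_iff_mul_eq_one, ← pow_succ', gg.cube]
    have h4 : (z ^ 2)⁻¹ = z := by rw [← h3, inv_inv]
    rcases h1 with h1 | h1 | h1
    · exact absurd h1 hx1
    · rcases h2 with h2 | h2 | h2
      · exact absurd h2 hg01
      · exact Or.inl (h1.trans h2.symm)
      · exact Or.inr (by rw [h1, h2, h4])
    · rcases h2 with h2 | h2 | h2
      · exact absurd h2 hg01
      · exact Or.inr (by rw [h1, h2, h3])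
      · exact Or.inl (h1.trans h2.symm)
  have key : ∀ x : ↥L, Pu Z (x : G) → ∃ g : P, g * e x * g⁻¹ = u ∨ g * e x * g⁻¹ = u⁻¹ := by
    intro x hx
    obtain ⟨k', y', hy', hy1', hxy⟩ := hx
    have h1 : 3 ^ 6 ∣ Nat.card (centralizer ({x} : Set ↥L)) := by
      rw [card_cent_conj hL (x := x) (y := ⟨y', hQL (hb.le hy')⟩) hxy]
      exact (d.dvd_cent hQL h6 (y := ⟨y', hQL (hb.le hy')⟩) hy' hy1').1
    obtain ⟨g, hg⟩ := d.conj_of_dvd hQL h6 h7 h1
    have hx1 : (x : G) ≠ 1 := by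
      rw [hxy]
      intro h2
      exact hy1' (conj_eq_one_iff.1 h2)
    have hg1 : ((g * x * g⁻¹ : ↥L) : G) ≠ 1 := by
      intro h2
      have h3 : g * x * g⁻¹ = 1 := Subtype.ext h2
      exact hx1 (congrArg Subtype.val (conj_eq_one_iff.1 h3))
    have h2 : g0⁻¹ * g * x * (g0⁻¹ * g)⁻¹ = g0⁻¹ * (g * x * g⁻¹) * g0 := by group
    have h3 : g0⁻¹ * c * g0 = e.symm u := by rw [hc]; group
    refine ⟨e (g0⁻¹ * g), ?_⟩
    rcases hZc _ hg hg1 with h4 | h4
    · left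
      have h5 : g * x * g⁻¹ = c := Subtype.ext h4
      rw [← map_inv, ← map_mul, ← map_mul, h2, h5, h3, e.apply_symm_apply]
    · right
      have h5 : g * x * g⁻¹ = c⁻¹ := Subtype.ext h4
      have h6 : g0⁻¹ * c⁻¹ * g0 = (e.symm u)⁻¹ := by rw [← h3]; group
      rw [← map_inv, ← map_mul, ← map_mul, h2, h5, h6, map_inv, e.apply_symm_apply]
  -- the element of `Q`
  obtain ⟨q, hq, hqw⟩ : ∃ q ∈ Q, q * w ≠ w * q := by
    by_contra hcon
    push Not at hcon
    exact hwZ (hb.ctr w hwQ hcon)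
  have hall := pu_all gg hwP (hb.comm q hq w hwQ) (hb.leC hq) (by
    intro h1
    apply hqw
    calc q * w = (q * w * q⁻¹ * w⁻¹) * (w * q) := by group
      _ = w * q := by rw [h1, one_mul])
  have hw3 : w ^ 3 = 1 := d.cube hwQ
  have hzw : z * w = w * z := mem_cent_comm (hb.leC hwQ) gg.mem
  have hzL : z ∈ L := hQL (hb.le gg.mem)
  have hwL : w ∈ L := hQL hwQ
  have hz4 : Pu Z (z * (w * w)) := by
    have h1 := (hall (z ^ 2) (Z.pow_mem gg.mem 2)).inv
    have h2 : (z ^ 2 * w)⁻¹ = z * (w * w) := by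
      have h3 : w⁻¹ = w * w := by
        rw [inv_eq_iff_mul_eq_one, ← pow_two, ← pow_succ', hw3]
      have h4 : (z ^ 2)⁻¹ = z := by
        rw [inv_eq_iff_mul_eq_one, ← pow_succ, gg.cube]
      rw [mul_inv_rev, h3, h4]
      calc w * w * z = w * (w * z) := by group
        _ = w * (z * w) := by rw [hzw]
        _ = (w * z) * w := by group
        _ = z * w * w := by rw [hzw]
        _ = z * (w * w) := by group
    rwa [h2] at h1
  have hfin := hu (e ⟨z, hzL⟩) (e ⟨w, hwL⟩) ?_ ?_ ?_ ?_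
  · rcases hfin with h1 | h1
    · have h2 := congrArg Subtype.val (e.injective h1)
      apply hwZ
      change w = z at h2
      rw [h2]; exact gg.mem
    · rw [← map_inv] at h1
      have h2 := congrArg Subtype.val (e.injective h1)
      apply hwZ
      change w = z⁻¹ at h2
      rw [h2]; exact Z.inv_mem gg.mem
  · intro h1
    rw [map_eq_one_iff _ e.injective] at h1
    exact gg.ne (congrArg Subtype.val h1)
  · intro h1
    rw [map_eq_one_iff _ e.injective] at h1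
    apply hwZ
    have h2 : w = 1 := congrArg Subtype.val h1
    rw [h2]; exact Z.one_mem
  · rw [← map_mul, ← map_mul]
    exact congrArg e (Subtype.ext hzw)
  · rintro x (rfl | rfl | rfl | rfl)
    · exact Or.inr (key ⟨z, hzL⟩ ⟨1, z, gg.mem, gg.ne, by group⟩)
    · exact Or.inr (key ⟨w, hwL⟩ hwP)
    · right
      rw [← map_mul]
      exact key (⟨z, hzL⟩ * ⟨w, hwL⟩) (hall z gg.mem)
    · right
      rw [← map_mul, ← map_mul]
      exact key (⟨z, hzL⟩ * (⟨w, hwL⟩ * ⟨w, hwL⟩)) hz4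

end Cfsg.Agent.H261
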